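/-
Copyright: Cfsg agents. Alternating trilinear forms over F2 have a degenerate residual.
-/
import Mathlib.FieldTheory.ChevalleyWarning
import Mathlib.LinearAlgebra.Matrix.NonsingularInverse
import Mathlib.LinearAlgebra.Matrix.ToLinearEquiv
import Mathlib.RingTheory.MvPolynomial.Homogeneous
import Mathlib.Algebra.MvPolynomial.Division
import Mathlib.Algebra.MvPolynomial.NoZeroDivisors

/-!
# No alternating trilinear form over F2 with all residual forms of maximal rank

If `T` is alternating trilinear on `F2^ι`, `|ι| >= 4`, then for some `v ≠ 0` the form `T v` has a radical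
larger than `⟨v⟩`.  The adjugate of the matrix of `T x` is `x x^T h` with `h` of degree `|ι| - 3` vanishing
at the origin only, against Chevalley-Warning.
-/

set_option autoImplicit false

namespace Cfsg.Agent.Grp.Antiflag

open Matrix MvPolynomial

variable {ι : Type*} [Fintype ι] [DecidableEq ι]

/-- The generic matrix of a trilinear form. -/
noncomputable def genMatrix (T : ι → ι → ι → ZMod 2) :
    Matrix ι ι (MvPolynomial ι (ZMod 2)) :=
  fun i j => ∑ k, C (T k i j) * X k

theorem genMatrix_homogeneous (T : ι → ι → ι → ZMod 2) (i j : ι) :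
    (genMatrix T i j).IsHomogeneous 1 :=
  IsHomogeneous.sum _ _ _ fun k _ => isHomogeneous_C_mul_X _ _

theorem adjugate_diag_homogeneous (T : ι → ι → ι → ZMod 2) (i : ι) :
    ((genMatrix T).adjugate i i).IsHomogeneous (Fintype.card ι - 1) := by
  rw [adjugate_apply, det_apply]
  refine IsHomogeneous.sum _ _ _ fun σ _ => ?_
  have h : (∏ k, (genMatrix T).updateRow i (Pi.single i 1) (σ k) k).IsHomogeneous
      (∑ k, if σ k = i then 0 else 1) := by
    refine IsHomogeneous.prod _ _ _ fun k _ => ?_
    by_cases hk : σ k = i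
    · rw [if_pos hk, hk, updateRow_self]
      by_cases hki : k = i
      · rw [hki, Pi.single_eq_same]
        exact isHomogeneous_one _ _
      · rw [Pi.single_eq_of_ne hki]
        exact isHomogeneous_zero _ _ _
    · rw [if_neg hk, updateRow_ne hk]
      exact genMatrix_homogeneous T _ _
  have hsum : (∑ k, if σ k = i then 0 else 1) = Fintype.card ι - 1 := by
    rw [Equiv.sum_comp σ (fun k => if k = i then 0 else 1)]
    simp [Finset.sum_ite, Finset.filter_ne', Finset.card_erase_of_mem]
  rw [hsum] at h
  rcases Int.units_eq_one_or (Equiv.Perm.sign σ) with hs | hs <;> simp only [hs, Units.neg_smul, one_smul]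
  · exact h
  · exact h.neg

theorem no_alternating_trilinear_aux (T : ι → ι → ι → ZMod 2) (hN : 4 ≤ Fintype.card ι)
    (hsym : ∀ k i j, T k i j = T k j i) (hswap : ∀ k i j, T k i j = T j i k)
    (hdiag : ∀ k i, T k i k = 0)
    (hrank : ∀ v y : ι → ZMod 2, v ≠ 0 → (∀ i, ∑ j, ∑ k, T k i j * v k * y j = 0) → y = 0 ∨ y = v)
    (M : Matrix ι ι (MvPolynomial ι (ZMod 2))) (hM : ∀ i j, M i j = ∑ k, C (T k i j) * X k)
    (hhom : ∀ i, (M.adjugate i i).IsHomogeneous (Fintype.card ι - 1)) :
    False := by
  classical
  let x : ι → (MvPolynomial ι (ZMod 2)) := fun i => X i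
  have h2 : ∀ a : (MvPolynomial ι (ZMod 2)), a + a = 0 := fun a => CharTwo.add_self_eq_zero a
  have hMx : M *ᵥ x = 0 := by
    funext i
    let f : ι × ι → (MvPolynomial ι (ZMod 2)) := fun q => C (T q.2 i q.1) * X q.2 * X q.1
    have e : (M *ᵥ x) i = ∑ q : ι × ι, f q := by
      rw [Fintype.sum_prod_type]
      exact Finset.sum_congr rfl fun j _ => (congrArg (· * x j) (hM i j)).trans (Finset.sum_mul ..)
    refine e.trans (Finset.sum_involution (fun q _ => (q.2, q.1)) (fun q _ => ?_) (fun q _ hq => ?_)
      (fun q _ => Finset.mem_univ _) (fun q _ => rfl))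
    · show f q + f (q.2, q.1) = 0
      simp only [f]
      rw [hswap q.1 i q.2]
      have : (C (T q.2 i q.1) * X q.2 * X q.1 : (MvPolynomial ι (ZMod 2))) = C (T q.2 i q.1) * X q.1 * X q.2 := by ring
      rw [this]
      exact h2 _
    · intro he
      apply hq
      obtain ⟨a, b⟩ := q
      have e : b = a := (Prod.mk.inj he).1
      subst e
      simp [f, hdiag]
  have hMT : Mᵀ = M := by
    ext1 i j
    exact (hM j i).trans ((Finset.sum_congr rfl fun k _ =>
      congrArg (fun c => C c * X k) (hsym k j i)).trans (hM i j).symm)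
  obtain ⟨i₀, k₀, hik⟩ : ∃ i k : ι, i ≠ k := by
    have : 1 < Fintype.card ι := by omega
    exact Fintype.exists_pair_of_one_lt_card this
  have hxne : x ≠ 0 := fun h => X_ne_zero i₀ (congrFun h i₀)
  have hdet : M.det = 0 := (exists_mulVec_eq_zero_iff).mp ⟨x, hxne, hMx⟩
  have hMadj : M * M.adjugate = 0 := by rw [mul_adjugate, hdet, zero_smul]
  -- evaluation of the diagonal of the adjugate
  have hev : ∀ (v : ι → ZMod 2) (i : ι), v i ≠ 0 → eval v (M.adjugate i i) = 1 := by
    intro v i hvi
    have hv : v ≠ 0 := fun h => hvi (congrFun h i)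
    let A : Matrix ι ι (ZMod 2) := M.map (eval v)
    have hA : ∀ (y : ι → ZMod 2) (a : ι), (A *ᵥ y) a = ∑ j, ∑ k, T k a j * v k * y j := by
      intro y a
      refine Finset.sum_congr rfl fun j _ => ?_
      have e : A a j = ∑ k, T k a j * v k := by
        show eval v (M a j) = _
        rw [hM a j]; simp
      exact (congrArg (· * y j) e).trans (Finset.sum_mul ..)
    have hvA : v ᵥ* A = 0 := by
      have : Aᵀ = A := by
        simp only [A, ← transpose_map, hMT]
      rw [← mulVec_transpose, this]
      funext a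
      have h := congrArg (eval v) (congrFun hMx a)
      simpa [A, mulVec, dotProduct, x, map_sum] using h
    have hB : (A.updateRow i (Pi.single i 1)).det ≠ 0 := by
      intro h0
      obtain ⟨y, hy0, hy⟩ := (exists_mulVec_eq_zero_iff).mpr h0
      have hyi : y i = 0 := by
        have := congrFun hy i
        simpa [mulVec, updateRow_self, single_dotProduct] using this
      have hother : ∀ a, a ≠ i → (A *ᵥ y) a = 0 := fun a ha => by
        have := congrFun hy a
        simpa [mulVec, updateRow_ne ha] using this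
      have hi : (A *ᵥ y) i = 0 := by
        have h := dotProduct_mulVec v A y
        rw [hvA, zero_dotProduct, dotProduct, Finset.sum_eq_single i (fun a _ ha => by rw [hother a ha, mul_zero])
          (fun h => absurd (Finset.mem_univ i) h)] at h
        exact (mul_eq_zero.mp h).resolve_left hvi
      rcases hrank v y hv (fun a => by
        rw [← hA]
        by_cases ha : a = i
        · rw [ha]; exact hi
        · exact hother a ha) with h | h
      · exact hy0 h
      · exact hvi (h ▸ hyi)
    have h01 : ∀ a : ZMod 2, a ≠ 0 → a = 1 := by decide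
    apply h01
    have hmap : eval v (M.adjugate i i) = A.adjugate i i := by
      have := (eval v).map_adjugate M
      simp only [RingHom.mapMatrix_apply] at this
      exact congrFun (congrFun this i) i
    rw [hmap, adjugate_apply]
    exact hB
  have hne : ∀ i, M.adjugate i i ≠ 0 := fun i h => by
    have := hev (Pi.single i 1) i (by simp)
    rw [h, map_zero] at this
    exact one_ne_zero this.symm
  -- proportionality
  have hprop : ∀ i j k, x i * M.adjugate k j = x k * M.adjugate i j := by
    intro i j k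
    let z : ι → (MvPolynomial ι (ZMod 2)) := fun a => x i * M.adjugate a j - x a * M.adjugate i j
    have hzM : M *ᵥ z = 0 := by
      funext a
      have h1 : ∑ b, M a b * M.adjugate b j = 0 := congrFun (congrFun hMadj a) j
      have h3 : ∑ b, M a b * x b = 0 := congrFun hMx a
      simp only [mulVec, dotProduct, z, mul_sub, Finset.sum_sub_distrib, Pi.zero_apply]
      simp only [mul_left_comm (M a _) (x i), ← mul_assoc (M a _) (x _) _, ← Finset.mul_sum,
        ← Finset.sum_mul, h1, h3, mul_zero, zero_mul, sub_zero]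
    have hzB : (M.updateRow i (Pi.single i 1)) *ᵥ z = 0 := by
      funext a
      by_cases ha : a = i
      · subst ha
        simp [mulVec, updateRow_self, single_dotProduct, z]
      · simpa [mulVec, updateRow_ne ha] using congrFun hzM a
    have hd : (M.updateRow i (Pi.single i 1)).det ≠ 0 := by
      rw [← adjugate_apply]; exact hne i
    have := congrFun (eq_zero_of_mulVec_eq_zero hd hzB) k
    exact sub_eq_zero.mp this
  have hadjsym : ∀ i j, M.adjugate i j = M.adjugate j i := fun i j => by
    conv_rhs => rw [← hMT, ← adjugate_transpose]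
    rfl
  have hsq : ∀ i k, x i * x i * M.adjugate k k = x k * x k * M.adjugate i i := by
    intro i k
    rw [mul_assoc, hprop i k k, ← mul_assoc, mul_comm (x i) (x k), mul_assoc, hadjsym i k,
      hprop i i k, ← mul_assoc]
  obtain ⟨g, hg⟩ : x i₀ ∣ M.adjugate i₀ i₀ := by
    have hp : Prime (x i₀) := X_prime
    have hdvd : x i₀ ∣ x k₀ * x k₀ * M.adjugate i₀ i₀ := ⟨x i₀ * M.adjugate k₀ k₀, by
      rw [← hsq i₀ k₀, mul_assoc]⟩
    rcases hp.dvd_or_dvd hdvd with h | h
    · rcases hp.dvd_or_dvd h with h' | h' <;>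
        exact absurd ((X_dvd_X).mp h') hik
    · exact h
  obtain ⟨h, hh⟩ : x i₀ ∣ g := by
    have hp : Prime (x i₀) := X_prime
    have hdvd : x i₀ ∣ x k₀ * x k₀ * g := ⟨M.adjugate k₀ k₀, by
      refine mul_left_cancel₀ (X_ne_zero i₀ : x i₀ ≠ 0) ?_
      have e := hsq i₀ k₀
      rw [hg] at e
      linear_combination -e⟩
    rcases hp.dvd_or_dvd hdvd with h' | h'
    · rcases hp.dvd_or_dvd h' with h'' | h'' <;>
        exact absurd ((X_dvd_X).mp h'') hik
    · exact h'
  have hform : ∀ k, M.adjugate k k = x k * x k * h := by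
    intro k
    refine mul_left_cancel₀ (mul_ne_zero (X_ne_zero i₀ : x i₀ ≠ 0) (X_ne_zero i₀ : x i₀ ≠ 0)) ?_
    rw [hsq i₀ k, hg, hh]; ring
  have hval : ∀ v : ι → ZMod 2, v ≠ 0 → eval v h = 1 := by
    intro v hv
    obtain ⟨k, hk⟩ := Function.ne_iff.mp hv
    have hk' : v k ≠ 0 := by simpa using hk
    have h01 : ∀ a : ZMod 2, a ≠ 0 → a = 1 := by decide
    have := hev v k hk'
    rw [hform k] at this
    simpa [x, h01 _ hk'] using this
  have hh0 : h ≠ 0 := by
    rintro rfl
    exact hne i₀ (by rw [hform i₀, mul_zero])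
  have hd0 : (M.adjugate i₀ i₀).totalDegree = Fintype.card ι - 1 :=
    ((hhom i₀)).totalDegree (hne i₀)
  have hdeg : h.totalDegree + 2 = Fintype.card ι - 1 := by
    rw [← hd0, hform i₀, totalDegree_mul_of_isDomain (mul_ne_zero (X_ne_zero i₀) (X_ne_zero i₀)) hh0,
      totalDegree_mul_of_isDomain (X_ne_zero i₀) (X_ne_zero i₀)]
    simp [x, totalDegree_X]; omega
  have hzero : eval (0 : ι → ZMod 2) h = 0 := by
    rw [eval_zero, constantCoeff_eq]
    have hc : coeff (Finsupp.single i₀ 1 + (Finsupp.single i₀ 1 + 0)) (x i₀ * (x i₀ * h)) = coeff 0 h := by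
      rw [coeff_X_mul, coeff_X_mul]
    rw [← hc, ← mul_assoc, ← hform i₀]
    refine ((hhom i₀)).coeff_eq_zero ?_
    simp [Finsupp.degree_single]
    omega
  have hcard : Fintype.card {v : ι → ZMod 2 // eval v h = 0} = 1 := by
    rw [Fintype.card_eq_one_iff]
    refine ⟨⟨0, hzero⟩, fun ⟨v, hv⟩ => Subtype.ext ?_⟩
    by_contra hne'
    rw [hval v hne'] at hv
    exact one_ne_zero hv
  have := char_dvd_card_solutions (p := 2) (f := h) (by omega)
  rw [hcard] at this
  exact absurd this (by decide)

theorem no_alternating_trilinear (T : ι → ι → ι → ZMod 2) (hN : 4 ≤ Fintype.card ι)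
    (hsym : ∀ k i j, T k i j = T k j i) (hswap : ∀ k i j, T k i j = T j i k)
    (hdiag : ∀ k i, T k i k = 0)
    (hrank : ∀ v y : ι → ZMod 2, v ≠ 0 → (∀ i, ∑ j, ∑ k, T k i j * v k * y j = 0) → y = 0 ∨ y = v) :
    False :=
  no_alternating_trilinear_aux T hN hsym hswap hdiag hrank (genMatrix T) (fun _ _ => rfl)
    (adjugate_diag_homogeneous T)

end Cfsg.Agent.Grp.Antiflag
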