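import Cfsg.Agent.Lib.Grp.Antiflag.Defs

/-! Orbits of a linear group on vectors and on linear forms are equally many. -/

set_option autoImplicit false

namespace Cfsg.Agent.Grp.Antiflag

variable {U : Type*} [AddCommGroup U] [Module (ZMod 2) U]

/-- The contragredient action on linear forms. -/
def dualHom : (U ≃ₗ[ZMod 2] U) →* (Module.Dual (ZMod 2) U ≃ₗ[ZMod 2] Module.Dual (ZMod 2) U) where
  toFun g := g.symm.dualMap
  map_one' := by ext φ x; rfl
  map_mul' g h := by ext φ x; rfl

@[simp] theorem dualHom_apply (g : U ≃ₗ[ZMod 2] U) (φ : Module.Dual (ZMod 2) U) (x : U) :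
    dualHom g φ x = φ (g.symm x) := rfl

/-- The action of `K` through `ρ` on vectors, as a relation. -/
def orbSetoid {K : Type*} [Group K] (ρ : K →* (U ≃ₗ[ZMod 2] U)) : Setoid U where
  r a b := ∃ k, ρ k a = b
  iseqv := ⟨fun a => ⟨1, by simp⟩,
    fun {a b} ⟨k, h⟩ => ⟨k⁻¹, by rw [← h, ← LinearEquiv.mul_apply, ← map_mul]; simp⟩,
    fun {a b c} ⟨k, h⟩ ⟨l, h'⟩ => ⟨l * k, by rw [map_mul, LinearEquiv.mul_apply, h, h']⟩⟩

/-- Number of orbits on all vectors (zero included). -/
noncomputable def norb {K : Type*} [Group K] (ρ : K →* (U ≃ₗ[ZMod 2] U)) : ℕ :=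
  Nat.card (Quotient (orbSetoid ρ))

theorem card_fixed_dual [Finite U] (g : U ≃ₗ[ZMod 2] U) :
    Nat.card {φ : Module.Dual (ZMod 2) U // dualHom g φ = φ} = Nat.card {x : U // g x = x} := by
  classical
  let T : U →ₗ[ZMod 2] U := (g : U →ₗ[ZMod 2] U) - LinearMap.id
  have hk : ∀ φ : Module.Dual (ZMod 2) U, φ ∈ LinearMap.ker T.dualMap ↔ dualHom g φ = φ := by
    intro φ
    constructor
    · intro h
      refine LinearMap.ext fun x => ?_
      have := LinearMap.congr_fun (LinearMap.mem_ker.1 h) (g.symm x)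
      simp [T, sub_eq_zero] at this
      simpa using this.symm
    · intro h
      refine LinearMap.mem_ker.2 (LinearMap.ext fun x => ?_)
      have := LinearMap.congr_fun h (g x)
      simp at this
      simp [T, this]
  have hk' : ∀ x : U, x ∈ LinearMap.ker T ↔ g x = x := fun x => by simp [T, sub_eq_zero]
  have e1 : Nat.card {φ : Module.Dual (ZMod 2) U // dualHom g φ = φ} = Nat.card (LinearMap.ker T.dualMap) :=
    Nat.card_congr (Equiv.subtypeEquivRight fun φ => (hk φ).symm)
  have e2 : Nat.card {x : U // g x = x} = Nat.card (LinearMap.ker T) :=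
    Nat.card_congr (Equiv.subtypeEquivRight fun x => (hk' x).symm)
  rw [e1, e2, Module.natCard_eq_pow_finrank (K := ZMod 2) (V := LinearMap.ker T.dualMap),
    Module.natCard_eq_pow_finrank (K := ZMod 2) (V := LinearMap.ker T)]
  congr 1
  have h1 := T.finrank_range_add_finrank_ker
  have h2 := T.dualMap.finrank_range_add_finrank_ker
  rw [LinearMap.finrank_range_dualMap_eq_finrank_range] at h2
  have h3 : Module.finrank (ZMod 2) (Module.Dual (ZMod 2) U) = Module.finrank (ZMod 2) U :=
    Subspace.dual_finrank_eq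
  omega

/-- Brauer: as many orbits on linear forms as on vectors. -/
theorem norb_dual [Finite U] {K : Type*} [Group K] (ρ : K →* (U ≃ₗ[ZMod 2] U)) :
    norb (dualHom.comp ρ) = norb ρ := by
  classical
  -- replace `K` by the finite image
  have himg : ∀ {W : Type _} [AddCommGroup W] [Module (ZMod 2) W] (σ : (U ≃ₗ[ZMod 2] U) →* (W ≃ₗ[ZMod 2] W)),
      Nat.card (Quotient (orbSetoid (σ.comp ρ))) = Nat.card (Quotient (orbSetoid (σ.comp ρ.range.subtype))) := by
    intro W _ _ σ
    refine Nat.card_congr (Quotient.congrRight fun a b => ?_)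
    constructor
    · rintro ⟨k, h⟩; exact ⟨⟨ρ k, k, rfl⟩, h⟩
    · rintro ⟨⟨_, k, rfl⟩, h⟩; exact ⟨k, h⟩
  have hd := himg (W := Module.Dual (ZMod 2) U) dualHom
  have hu := himg (W := U) (MonoidHom.id _)
  rw [MonoidHom.id_comp] at hu
  rw [norb, norb, hd, hu, MonoidHom.id_comp]
  let R := ρ.range
  haveI : Finite (U ≃ₗ[ZMod 2] U) := Finite.of_injective (fun g => (g : U → U)) DFunLike.coe_injective
  haveI : Finite (Module.Dual (ZMod 2) U) := Finite.of_injective (fun g => (g : U → ZMod 2)) DFunLike.coe_injective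
  letI a1 : MulAction R U :=
    { smul := fun g x => (g : U ≃ₗ[ZMod 2] U) x, one_smul := fun _ => rfl, mul_smul := fun _ _ _ => rfl }
  letI a2 : MulAction R (Module.Dual (ZMod 2) U) :=
    { smul := fun g φ => dualHom (g : U ≃ₗ[ZMod 2] U) φ
      one_smul := fun φ => LinearMap.ext fun x => rfl
      mul_smul := fun _ _ φ => LinearMap.ext fun x => rfl }
  cases nonempty_fintype U
  cases nonempty_fintype (Module.Dual (ZMod 2) U)
  cases nonempty_fintype R
  have c1 : Nat.card (Quotient (orbSetoid R.subtype)) = Fintype.card (Quotient (MulAction.orbitRel R U)) := by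
    rw [← Nat.card_eq_fintype_card]
    refine Nat.card_congr (Quotient.congrRight fun a b => ?_)
    rw [MulAction.orbitRel_apply, MulAction.mem_orbit_iff]
    exact ⟨fun ⟨k, h⟩ => ⟨k⁻¹, by rw [← h]; exact LinearEquiv.symm_apply_apply _ _⟩,
      fun ⟨k, h⟩ => ⟨k⁻¹, by rw [← h]; exact LinearEquiv.symm_apply_apply _ _⟩⟩
  have c2 : Nat.card (Quotient (orbSetoid (dualHom.comp R.subtype))) =
      Fintype.card (Quotient (MulAction.orbitRel R (Module.Dual (ZMod 2) U))) := by
    rw [← Nat.card_eq_fintype_card]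
    refine Nat.card_congr (Quotient.congrRight fun a b => ?_)
    rw [MulAction.orbitRel_apply, MulAction.mem_orbit_iff]
    refine ⟨fun ⟨k, h⟩ => ⟨k⁻¹, ?_⟩, fun ⟨k, h⟩ => ⟨k⁻¹, ?_⟩⟩
    · rw [← h]; exact inv_smul_smul (G := R) k a
    · rw [← h]; exact inv_smul_smul (G := R) k b
  rw [c1, c2]
  have bU := MulAction.sum_card_fixedBy_eq_card_orbits_mul_card_group R U
  have bD := MulAction.sum_card_fixedBy_eq_card_orbits_mul_card_group R (Module.Dual (ZMod 2) U)
  have heq : ∀ g : R, Fintype.card (MulAction.fixedBy (Module.Dual (ZMod 2) U) g) =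
      Fintype.card (MulAction.fixedBy U g) := fun g => by
    rw [← Nat.card_eq_fintype_card, ← Nat.card_eq_fintype_card]
    exact card_fixed_dual (g : U ≃ₗ[ZMod 2] U)
  rw [Finset.sum_congr rfl fun g _ => heq g] at bD
  exact Nat.eq_of_mul_eq_mul_right Fintype.card_pos (bD.symm.trans bU)

end Cfsg.Agent.Grp.Antiflag
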