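import Cfsg.Agent.Lib.Grp.Antiflag.Defs

/-!
# Lifting orbits of an antiflag transitive group

The stabiliser of `u` maps every vector `x` outside `⟨u⟩` to `x + u`; so every pair can be swapped.
-/

set_option autoImplicit false

namespace Cfsg.Agent.Grp.Antiflag

variable {U : Type*} [AddCommGroup U] [Module (ZMod 2) U] {G : Subgroup (U ≃ₗ[ZMod 2] U)}

theorem zmod_two_eq_one {a : ZMod 2} (h : a ≠ 0) : a = 1 := by
  revert h; revert a; decide

theorem add_self (x : U) : x + x = 0 := by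
  rw [← two_nsmul, ← Nat.cast_smul_eq_nsmul (ZMod 2), show ((2 : ℕ) : ZMod 2) = 0 from rfl, zero_smul]

theorem indep_symm {a b : U} (h : Indep2 a b) : Indep2 b a := ⟨h.2.1, h.1, h.2.2.symm⟩

theorem indep_add {a b : U} (h : Indep2 a b) : Indep2 a (b + a) := by
  refine ⟨h.1, fun e => h.2.2 ?_, fun e => h.2.1 ?_⟩
  · exact (eq_neg_of_add_eq_zero_right e).trans (neg_eq_of_add_eq_zero_right (add_self b))
  · simpa using e

theorem mem_span_single {a x : U} (h : x ∈ Submodule.span (ZMod 2) ({a} : Set U)) : x = 0 ∨ x = a := by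
  obtain ⟨c, rfl⟩ := Submodule.mem_span_singleton.1 h
  by_cases hc : c = 0
  · exact Or.inl (by rw [hc, zero_smul])
  · exact Or.inr (by rw [zmod_two_eq_one hc, one_smul])

theorem exists_form {a : U} (ha : a ≠ 0) : ∃ φ : Module.Dual (ZMod 2) U, φ a = 1 := by
  obtain ⟨φ, hφ, -⟩ := Submodule.exists_dual_map_eq_bot_of_notMem (p := ⊥)
    (show a ∉ (⊥ : Submodule (ZMod 2) U) by simpa using ha) inferInstance
  exact ⟨φ, zmod_two_eq_one hφ⟩

theorem exists_form_pair {a b : U} (h : Indep2 a b) :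
    ∃ φ : Module.Dual (ZMod 2) U, φ a = 0 ∧ φ b = 1 := by
  obtain ⟨φ, hφ, hmap⟩ := Submodule.exists_dual_map_eq_bot_of_notMem
    (p := Submodule.span (ZMod 2) ({a} : Set U))
    (show b ∉ Submodule.span (ZMod 2) ({a} : Set U) from fun hb => by
      rcases mem_span_single hb with e | e
      · exact h.2.1 e
      · exact h.2.2 e.symm) inferInstance
  refine ⟨φ, ?_, zmod_two_eq_one hφ⟩
  have : φ a ∈ (Submodule.span (ZMod 2) ({a} : Set U)).map φ :=
    Submodule.mem_map_of_mem (Submodule.mem_span_singleton_self a)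
  rw [hmap] at this
  simpa using this

/-- Transitive on nonzero vectors. -/
theorem IsAntiflag.trans (hG : IsAntiflag G) {u w : U} (hu : u ≠ 0) (hw : w ≠ 0) : ∃ g ∈ G, g u = w := by
  obtain ⟨φ, hφ⟩ := exists_form hu
  obtain ⟨ψ, hψ⟩ := exists_form hw
  obtain ⟨g, hg, hgu, -⟩ := hG u w φ ψ hφ hψ
  exact ⟨g, hg, hgu⟩

variable [Finite U]

/-- The stabiliser of `u` joins `x` and `x + u`. -/
theorem exists_translate (hG : IsAntiflag G) :
    ∀ u x : U, Indep2 u x → ∃ g ∈ G, g u = u ∧ g x = x + u := by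
  classical
  intro u x hux
  by_contra hno
  push Not at hno
  haveI : Fintype U := Fintype.ofFinite U
  haveI : Finite (Module.Dual (ZMod 2) U) :=
    Finite.of_injective (fun φ => (φ : U → ZMod 2)) DFunLike.coe_injective
  haveI : Fintype (Module.Dual (ZMod 2) U) := Fintype.ofFinite _
  obtain ⟨O, hO⟩ : ∃ O : Finset U, ∀ v, v ∈ O ↔ ∃ g ∈ G, g u = u ∧ g x = v :=
    ⟨(Finset.univ : Finset U).filter (fun v => ∃ g ∈ G, g u = u ∧ g x = v), fun v => by simp⟩
  obtain ⟨Φ, hΦ⟩ : ∃ Φ : Finset (Module.Dual (ZMod 2) U), ∀ φ, φ ∈ Φ ↔ φ u = 1 :=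
    ⟨(Finset.univ : Finset (Module.Dual (ZMod 2) U)).filter (fun φ => φ u = 1), fun v => by simp⟩
  obtain ⟨χ, hχ⟩ : ∃ χ : ZMod 2 → ℤ, (∀ a b, χ (a + b) = χ a * χ b) ∧ χ 1 = -1 ∧ χ 0 = 1 :=
    ⟨fun a => if a = 0 then 1 else -1, by decide, by decide, by decide⟩
  obtain ⟨hχadd, hχ1, hχ0⟩ := hχ
  have hsum : ∀ w : U, Indep2 u w → ∑ φ ∈ Φ, χ (φ w) = 0 := by
    intro w hw
    obtain ⟨η, hηu, hηw⟩ := exists_form_pair hw
    have hb : ∑ φ ∈ Φ, χ (φ w) = ∑ φ ∈ Φ, χ ((φ + η) w) :=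
      (Finset.sum_bij' (fun φ _ => φ + η) (fun φ _ => φ - η)
        (fun φ hφ => (hΦ _).2 (by simp [(hΦ φ).1 hφ, hηu]))
        (fun φ hφ => (hΦ _).2 (by simp [(hΦ φ).1 hφ, hηu]))
        (fun φ _ => by simp) (fun φ _ => by simp) (fun φ _ => rfl)).symm
    have hb' : ∑ φ ∈ Φ, χ ((φ + η) w) = -∑ φ ∈ Φ, χ (φ w) := by
      rw [← Finset.sum_neg_distrib]
      refine Finset.sum_congr rfl fun φ _ => ?_
      rw [LinearMap.add_apply, hηw, hχadd, hχ1, mul_neg_one]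
    omega
  have hOmem : ∀ v ∈ O, Indep2 u v := by
    intro v hv
    obtain ⟨g, -, hgu, rfl⟩ := (hO v).1 hv
    exact ⟨hux.1, fun e => hux.2.1 (g.injective (e.trans (map_zero g).symm)),
      fun e => hux.2.2 (g.injective (hgu.trans e))⟩
  obtain ⟨S, hS⟩ : ∃ S : Module.Dual (ZMod 2) U → ℤ, ∀ φ, S φ = ∑ v ∈ O, χ (φ v) := ⟨_, fun φ => rfl⟩
  have hconst : ∀ φ ∈ Φ, ∀ φ' ∈ Φ, S φ = S φ' := by
    intro φ hφ φ' hφ'
    obtain ⟨g, hg, hgu, hgφ⟩ := hG u u φ φ' ((hΦ φ).1 hφ) ((hΦ φ').1 hφ')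
    rw [hS, hS]
    refine Finset.sum_bij' (fun v _ => g v) (fun v _ => g.symm v) ?_ ?_
      (fun v _ => g.symm_apply_apply v) (fun v _ => g.apply_symm_apply v) (fun v _ => by rw [hgφ])
    · intro v hv
      obtain ⟨h, hh, hhu, rfl⟩ := (hO v).1 hv
      refine (hO _).2 ⟨g * h, G.mul_mem hg hh, ?_, ?_⟩
      · rw [LinearEquiv.mul_apply, hhu, hgu]
      · rw [LinearEquiv.mul_apply]
    · intro v hv
      obtain ⟨h, hh, hhu, rfl⟩ := (hO v).1 hv
      refine (hO _).2 ⟨g⁻¹ * h, G.mul_mem (G.inv_mem hg) hh, ?_, ?_⟩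
      · rw [LinearEquiv.mul_apply, hhu]
        show g.symm u = u
        rw [LinearEquiv.symm_apply_eq, hgu]
      · rfl
  obtain ⟨φ₀, hφ₀⟩ := exists_form hux.1
  have hφ₀' : φ₀ ∈ Φ := (hΦ _).2 hφ₀
  have hzero : S φ₀ = 0 := by
    have h1 : ∑ φ ∈ Φ, S φ = 0 := by
      simp only [hS]
      rw [Finset.sum_comm]
      exact Finset.sum_eq_zero fun v hv => hsum v (hOmem v hv)
    rw [Finset.sum_congr rfl fun φ hφ => hconst φ hφ φ₀ hφ₀', Finset.sum_const, nsmul_eq_mul] at h1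
    exact (mul_eq_zero.1 h1).resolve_left (by
      exact_mod_cast (Finset.card_pos.2 ⟨φ₀, hφ₀'⟩).ne')
  have hsq : ∑ φ ∈ Φ, S φ * S φ = (Φ.card : ℤ) * O.card := by
    simp only [hS, Finset.sum_mul_sum]
    rw [Finset.sum_comm, Finset.sum_congr rfl fun v hv => Finset.sum_comm]
    rw [Finset.sum_congr rfl fun v hv => Finset.sum_eq_single v ?_ (fun h => absurd hv h)]
    · have h1 : ∀ v ∈ O, ∑ φ ∈ Φ, χ (φ v) * χ (φ v) = (Φ.card : ℤ) := fun v _ => by
        rw [Finset.sum_congr rfl fun φ _ => show χ (φ v) * χ (φ v) = 1 by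
          rw [← hχadd, CharTwo.add_self_eq_zero, hχ0]]
        simp
      rw [Finset.sum_congr rfl h1, Finset.sum_const, nsmul_eq_mul, mul_comm]
    · intro w hw hwv
      rw [Finset.sum_congr rfl fun φ _ => show χ (φ v) * χ (φ w) = χ (φ (v + w)) by rw [map_add, hχadd]]
      refine hsum _ ⟨hux.1, fun e => hwv ?_, fun e => ?_⟩
      · exact (eq_neg_of_add_eq_zero_right e).trans (neg_eq_of_add_eq_zero_right (add_self v))
      · obtain ⟨g, hg, hgu, rfl⟩ := (hO v).1 hv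
        obtain ⟨h, hh, hhu, rfl⟩ := (hO w).1 hw
        refine hno (g⁻¹ * h) (G.mul_mem (G.inv_mem hg) hh) ?_ ?_
        · rw [LinearEquiv.mul_apply, hhu]
          show g.symm u = u
          rw [LinearEquiv.symm_apply_eq, hgu]
        · show g.symm (h x) = x + u
          rw [LinearEquiv.symm_apply_eq, map_add, hgu]
          rw [show g x + u = g x + (g x + h x) from congrArg (g x + ·) e, ← add_assoc, add_self,
            zero_add]
  have h0 : ∑ φ ∈ Φ, S φ * S φ = 0 :=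
    Finset.sum_eq_zero fun φ hφ => by rw [hconst φ hφ φ₀ hφ₀', hzero, mul_zero]
  rw [h0] at hsq
  have hxO : x ∈ O := (hO x).2 ⟨1, G.one_mem, rfl, rfl⟩
  have : (0 : ℤ) < (Φ.card : ℤ) * O.card :=
    mul_pos (by exact_mod_cast Finset.card_pos.2 ⟨φ₀, hφ₀'⟩) (by exact_mod_cast Finset.card_pos.2 ⟨x, hxO⟩)
  omega

/-- Every pair can be swapped. -/
theorem exists_swap (hG : IsAntiflag G) :
    ∀ u x : U, Indep2 u x → ∃ g ∈ G, g u = x ∧ g x = u := by
  intro u x h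
  obtain ⟨a, ha, hau, hax⟩ := exists_translate hG u x h
  obtain ⟨b, hb, hbx, hbu⟩ := exists_translate hG x u (indep_symm h)
  refine ⟨a * b * a, G.mul_mem (G.mul_mem ha hb) ha, ?_, ?_⟩
  · simp only [LinearEquiv.mul_apply, hau, hbu, map_add, hax]
    rw [add_comm x u, ← add_assoc, add_self, zero_add]
  · simp only [LinearEquiv.mul_apply, hax, map_add, hbx, hbu, hau]
    rw [add_comm u (x + u), ← add_assoc (x + u), add_self, zero_add]

end Cfsg.Agent.Grp.Antiflag
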