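import Cfsg.Agent.Lib.Grp.Antiflag.Brauer
import Cfsg.Agent.Lib.Grp.Antiflag.Orbits

/-!
# The first cohomology of `GL_m(2)` on its natural module vanishes for `m ≥ 4`

Used for the dual module: every cocycle with values in the linear forms is a coboundary.
-/

set_option autoImplicit false

namespace Cfsg.Agent.Grp.Antiflag

variable {W : Type*} [AddCommGroup W] [Module (ZMod 2) W]

/-- An elementary transvection of a basis. -/
noncomputable def elemTrans {ι : Type*} (b : Module.Basis ι (ZMod 2) W) (i j : ι) (h : i ≠ j) : W ≃ₗ[ZMod 2] W :=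
  LinearEquiv.ofInvolutive (LinearMap.id + (b.coord j).smulRight (b i)) fun x => by
    have e : b.repr (b i) j = 0 := by rw [b.repr_self, Finsupp.single_eq_of_ne h.symm]
    show (x + b.coord j x • b i) + b.coord j (x + b.coord j x • b i) • b i = x
    rw [map_add, map_smul, show b.coord j (b i) = 0 from e, smul_zero, add_zero, add_assoc, add_self,
      add_zero]

theorem elemTrans_apply {ι : Type*} (b : Module.Basis ι (ZMod 2) W) {i j : ι} (h : i ≠ j) (x : W) :
    elemTrans b i j h x = x + b.repr x j • b i := rfl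

variable [Finite W]

/-- A subgroup with all elementary transvections is everything. -/
theorem eq_top_of_elemTrans {ι : Type*} [Fintype ι] [DecidableEq ι] (b : Module.Basis ι (ZMod 2) W)
    (S : Subgroup (W ≃ₗ[ZMod 2] W)) (hS : ∀ i j (h : i ≠ j), elemTrans b i j h ∈ S) : S = ⊤ := by
  refine (Subgroup.eq_top_iff' S).2 fun g => ?_
  let tm := LinearMap.toMatrix b b
  have hdet : (tm (g : W →ₗ[ZMod 2] W)).det ≠ 0 := by
    rw [LinearMap.det_toMatrix]
    exact g.isUnit_det'.ne_zero
  obtain ⟨h, hh, he⟩ : ∃ h ∈ S, tm (h : W →ₗ[ZMod 2] W) = tm (g : W →ₗ[ZMod 2] W) := by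
    refine Matrix.diagonal_transvection_induction_of_det_ne_zero
      (fun M => ∃ h ∈ S, tm (h : W →ₗ[ZMod 2] W) = M) _ hdet (fun D hD => ?_) (fun t => ?_) ?_
    · have hD1 : D = fun _ => 1 := funext fun i => zmod_two_eq_one fun h0 =>
        hD (by rw [Matrix.det_diagonal]; exact Finset.prod_eq_zero (Finset.mem_univ i) h0)
      refine ⟨1, S.one_mem, ?_⟩
      rw [hD1, Matrix.diagonal_one]
      exact LinearMap.toMatrix_id b
    · rcases eq_or_ne t.c 0 with hc | hc
      · refine ⟨1, S.one_mem, ?_⟩
        rw [Matrix.TransvectionStruct.toMatrix, hc, Matrix.transvection_zero]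
        exact LinearMap.toMatrix_id b
      · refine ⟨_, hS t.i t.j t.hij, ?_⟩
        ext l m
        rw [LinearMap.toMatrix_apply, LinearEquiv.coe_coe, elemTrans_apply, Matrix.TransvectionStruct.toMatrix,
          zmod_two_eq_one hc, Matrix.transvection]
        simp only [map_add, map_smul, Finsupp.add_apply, Finsupp.smul_apply, b.repr_self,
          Finsupp.single_apply, Matrix.add_apply, Matrix.one_apply, Matrix.single_apply, smul_eq_mul]
        simp only [eq_comm (a := l) (b := m), eq_comm (a := t.j) (b := m)]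
        split_ifs <;> first | (exfalso; tauto) | rfl | simp
    · rintro A B - - ⟨h, hh, rfl⟩ ⟨k, hk, rfl⟩
      refine ⟨h * k, S.mul_mem hh hk, ?_⟩
      exact LinearMap.toMatrix_comp b b b (h : W →ₗ[ZMod 2] W) (k : W →ₗ[ZMod 2] W)
  have : (h : W →ₗ[ZMod 2] W) = (g : W →ₗ[ZMod 2] W) := tm.injective he
  rwa [show g = h from LinearEquiv.toLinearMap_injective this.symm]

/-- Cocycles with values in the natural module are coboundaries. -/
theorem exists_coboundary (hm : 4 ≤ Module.finrank (ZMod 2) W) (c : (W ≃ₗ[ZMod 2] W) → W)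
    (hc : ∀ g h, c (g * h) = c g + g (c h)) : ∃ w₀ : W, ∀ g, c g = w₀ + g w₀ := by
  classical
  let b := Module.finBasis (ZMod 2) W
  set n := Module.finrank (ZMod 2) W with hn
  have r1 : ∀ i l, b.repr (b i) l = if l = i then 1 else 0 := fun i l => by
    rw [b.repr_self, Finsupp.single_apply]; simp [eq_comm]
  have hone : c 1 = 0 := by
    have := hc 1 1
    rw [mul_one] at this
    exact left_eq_add.1 this
  have hfixc : ∀ i j (h : i ≠ j), b.repr (c (elemTrans b i j h)) j = 0 := by
    intro i j h
    have hsq : elemTrans b i j h * elemTrans b i j h = 1 := by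
      refine LinearEquiv.ext fun x => ?_
      show elemTrans b i j h (elemTrans b i j h x) = x
      simp [elemTrans_apply, r1, h.symm, add_assoc, add_self]
    have h2 := hc (elemTrans b i j h) (elemTrans b i j h)
    rw [hsq, hone, elemTrans_apply, ← add_assoc, add_self, zero_add] at h2
    simpa [r1] using (congrArg (fun v => b.repr v i) h2).symm
  have hzero : ∀ i j (h : i ≠ j) l, l ≠ i → b.repr (c (elemTrans b i j h)) l = 0 := by
    intro i j h l hli
    by_cases hlj : l = j
    · subst hlj; exact hfixc i l h
    obtain ⟨k, -, hk⟩ : ∃ k ∈ (Finset.univ : Finset (Fin n)), k ∉ ({i, j, l} : Finset (Fin n)) :=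
      Finset.exists_mem_notMem_of_card_lt_card (by
        rw [Finset.card_univ, Fintype.card_fin]
        have := Finset.card_le_three (a := i) (b := j) (c := l)
        omega)
    simp only [Finset.mem_insert, Finset.mem_singleton, not_or] at hk
    obtain ⟨hki, hkj, hkl⟩ := hk
    have hcomm : elemTrans b i j h * elemTrans b k l hkl = elemTrans b k l hkl * elemTrans b i j h := by
      refine LinearEquiv.ext fun x => ?_
      show elemTrans b i j h (elemTrans b k l hkl x) = elemTrans b k l hkl (elemTrans b i j h x)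
      simp [elemTrans_apply, r1, Ne.symm hkj, hli]
      abel
    have h2 := congrArg c hcomm
    rw [hc, hc, elemTrans_apply, elemTrans_apply] at h2
    have h3 := congrArg (fun v => b.repr v k) h2
    simp only [map_add, map_smul, Finsupp.add_apply, Finsupp.smul_apply, r1, smul_eq_mul, hki,
      if_false, mul_zero, add_zero, if_true, mul_one] at h3
    have h4 : ∀ p q e : ZMod 2, p + q = q + (p + e) → e = 0 := by decide
    exact h4 _ _ _ h3
  let a : ∀ i j : Fin n, i ≠ j → ZMod 2 := fun i j h => b.repr (c (elemTrans b i j h)) i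
  have hcT : ∀ i j (h : i ≠ j), c (elemTrans b i j h) = a i j h • b i := by
    intro i j h
    refine b.repr.injective (Finsupp.ext fun l => ?_)
    rcases eq_or_ne l i with rfl | hl
    · simp [a, r1]
    · simp [hzero i j h l hl, r1, hl]
  have hconst : ∀ i j k (hik : i ≠ k) (hjk : j ≠ k), a i k hik = a j k hjk := by
    intro i j k hik hjk
    rcases eq_or_ne i j with rfl | hij
    · rfl
    have hrel : elemTrans b i j hij * elemTrans b j k hjk =
        elemTrans b j k hjk * (elemTrans b i j hij * elemTrans b i k hik) := by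
      refine LinearEquiv.ext fun x => ?_
      show elemTrans b i j hij (elemTrans b j k hjk x) =
        elemTrans b j k hjk (elemTrans b i j hij (elemTrans b i k hik x))
      simp [elemTrans_apply, r1, hij.symm, hik.symm, hjk, hjk.symm, add_smul]
      abel
    have h2 := congrArg c hrel
    rw [hc, hc, hc, hcT i j hij, hcT j k hjk, hcT i k hik] at h2
    have h3 := congrArg (fun v => b.repr v i) h2
    simp [elemTrans_apply, r1, hij, hij.symm, hik.symm, hik] at h3
    exact h3.symm
  have hσ : ∀ k : Fin n, ∃ i, i ≠ k := fun k => by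
    haveI : Nontrivial (Fin n) := Fin.nontrivial_iff_two_le.2 (by omega)
    exact exists_ne k
  choose σ hσ' using hσ
  refine ⟨∑ k, a (σ k) k (hσ' k) • b k, ?_⟩
  set w₀ := ∑ k, a (σ k) k (hσ' k) • b k with hw₀
  have hrep : ∀ k, b.repr w₀ k = a (σ k) k (hσ' k) := fun k => by
    simp [hw₀, Finsupp.finset_sum_apply, Finsupp.single_apply]
  let S : Subgroup (W ≃ₗ[ZMod 2] W) :=
    { carrier := {g | c g = w₀ + g w₀}
      one_mem' := by
        show c 1 = w₀ + w₀
        rw [hone, add_self]
      mul_mem' := fun {g h} hg hh => by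
        show c (g * h) = w₀ + g (h w₀)
        rw [hc, show c g = _ from hg, show c h = _ from hh, map_add, add_assoc, ← add_assoc (g w₀),
          add_self, zero_add]
      inv_mem' := fun {g} hg => by
        show c g⁻¹ = w₀ + g.symm w₀
        refine g.injective ?_
        have h2 := hc g g⁻¹
        rw [mul_inv_cancel, hone, show c g = _ from hg] at h2
        rw [map_add, g.apply_symm_apply, add_comm (g w₀) w₀]
        rw [← add_zero (w₀ + g w₀), h2, ← add_assoc, add_self, zero_add] }
  have htop : S = ⊤ := eq_top_of_elemTrans b S fun i j h => by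
    show c (elemTrans b i j h) = w₀ + elemTrans b i j h w₀
    rw [hcT, elemTrans_apply, ← add_assoc, add_self, zero_add, hrep, hconst i (σ j) j h (hσ' j)]
  intro g
  exact (show g ∈ S from htop ▸ Subgroup.mem_top g)

variable {U : Type*} [AddCommGroup U] [Module (ZMod 2) U] [Finite U]

theorem dualHom_bijective : Function.Bijective (dualHom (U := U)) := by
  constructor
  · intro g h e
    refine LinearEquiv.ext fun x => ?_
    by_contra hne
    obtain ⟨η, hη⟩ := exists_form (sub_ne_zero.2 hne)
    have := LinearMap.congr_fun (LinearEquiv.congr_fun e (η.comp (h : U →ₗ[ZMod 2] U))) (g x)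
    simp at this
    rw [map_sub, ← this, sub_self] at hη
    exact zero_ne_one hη
  · intro γ
    refine ⟨(Module.evalEquiv (ZMod 2) U).trans (γ.symm.dualMap.trans (Module.evalEquiv (ZMod 2) U).symm), ?_⟩
    ext η x
    simp

/-- Cocycles with values in the linear forms are coboundaries. -/
theorem exists_fixed_of_cocycle (hm : 4 ≤ Module.finrank (ZMod 2) U)
    (c : (U ≃ₗ[ZMod 2] U) → Module.Dual (ZMod 2) U)
    (hc : ∀ g h, c (g * h) = c g + dualHom g (c h)) :
    ∃ φ₀ : Module.Dual (ZMod 2) U, ∀ g, c g = φ₀ + dualHom g φ₀ := by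
  haveI : Finite (Module.Dual (ZMod 2) U) :=
    Finite.of_injective (fun φ => (φ : U → ZMod 2)) DFunLike.coe_injective
  let ψ := MulEquiv.ofBijective (dualHom (U := U)) dualHom_bijective
  obtain ⟨φ₀, h⟩ := exists_coboundary (W := Module.Dual (ZMod 2) U)
    (by rw [Subspace.dual_finrank_eq]; exact hm) (fun γ => c (ψ.symm γ)) fun γ δ => by
      show c (ψ.symm (γ * δ)) = c (ψ.symm γ) + γ (c (ψ.symm δ))
      rw [map_mul, hc, show dualHom (ψ.symm γ) = γ from ψ.apply_symm_apply γ]
  refine ⟨φ₀, fun g => ?_⟩
  have := h (dualHom g)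
  rwa [show ψ.symm (dualHom g) = g from ψ.symm_apply_apply g] at this

end Cfsg.Agent.Grp.Antiflag
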