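import Cfsg.Agent.Lib.Grp.Antiflag.Orbits

/-!
# Two-paths from a point

In a `DSys` the subspace `D u ⊓ D w` has dimension `d` or `d - 1` for all adjacent `u`, `w`, and in the
second case the cosets of `D u` at distance two have total weight `2^(d-1) - 1`.
-/

set_option autoImplicit false

namespace Cfsg.Agent.Grp.Antiflag

variable {U : Type*} [AddCommGroup U] [Module (ZMod 2) U] {G : Subgroup (U ≃ₗ[ZMod 2] U)}

theorem mem_pair {a b x : U} (h : x ∈ Submodule.span (ZMod 2) ({a, b} : Set U)) :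
    x = 0 ∨ x = a ∨ x = b ∨ x = a + b := by
  obtain ⟨s, t, rfl⟩ := Submodule.mem_span_pair.1 h
  by_cases hs : s = 0 <;> by_cases ht : t = 0
  · exact Or.inl (by simp [hs, ht])
  · exact Or.inr (Or.inr (Or.inl (by simp [hs, zmod_two_eq_one ht])))
  · exact Or.inr (Or.inl (by simp [ht, zmod_two_eq_one hs]))
  · exact Or.inr (Or.inr (Or.inr (by simp [zmod_two_eq_one hs, zmod_two_eq_one ht])))

theorem finrank_pair {a b : U} (h : Indep2 a b) :
    Module.finrank (ZMod 2) (Submodule.span (ZMod 2) ({a, b} : Set U)) = 2 := by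
  have hli : LinearIndependent (ZMod 2) ![a, b] := by
    refine LinearIndependent.pair_iff.2 fun s t hst => ?_
    by_cases hs : s = 0 <;> by_cases ht : t = 0
    · exact ⟨hs, ht⟩
    · rw [hs, zmod_two_eq_one ht, zero_smul, zero_add, one_smul] at hst
      exact absurd hst h.2.1
    · rw [ht, zmod_two_eq_one hs, zero_smul, add_zero, one_smul] at hst
      exact absurd hst h.1
    · rw [zmod_two_eq_one hs, zmod_two_eq_one ht, one_smul, one_smul] at hst
      exact absurd ((eq_neg_of_add_eq_zero_left hst).trans (neg_eq_of_add_eq_zero_right (add_self b))) h.2.2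
  have := finrank_span_eq_card hli
  rwa [Matrix.range_cons_cons_empty, Fintype.card_fin] at this

namespace DSys

variable (S : DSys G)

theorem zero_mem (u : U) : (0 : U) ∈ S.D u := Submodule.zero_mem _

/-- The dimension of `D u ⊓ D z`. -/
noncomputable def e (u z : U) : ℕ := Module.finrank (ZMod 2) (S.D u ⊓ S.D z : Submodule (ZMod 2) U)

theorem e_map {g : U ≃ₗ[ZMod 2] U} (hg : g ∈ G) (u z : U) : S.e (g u) (g z) = S.e u z := by
  unfold e
  rw [S.map_D g hg, S.map_D g hg, ← Submodule.map_inf _ g.injective]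
  exact (LinearEquiv.submoduleMap g _).finrank_eq.symm

theorem two_of_mem {u z w : U} (hz : z ∉ S.D u) (hw : w ≠ 0) (hwu : w ∈ S.D u) (hwz : w ∈ S.D z) :
    Two S.D u z := ⟨hz, w, hw, hwu, hwz⟩

/-- The linear span property of `D`. -/
theorem D_le_of_mem {W : Submodule (ZMod 2) U} {s : Set U} (hs : ∀ x ∈ s, x ≠ 0 → S.D x ≤ W) {x : U}
    (hx : x ∈ Submodule.span (ZMod 2) s) (hx0 : x ≠ 0) : S.D x ≤ W := by
  revert hx0
  induction hx using Submodule.span_induction with
  | mem y hy => exact hs y hy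
  | zero => exact fun h => absurd rfl h
  | add y z _ _ hy hz =>
    intro hyz
    by_cases y0 : y = 0
    · subst y0; simpa using hz (by simpa using hyz)
    by_cases z0 : z = 0
    · subst z0; simpa using hy (by simpa using hyz)
    exact (S.add_le y z ⟨y0, z0, fun h => hyz (by rw [h]; exact add_self z)⟩).trans
      (sup_le (hy y0) (hz z0))
  | smul c y _ hy =>
    intro hcy
    have hc : c ≠ 0 := fun h => hcy (by rw [h, zero_smul])
    rw [zmod_two_eq_one hc, one_smul] at hcy ⊢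
    exact hy hcy

variable [Finite U]

theorem card_submod (W : Submodule (ZMod 2) U) : Nat.card W = 2 ^ Module.finrank (ZMod 2) W := by
  rw [Module.natCard_eq_pow_finrank (K := ZMod 2) (V := W), Nat.card_zmod]

theorem card_finset_submod (W : Submodule (ZMod 2) U) (A : Finset U) (hA : ∀ x, x ∈ A ↔ x ∈ W) :
    A.card = 2 ^ Module.finrank (ZMod 2) W := by
  rw [← card_submod W, Nat.card_congr (Equiv.subtypeEquivRight fun x => (hA x).symm),
    Nat.card_eq_finsetCard]

theorem e_lt {u z : U} (hu : u ≠ 0) (hz : z ≠ 0) (hzu : z ∉ S.D u) : S.e u z < S.d := by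
  rw [← S.finrank_D u hu]
  refine Submodule.finrank_lt_finrank_of_lt (lt_of_le_not_ge inf_le_left fun h => hzu ?_)
  exact S.symm z u hz hu (inf_le_right (a := S.D u) (h (S.mem_self u)))

theorem e_pos_iff {u z : U} : 0 < S.e u z ↔ ∃ w, w ≠ 0 ∧ w ∈ S.D u ∧ w ∈ S.D z := by
  unfold e
  rw [pos_iff_ne_zero, Ne, Submodule.finrank_eq_zero, Submodule.eq_bot_iff]
  simp only [Submodule.mem_inf, not_forall, exists_prop]
  exact ⟨fun ⟨w, ⟨a, b⟩, c⟩ => ⟨w, c, a, b⟩, fun ⟨w, c, a, b⟩ => ⟨w, ⟨a, b⟩, c⟩⟩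

theorem two_iff {u z : U} : Two S.D u z ↔ z ∉ S.D u ∧ 0 < S.e u z := by
  rw [e_pos_iff]; rfl

/-- `D u ⊓ D w` has the same dimension for all adjacent pairs. -/
theorem e_adj_eq {u w u' w' : U} (h : Indep2 u w) (hw : w ∈ S.D u) (h' : Indep2 u' w')
    (hw' : w' ∈ S.D u') : S.e u w = S.e u' w' := by
  obtain ⟨g, hg, hgu⟩ := S.trans u u' h.1 h'.1
  have hgw : g w ∈ S.D u' := by
    rw [← hgu, S.map_D g hg]
    exact Submodule.mem_map_of_mem hw
  have hi : Indep2 u' (g w) := ⟨h'.1, fun e => h.2.1 (g.injective (e.trans (map_zero g).symm)),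
    fun e => h.2.2 (g.injective (hgu.trans e))⟩
  obtain ⟨k, hk, hku, hkw⟩ := S.trans_inner u' (g w) w' hi h' hgw hw'
  rw [← S.e_map hg u w, hgu, ← S.e_map hk u' (g w), hku, hkw]

theorem e_coset {u z : U} (hu : u ≠ 0) (hz : z ∉ S.D u) {x : U} (hx : x ∈ S.D u) :
    S.e u (z + x) = S.e u z := by
  obtain ⟨g, hg, hgu, hgz⟩ := S.trans_coset u z x hu hz hx
  rw [← S.e_map hg u z, hgu, hgz]

/-- Representatives of the cosets at distance two, with their weights. -/
theorem count_paths {u : U} (hu : u ≠ 0) {g : ℕ}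
    (hg : ∀ w, Indep2 u w → w ∈ S.D u → S.e u w = g) :
    ∃ Q : Finset U, (∀ z ∈ Q, z ∉ S.D u ∧ 0 < S.e u z) ∧
      (∀ z ∈ Q, ∀ z' ∈ Q, z - z' ∈ S.D u → z = z') ∧
      (∀ z, z ∉ S.D u → 0 < S.e u z → ∃ z' ∈ Q, z - z' ∈ S.D u) ∧
      2 ^ S.d * ∑ z ∈ Q, (2 ^ S.e u z - 1) = (2 ^ S.d - 2) * (2 ^ S.d - 2 ^ g) := by
  classical
  haveI : Fintype U := Fintype.ofFinite U
  let p : U →ₗ[ZMod 2] U ⧸ S.D u := (S.D u).mkQ
  have hp : ∀ z z', p z = p z' ↔ z - z' ∈ S.D u := fun z z' => Submodule.Quotient.eq _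
  let r : U ⧸ S.D u → U := fun q => q.out
  have hr : ∀ q, p (r q) = q := fun q => Quotient.out_eq' q
  let Qset : Finset U := (Finset.univ : Finset U).filter
    (fun z => r (p z) = z ∧ z ∉ S.D u ∧ 0 < S.e u z)
  have hQ : ∀ z, z ∈ Qset ↔ r (p z) = z ∧ z ∉ S.D u ∧ 0 < S.e u z := fun z => by simp [Qset]
  have hrep : ∀ z, z ∉ S.D u → r (p z) ∉ S.D u ∧ S.e u (r (p z)) = S.e u z := by
    intro z hz
    have hd : r (p z) - z ∈ S.D u := (hp _ _).1 (hr _)
    refine ⟨fun h => hz ?_, ?_⟩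
    · simpa using (S.D u).sub_mem h hd
    · conv_lhs => rw [show r (p z) = z + (r (p z) - z) by abel]
      exact S.e_coset hu hz hd
  refine ⟨Qset, fun z hz => ((hQ z).1 hz).2, ?_, ?_, ?_⟩
  · intro z hz z' hz' h
    rw [← ((hQ z).1 hz).1, ← ((hQ z').1 hz').1, (hp z z').2 h]
  · intro z hz he
    obtain ⟨h1, h2⟩ := hrep z hz
    refine ⟨r (p z), (hQ _).2 ⟨by rw [hr], h1, h2 ▸ he⟩, ?_⟩
    exact (hp _ _).1 (hr _).symm
  -- the double count
  let N : Finset U := (Finset.univ : Finset U).filter (fun z => z ∉ S.D u)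
  let A : Finset U := (Finset.univ : Finset U).filter (fun w => w ∈ S.D u ∧ w ≠ 0 ∧ w ≠ u)
  have hleft : ∀ w ∈ A, (N.filter (fun z => z ∈ S.D w)).card = 2 ^ S.d - 2 ^ g := by
    intro w hw
    obtain ⟨hwu, hw0, hwne⟩ := (Finset.mem_filter.1 hw).2
    have hi : Indep2 u w := ⟨hu, hw0, hwne.symm⟩
    let B : Finset U := (Finset.univ : Finset U).filter (fun z => z ∈ S.D w)
    have hBc : B.card = 2 ^ S.d := by
      rw [card_finset_submod (S.D w) B (fun x => by simp [B]), S.finrank_D w hw0]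
    have hBI : (B.filter (fun z => z ∈ S.D u)).card = 2 ^ g := by
      rw [card_finset_submod (S.D u ⊓ S.D w) _ (fun x => by simp [B, and_comm]), ← hg w hi hwu]
      rfl
    have heq : N.filter (fun z => z ∈ S.D w) = B.filter (fun z => z ∉ S.D u) := by
      ext z; simp [N, B, and_comm]
    have := Finset.card_filter_add_card_filter_not (s := B) (p := fun z => z ∈ S.D u)
    rw [heq]; omega
  have hAc : A.card = 2 ^ S.d - 2 := by
    let B : Finset U := (Finset.univ : Finset U).filter (fun z => z ∈ S.D u)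
    have hBc : B.card = 2 ^ S.d := by
      rw [card_finset_submod (S.D u) B (fun x => by simp [B]), S.finrank_D u hu]
    have : A = (B.erase 0).erase u := by ext z; simp [A, B]; tauto
    rw [this, Finset.card_erase_of_mem, Finset.card_erase_of_mem, hBc]
    · omega
    · simp [B]
    · simp [B, hu, S.mem_self]
  have hright : ∀ z ∈ N, (A.filter (fun w => z ∈ S.D w)).card = 2 ^ S.e u z - 1 := by
    intro z hz
    have hzu : z ∉ S.D u := (Finset.mem_filter.1 hz).2
    have hz0 : z ≠ 0 := fun h => hzu (h ▸ S.zero_mem u)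
    let B : Finset U := (Finset.univ : Finset U).filter (fun w => w ∈ S.D u ⊓ S.D z)
    have hBc : B.card = 2 ^ S.e u z := card_finset_submod _ B (fun x => by simp [B])
    have : A.filter (fun w => z ∈ S.D w) = B.erase 0 := by
      ext w
      simp only [A, B, Finset.mem_filter, Finset.mem_univ, true_and, Finset.mem_erase, Submodule.mem_inf]
      constructor
      · rintro ⟨⟨hwu, hw0, -⟩, hzw⟩
        exact ⟨hw0, hwu, S.symm w z hw0 hz0 hzw⟩
      · rintro ⟨hw0, hwu, hwz⟩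
        exact ⟨⟨hwu, hw0, fun h => hzu (S.symm z u hz0 hu (h ▸ hwz))⟩, S.symm z w hz0 hw0 hwz⟩
    rw [this, Finset.card_erase_of_mem (by simp [B]), hBc]
  have hdc := Finset.sum_card_bipartiteAbove_eq_sum_card_bipartiteBelow
    (s := A) (t := N) (fun w z => z ∈ S.D w)
  simp only [Finset.bipartiteAbove, Finset.bipartiteBelow] at hdc
  rw [Finset.sum_congr rfl hleft, Finset.sum_congr rfl hright, Finset.sum_const, hAc, smul_eq_mul]
    at hdc
  rw [hdc]
  -- group by cosets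
  let Qall : Finset U := (Finset.univ : Finset U).filter (fun z => r (p z) = z ∧ z ∉ S.D u)
  have hmaps : ∀ z ∈ N, r (p z) ∈ Qall := fun z hz => by
    simp [Qall, hr, (hrep z (Finset.mem_filter.1 hz).2).1]
  have hfib : ∀ z' ∈ Qall, ∑ z ∈ N.filter (fun z => r (p z) = z'), (2 ^ S.e u z - 1) =
      2 ^ S.d * (2 ^ S.e u z' - 1) := by
    intro z' hz'
    obtain ⟨hz'r, hz'u⟩ := (Finset.mem_filter.1 hz').2
    have hc : ∀ z ∈ N.filter (fun z => r (p z) = z'), 2 ^ S.e u z - 1 = 2 ^ S.e u z' - 1 := by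
      intro z hz
      simp only [N, Finset.mem_filter, Finset.mem_univ, true_and] at hz
      rw [← hz.2, (hrep z hz.1).2]
    rw [Finset.sum_congr rfl hc, Finset.sum_const, smul_eq_mul]
    congr 1
    let B : Finset U := (Finset.univ : Finset U).filter (fun z => z ∈ S.D u)
    rw [← S.finrank_D u hu, ← card_finset_submod (S.D u) B (fun x => by simp [B])]
    refine Finset.card_bij' (fun z _ => z - z') (fun x _ => z' + x) ?_ ?_ (fun z _ => by abel)
      (fun x _ => by abel)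
    · intro z hz
      simp only [N, Finset.mem_filter, Finset.mem_univ, true_and] at hz
      have h := (hp z (r (p z))).1 (hr _).symm
      rw [hz.2] at h
      simpa [B] using h
    · intro x hx
      have hx' : x ∈ S.D u := by simpa [B] using hx
      have h1 : z' + x ∉ S.D u := fun h => hz'u (by simpa using (S.D u).sub_mem h hx')
      have h2 : p (z' + x) = p z' := (hp _ _).2 (by simpa using hx')
      simp [N, h1, h2, hz'r]
  rw [← Finset.sum_fiberwise_of_maps_to hmaps, Finset.sum_congr rfl hfib, ← Finset.mul_sum]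
  congr 1
  refine Finset.sum_subset_zero_on_sdiff ?_ ?_ (fun z _ => rfl)
  · intro z hz
    have := (hQ z).1 hz
    simp [Qall, this.1, this.2.1]
  · intro z hz
    simp only [Finset.mem_sdiff, Qall, Finset.mem_filter, Finset.mem_univ, true_and, hQ, not_and,
      not_lt, Nat.le_zero] at hz
    rw [hz.2 hz.1.1 hz.1.2]
    rfl

/-- Arithmetic of the count. -/
theorem count_arith {d g T : ℕ} (hg : g ≤ d) (hd : 2 ≤ d) (h : 2 ^ d * T = (2 ^ d - 2) * (2 ^ d - 2 ^ g)) :
    g = d ∨ (g + 1 = d ∧ T = 2 ^ (d - 1) - 1) := by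
  rcases hg.lt_or_eq with hlt | heq
  · right
    obtain ⟨k, rfl⟩ : ∃ k, d = k + 1 := ⟨d - 1, by omega⟩
    obtain ⟨j, rfl⟩ : ∃ j, k = g + j := ⟨k - g, by omega⟩
    have h1 : 2 ^ (g + j + 1) - 2 = 2 * (2 ^ (g + j) - 1) := by
      rw [pow_succ]; omega
    have h2 : 2 ^ (g + j + 1) - 2 ^ g = 2 ^ g * (2 ^ (j + 1) - 1) := by
      rw [Nat.mul_sub_one, ← pow_add, ← add_assoc]
    rw [h1, h2] at h
    have h3 : 2 ^ j * T = (2 ^ (g + j) - 1) * (2 ^ (j + 1) - 1) := by
      refine Nat.eq_of_mul_eq_mul_left (show 0 < 2 * 2 ^ g by positivity) ?_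
      calc 2 * 2 ^ g * (2 ^ j * T) = 2 ^ (g + j + 1) * T := by rw [pow_succ, pow_add]; ring
        _ = _ := by rw [h]; ring
    have hj : j = 0 := by
      by_contra hj
      have he : 2 ∣ 2 ^ j * T := Dvd.dvd.mul_right (dvd_pow_self 2 hj) T
      rw [h3] at he
      rcases Nat.prime_two.dvd_mul.1 he with h' | h'
      · have : 2 ∣ 2 ^ (g + j) := dvd_pow_self 2 (by omega)
        have hp : 0 < 2 ^ (g + j) := by positivity
        omega
      · have : 2 ∣ 2 ^ (j + 1) := dvd_pow_self 2 (by omega)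
        have hp : 0 < 2 ^ (j + 1) := by positivity
        omega
    subst hj
    refine ⟨by omega, ?_⟩
    simpa using h3
  · exact Or.inl heq

theorem e_self {u w : U} (h : Indep2 u w) (hw : w ∈ S.D u) : 2 ≤ S.e u w := by
  rw [← finrank_pair h]
  refine Submodule.finrank_mono (Submodule.span_le.2 ?_)
  intro x hx
  rcases hx with rfl | rfl
  · exact ⟨S.mem_self x, S.symm x w h.1 h.2.1 hw⟩
  · exact ⟨hw, S.mem_self _⟩

theorem e_le (u w : U) (hu : u ≠ 0) : S.e u w ≤ S.d := by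
  rw [← S.finrank_D u hu]; exact Submodule.finrank_mono inf_le_left

theorem exists_adj {u : U} (hu : u ≠ 0) : ∃ w, Indep2 u w ∧ w ∈ S.D u := by
  classical
  by_contra hno
  push Not at hno
  have hle : S.D u ≤ Submodule.span (ZMod 2) ({u} : Set U) := fun x hx => by
    by_cases x0 : x = 0
    · subst x0; exact Submodule.zero_mem _
    · by_cases xu : x = u
      · subst xu; exact Submodule.mem_span_singleton_self x
      · exact absurd hx (hno x ⟨hu, x0, fun h => xu h.symm⟩)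
  have := Submodule.finrank_mono hle
  rw [S.finrank_D u hu, finrank_span_singleton hu] at this
  have := S.two_le
  omega

theorem caseC_or {U' : Type*} [AddCommGroup U'] [Module (ZMod 2) U'] [Finite U']
    {G' : Subgroup (U' ≃ₗ[ZMod 2] U')} (S : DSys G') :
    S.CaseC ∨ ((∀ u w : U', Indep2 u w → w ∈ S.D u → S.e u w + 1 = S.d) ∧ 3 ≤ S.d ∧
      ∀ u : U', u ≠ 0 → ∃ Q : Finset U', (∀ z ∈ Q, z ∉ S.D u ∧ 0 < S.e u z) ∧
        (∀ z ∈ Q, ∀ z' ∈ Q, z - z' ∈ S.D u → z = z') ∧
        (∀ z, z ∉ S.D u → 0 < S.e u z → ∃ z' ∈ Q, z - z' ∈ S.D u) ∧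
        ∑ z ∈ Q, (2 ^ S.e u z - 1) = 2 ^ (S.d - 1) - 1) := by
  by_cases hC : S.CaseC
  · exact Or.inl hC
  right
  unfold DSys.CaseC at hC
  push Not at hC
  obtain ⟨u₁, w₁, hu₁, hw₁, hmem, hne⟩ := hC
  have hi₁ : Indep2 u₁ w₁ := ⟨hu₁, hw₁, fun h => hne (by rw [h])⟩
  have hlt : S.e u₁ w₁ ≠ S.d := fun he => hne ((Submodule.eq_of_le_of_finrank_le
    (inf_eq_left.1 (Submodule.eq_of_le_of_finrank_le (inf_le_left (a := S.D u₁) (b := S.D w₁))
      (by rw [S.finrank_D u₁ hu₁]; exact he.ge)))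
    (by rw [S.finrank_D u₁ hu₁, S.finrank_D w₁ hw₁])).symm)
  have key : ∀ u w : U', Indep2 u w → w ∈ S.D u → S.e u w + 1 = S.d := by
    intro u w h hw
    rw [S.e_adj_eq h hw hi₁ hmem]
    obtain ⟨Q, -, -, -, hsum⟩ := S.count_paths hu₁ (g := S.e u₁ w₁)
      (fun w' h' hw' => S.e_adj_eq h' hw' hi₁ hmem)
    rcases count_arith (S.e_le u₁ w₁ hu₁) S.two_le hsum with h' | h'
    · exact absurd h' hlt
    · exact h'.1
  refine ⟨key, ?_, fun u hu => ?_⟩
  · have := S.e_self hi₁ hmem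
    have := key u₁ w₁ hi₁ hmem
    omega
  · obtain ⟨Q, h1, h2, h3, hsum⟩ := S.count_paths hu (g := S.d - 1)
      (fun w' h' hw' => by have := key u w' h' hw'; omega)
    refine ⟨Q, h1, h2, h3, ?_⟩
    rcases count_arith (Nat.sub_le _ _) S.two_le hsum with h' | h'
    · have := S.two_le; omega
    · exact h'.2

/-- Two hyperplanes of `D a` meet in dimension at least `d - 2`. -/
theorem e_ge_of_two {u z : U} (hu : u ≠ 0) (hadj : ∀ a w : U, Indep2 a w → w ∈ S.D a → S.e a w + 1 = S.d)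
    (h : Two S.D u z) : S.d ≤ S.e u z + 2 := by
  obtain ⟨hzu, a, ha, hau, haz⟩ := h
  have hz : z ≠ 0 := fun h => hzu (h ▸ S.zero_mem u)
  have h1 : Indep2 a u := ⟨ha, hu, fun e => hzu (S.symm z u hz hu (e ▸ haz))⟩
  have h2 : Indep2 a z := ⟨ha, hz, fun e => hzu (e ▸ hau)⟩
  have e1 := hadj a u h1 (S.symm u a hu ha hau)
  have e2 := hadj a z h2 (S.symm z a hz ha haz)
  have e3 := S.finrank_D a ha
  have hsum := Submodule.finrank_sup_add_finrank_inf_eq (S.D a ⊓ S.D u) (S.D a ⊓ S.D z)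
  have hle : Module.finrank (ZMod 2) ((S.D a ⊓ S.D u) ⊔ (S.D a ⊓ S.D z) : Submodule (ZMod 2) U) ≤
      Module.finrank (ZMod 2) (S.D a) := Submodule.finrank_mono (sup_le inf_le_left inf_le_left)
  have hle2 : Module.finrank (ZMod 2) ((S.D a ⊓ S.D u) ⊓ (S.D a ⊓ S.D z) : Submodule (ZMod 2) U) ≤
      S.e u z := Submodule.finrank_mono fun x hx => ⟨hx.1.2, hx.2.2⟩
  unfold e at e1 e2
  omega

end DSys

end Cfsg.Agent.Grp.Antiflag
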