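import Mathlib

/-! Antiflag transitive linear groups over the field with two elements (for S4179):
definitions shared by the files of `Lib/Grp/Antiflag`. See `notes_h1/S4179.md`. -/

set_option autoImplicit false

namespace Cfsg.Agent.Grp.Antiflag

variable {U : Type*} [AddCommGroup U] [Module (ZMod 2) U]

/-- Transitive on pairs (point, linear form equal to `1` on it). -/
def IsAntiflag (G : Subgroup (U ≃ₗ[ZMod 2] U)) : Prop :=
  ∀ (u u' : U) (φ φ' : Module.Dual (ZMod 2) U), φ u = 1 → φ' u' = 1 →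
    ∃ g ∈ G, g u = u' ∧ ∀ x, φ' (g x) = φ x

/-- Two distinct nonzero vectors. -/
def Indep2 (a b : U) : Prop := a ≠ 0 ∧ b ≠ 0 ∧ a ≠ b

/-- Transitive on ordered pairs of distinct nonzero vectors. -/
def TwoTrans (G : Subgroup (U ≃ₗ[ZMod 2] U)) : Prop :=
  ∀ a b c d : U, Indep2 a b → Indep2 c d → ∃ g ∈ G, g a = c ∧ g b = d

/-- `z` is at distance two from `u` for the relation `z ∈ D u`. -/
def Two (D : U → Submodule (ZMod 2) U) (u z : U) : Prop :=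
  z ∉ D u ∧ ∃ w, w ≠ 0 ∧ w ∈ D u ∧ w ∈ D z

/-- The subspaces attached to an antiflag transitive group which is not two-transitive. -/
structure DSys (G : Subgroup (U ≃ₗ[ZMod 2] U)) where
  D : U → Submodule (ZMod 2) U
  d : ℕ
  two_le : 2 ≤ d
  proper : d < Module.finrank (ZMod 2) U
  mem_self : ∀ u : U, u ∈ D u
  finrank_D : ∀ u : U, u ≠ 0 → Module.finrank (ZMod 2) (D u) = d
  symm : ∀ u w : U, u ≠ 0 → w ≠ 0 → w ∈ D u → u ∈ D w
  map_D : ∀ g ∈ G, ∀ u : U, D (g u) = (D u).map (g : U →ₗ[ZMod 2] U)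
  add_le : ∀ u w : U, Indep2 u w → D (u + w) ≤ D u ⊔ D w
  trans : ∀ u w : U, u ≠ 0 → w ≠ 0 → ∃ g ∈ G, g u = w
  trans_inner : ∀ u w w' : U, Indep2 u w → Indep2 u w' → w ∈ D u → w' ∈ D u →
    ∃ g ∈ G, g u = u ∧ g w = w'
  trans_coset : ∀ u z x : U, u ≠ 0 → z ∉ D u → x ∈ D u → ∃ g ∈ G, g u = u ∧ g z = z + x

variable {G : Subgroup (U ≃ₗ[ZMod 2] U)}

/-- The blocks form a spread. -/
def DSys.CaseC (S : DSys G) : Prop :=
  ∀ u w : U, u ≠ 0 → w ≠ 0 → w ∈ S.D u → S.D w = S.D u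

/-- A symplectic component around each point. -/
def DSys.CaseA (S : DSys G) : Prop :=
  3 ≤ S.d ∧ ∃ Z : U → Submodule (ZMod 2) U, ∀ u : U, u ≠ 0 →
    Module.finrank (ZMod 2) (Z u) = S.d + 1 ∧
    (∀ z, z ∈ Z u ↔ z ∈ S.D u ∨ Two S.D u z) ∧
    ∀ x ∈ Z u, x ≠ 0 → Z x = Z u

/-- The exceptional case `d = 3`. -/
def DSys.CaseB (S : DSys G) : Prop :=
  S.d = 3 ∧ ∀ u w : U, Indep2 u w → w ∈ S.D u →
    (∀ x, x ∈ S.D u → x ∈ S.D w → x ∈ Submodule.span (ZMod 2) ({u, w} : Set U)) ∧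
    ∀ z, Two S.D u z → Two S.D w z → z ∈ S.D (u + w)

end Cfsg.Agent.Grp.Antiflag
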