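import Mathlib

/-! Soluble linear groups transitive on a prime number of nonzero vectors. -/

set_option autoImplicit false

namespace Cfsg.Agent.Grp.Antiflag

variable {V : Type*} [AddCommGroup V] [Module (ZMod 2) V] [Finite V]

theorem exists_abelian_normal {G : Type*} [Group G] [Nontrivial G] (h : Group.IsSolvable G) :
    ∃ N : Subgroup G, N.Normal ∧ N ≠ ⊥ ∧ ∀ a ∈ N, ∀ b ∈ N, a * b = b * a := by
  classical
  have hex := h.solvable
  have h0 : Nat.find hex ≠ 0 := fun e => by
    have := Nat.find_spec hex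
    rw [e, derivedSeries_zero] at this
    exact top_ne_bot this
  obtain ⟨j, hj⟩ := Nat.exists_eq_succ_of_ne_zero h0
  refine ⟨derivedSeries G j, derivedSeries_normal G j, Nat.find_min hex (by omega), fun a ha b hb => ?_⟩
  have h1 := Nat.find_spec hex
  rw [hj, derivedSeries_succ, Subgroup.commutator_eq_bot_iff_le_centralizer] at h1
  exact (Subgroup.mem_centralizer_iff.1 (h1 ha) b hb).symm

/-- The soluble case: the Singer group or its normaliser. -/
theorem singer_cases {n : ℕ} (hn : Module.finrank (ZMod 2) V = n) (hprime : (2 ^ n - 1).Prime)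
    (H : Subgroup (V ≃ₗ[ZMod 2] V)) (ht : ∀ v w : V, v ≠ 0 → w ≠ 0 → ∃ h ∈ H, h v = w)
    (hs : Group.IsSolvable H) :
    (IsCyclic ↥H ∧ Nat.card ↥H = 2 ^ n - 1) ∨
      (Nat.card ↥H = n * (2 ^ n - 1) ∧ ∃ C : Subgroup (V ≃ₗ[ZMod 2] V), C ≤ H ∧ (C.subgroupOf H).Normal ∧
        IsCyclic ↥C ∧ Nat.card ↥C = 2 ^ n - 1) := by
  classical
  haveI : Finite (V ≃ₗ[ZMod 2] V) := Finite.of_injective (fun g => (g : V → V)) DFunLike.coe_injective
  have hn' : n.Prime := by
    have h2 : 2 ≤ n := by
      by_contra hc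
      interval_cases n <;> simp_all <;> norm_num at hprime
    exact Nat.prime_of_pow_sub_one_prime (by omega) hprime |>.2
  set p := 2 ^ n - 1 with hp
  let X := {v : V // v ≠ 0}
  letI aX : MulAction H X :=
    { smul := fun h x => ⟨(h : V ≃ₗ[ZMod 2] V) x.1, by simpa using x.2⟩
      one_smul := fun x => Subtype.ext rfl
      mul_smul := fun _ _ x => Subtype.ext rfl }
  have hX : Nat.card X = p := by
    cases nonempty_fintype V
    rw [Nat.card_eq_fintype_card, Fintype.card_subtype_compl, Fintype.card_subtype_eq,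
      ← Nat.card_eq_fintype_card, Module.natCard_eq_pow_finrank (K := ZMod 2), Nat.card_zmod, hn]
  haveI hpre : MulAction.IsPretransitive H X := ⟨fun x y => by
    obtain ⟨h, hh, he⟩ := ht x.1 y.1 x.2 y.2
    exact ⟨⟨h, hh⟩, Subtype.ext he⟩⟩
  haveI hXne : Nonempty X := (Nat.card_pos_iff.1 (hX ▸ hprime.pos)).1
  obtain ⟨x0⟩ := hXne
  haveI : MulAction.IsPreprimitive H X := MulAction.IsPreprimitive.of_prime_card (hX ▸ hprime)
  have hfaith : ∀ h : H, (∀ x : X, h • x = x) → h = 1 := fun h hh => Subtype.ext (LinearEquiv.ext fun v => by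
    by_cases hv : v = 0
    · simp [hv]
    · exact congrArg Subtype.val (hh ⟨v, hv⟩))
  haveI : Nontrivial H := by
    obtain ⟨y, hy⟩ : ∃ y : X, y ≠ x0 := by
      by_contra hc
      push Not at hc
      haveI : Subsingleton X := ⟨fun a b => (hc a).trans (hc b).symm⟩
      have := Nat.card_of_subsingleton x0
      rw [hX] at this
      exact hprime.ne_one this
    obtain ⟨h, hh⟩ := MulAction.exists_smul_eq H x0 y
    exact ⟨⟨h, 1, fun e => hy (by rw [← hh, e, one_smul])⟩⟩
  obtain ⟨N, hNn, hNb, hNc⟩ := exists_abelian_normal hs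
  haveI : MulAction.IsPretransitive N X := MulAction.IsQuasiPreprimitive.isPretransitive_of_normal (fun e => hNb (by
    rw [Subgroup.eq_bot_iff_forall]
    intro g hg
    exact hfaith g fun x => (e ▸ Set.mem_univ x : x ∈ MulAction.fixedPoints N X) ⟨g, hg⟩))
  have hstab : MulAction.stabilizer N x0 = ⊥ := by
    rw [Subgroup.eq_bot_iff_forall]
    intro g hg
    refine Subtype.ext (hfaith g.1 fun x => ?_)
    obtain ⟨k, rfl⟩ := MulAction.exists_smul_eq N x0 x
    show (g : H) • ((k : H) • x0) = (k : H) • x0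
    rw [← mul_smul, hNc _ g.2 _ k.2, mul_smul]
    exact congrArg _ hg
  have hNcard : Nat.card N = p := by
    rw [← Subgroup.index_bot, ← hstab, MulAction.index_stabilizer_of_transitive, hX]
  haveI : Fact p.Prime := ⟨hprime⟩
  have hNcyc : IsCyclic N := isCyclic_of_prime_card hNcard
  obtain ⟨g0, hg0⟩ := hNcyc.exists_generator
  let s : V ≃ₗ[ZMod 2] V := g0.1.1
  let S : Module.End (ZMod 2) V := (s : V →ₗ[ZMod 2] V)
  let E : Subalgebra (ZMod 2) (Module.End (ZMod 2) V) := Subalgebra.centralizer (ZMod 2) {S}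
  have hE : ∀ {a : Module.End (ZMod 2) V}, a ∈ E ↔ S * a = a * S := fun {a} => by
    simp [E, Subalgebra.mem_centralizer_iff]
  let v : V := x0.1
  have hpw : ∀ (g : V ≃ₗ[ZMod 2] V) (i : ℕ) (w : V), ((g : V →ₗ[ZMod 2] V) ^ i) w = (g ^ i) w := by
    intro g i
    induction i with
    | zero => intro w; rfl
    | succ i ih => intro w; rw [pow_succ, pow_succ, Module.End.mul_apply, LinearEquiv.mul_apply, ih]; rfl
  have hreach : ∀ w : V, w ≠ 0 → ∃ i : ℕ, (S ^ i) v = w := by
    intro w hw
    obtain ⟨k, hk⟩ := MulAction.exists_smul_eq N x0 (⟨w, hw⟩ : X)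
    obtain ⟨i, rfl⟩ := mem_powers_iff_mem_zpowers.2 (hg0 k)
    refine ⟨i, ?_⟩
    have h1 : (((g0 ^ i : N) : H) : V ≃ₗ[ZMod 2] V) v = w := congrArg Subtype.val hk
    rw [← h1]
    rw [hpw]
    simp [s]
  have hSE : ∀ i : ℕ, S ^ i ∈ E := fun i => hE.2 ((Commute.refl S).pow_right i).eq
  have hcommpow : ∀ {a : Module.End (ZMod 2) V}, a ∈ E → ∀ i w, a ((S ^ i) w) = (S ^ i) (a w) := fun {a} ha i w =>
    (LinearMap.congr_fun (Commute.pow_right (show Commute a S from (hE.1 ha).symm) i).eq w)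
  have hev : ∀ {a b : Module.End (ZMod 2) V}, a ∈ E → b ∈ E → a v = b v → a = b := by
    intro a b ha hb hab
    refine LinearMap.ext fun w => ?_
    by_cases hw : w = 0
    · simp [hw]
    · obtain ⟨i, rfl⟩ := hreach w hw
      rw [hcommpow ha, hcommpow hb, hab]
  have hshape : ∀ a ∈ E, a = 0 ∨ ∃ i : ℕ, a = S ^ i := fun a ha => by
    by_cases h0 : a v = 0
    · exact Or.inl (hev ha E.zero_mem (by simpa using h0))
    · obtain ⟨i, hi⟩ := hreach _ h0
      exact Or.inr ⟨i, hev ha (hSE i) hi.symm⟩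
  letI : CommRing E :=
    { (inferInstance : Ring E) with
      mul_comm := fun a b => Subtype.ext (by
        rcases hshape a.1 a.2 with h | ⟨i, h⟩ <;> rcases hshape b.1 b.2 with h' | ⟨j, h'⟩ <;>
          simp [h, h', ← pow_add, Nat.add_comm]) }
  haveI : Nontrivial E := ⟨⟨0, 1, fun e => x0.2 (by
    show v = 0
    have := LinearMap.congr_fun (congrArg Subtype.val e) v
    simpa using this.symm)⟩⟩
  have hinjpow : ∀ i : ℕ, Function.Injective ⇑(S ^ i) := fun i => by
    rw [Module.End.coe_pow]; exact s.injective.iterate i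
  haveI : IsDomain E := by
    haveI : NoZeroDivisors E := ⟨fun {a b} hab => by
      rcases hshape a.1 a.2 with h | ⟨i, h⟩
      · exact Or.inl (Subtype.ext h)
      rcases hshape b.1 b.2 with h' | ⟨j, h'⟩
      · exact Or.inr (Subtype.ext h')
      exfalso
      have e := LinearMap.congr_fun (congrArg Subtype.val hab) v
      simp only [Subalgebra.coe_mul, h, h', ← pow_add, Subalgebra.coe_zero, LinearMap.zero_apply] at e
      exact x0.2 (hinjpow (i + j) (by rw [map_zero]; exact e))⟩
    exact NoZeroDivisors.to_isDomain E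
  let ev : E ≃ₗ[ZMod 2] V := LinearEquiv.ofBijective
    ((LinearMap.applyₗ v).comp E.toSubmodule.subtype : E →ₗ[ZMod 2] V)
    ⟨fun a b h => Subtype.ext (hev a.2 b.2 h), fun w => by
      by_cases hw : w = 0
      · exact ⟨0, by simp [hw]⟩
      · obtain ⟨i, hi⟩ := hreach w hw
        exact ⟨⟨S ^ i, hSE i⟩, hi⟩⟩
  haveI : Finite E := Finite.of_equiv V ev.toEquiv.symm
  letI : Fintype E := Fintype.ofFinite E
  letI : Field E := Fintype.fieldOfDomain E
  -- the point stabiliser embeds in the Galois group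
  let K := MulAction.stabilizer H x0
  have hconj : ∀ (k : K) (a : Module.End (ZMod 2) V), a ∈ E →
      (LinearEquiv.conjAlgEquiv (ZMod 2) (k.1.1 : V ≃ₗ[ZMod 2] V)) a ∈ E := by
    intro k a ha
    let c := LinearEquiv.conjAlgEquiv (ZMod 2) (k.1.1 : V ≃ₗ[ZMod 2] V)
    have hcS : c S ∈ E → ∃ i : ℕ, c S = S ^ i := fun h => (hshape _ h).resolve_left fun e => by
      have := LinearMap.congr_fun e (k.1.1 v)
      simp [c, S, LinearEquiv.conj_apply] at this
      exact x0.2 this
    have hinvS : ∃ i : ℕ, c.symm S = S ^ i := by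
      have hmem : k.1⁻¹ * g0.1 * k.1 ∈ N := by
        have := hNn.conj_mem g0.1 g0.2 k.1⁻¹
        simpa using this
      obtain ⟨i, hi⟩ := mem_powers_iff_mem_zpowers.2 (hg0 ⟨_, hmem⟩)
      refine ⟨i, LinearMap.ext fun w => ?_⟩
      have h1 := LinearEquiv.congr_fun (congrArg (fun q : N => ((q : H) : V ≃ₗ[ZMod 2] V)) hi) w
      simp only [] at h1
      push_cast at h1
      simp [c, S, LinearEquiv.conj_apply]
      rw [hpw]
      exact h1.symm
    obtain ⟨i, hi⟩ := hinvS
    refine hE.2 (c.symm.injective ?_)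
    rw [map_mul, map_mul, AlgEquiv.symm_apply_apply, hi]
    exact (Commute.pow_right (show Commute a S from (hE.1 ha).symm) i).symm.eq
  let toAut : K →* (E ≃ₐ[ZMod 2] E) :=
    { toFun := fun k => AlgEquiv.ofBijective
        (((LinearEquiv.conjAlgEquiv (ZMod 2) (k.1.1 : V ≃ₗ[ZMod 2] V)).toAlgHom.comp E.val).codRestrict E
          (fun a => hconj k a.1 a.2))
        (Finite.injective_iff_bijective.1 fun a b h => Subtype.ext
          ((LinearEquiv.conjAlgEquiv (ZMod 2) (k.1.1 : V ≃ₗ[ZMod 2] V)).injective (congrArg Subtype.val h)))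
      map_one' := AlgEquiv.ext fun a => Subtype.ext (LinearMap.ext fun w => rfl)
      map_mul' := fun k l => AlgEquiv.ext fun a => Subtype.ext (LinearMap.ext fun w => rfl) }
  have hKinj : Function.Injective toAut := by
    rw [injective_iff_map_eq_one]
    intro k hk
    refine Subtype.ext (hfaith k.1 fun x => Subtype.ext ?_)
    obtain ⟨i, hi⟩ := hreach x.1 x.2
    have h1 := LinearMap.congr_fun (congrArg Subtype.val (AlgEquiv.congr_fun hk ⟨S ^ i, hSE i⟩)) v
    have hkv : (k.1.1 : V ≃ₗ[ZMod 2] V).symm v = v :=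
      (LinearEquiv.symm_apply_eq _).2 (congrArg Subtype.val k.2).symm
    change (k.1.1 : V ≃ₗ[ZMod 2] V) ((S ^ i) ((k.1.1 : V ≃ₗ[ZMod 2] V).symm v)) = (S ^ i) v at h1
    rw [hkv, hi] at h1
    exact h1
  have hKdvd : Nat.card K ∣ n := by
    have := Subgroup.card_dvd_of_injective toAut hKinj
    rwa [IsGalois.card_aut_eq_finrank, ev.finrank_eq, hn] at this
  have hHcard : Nat.card H = p * Nat.card K := by
    rw [← Subgroup.index_mul_card K, MulAction.index_stabilizer_of_transitive, hX]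
  rcases (Nat.dvd_prime hn').1 hKdvd with h1 | h1
  · left
    rw [h1, mul_one] at hHcard
    exact ⟨isCyclic_of_prime_card hHcard, hHcard⟩
  · right
    rw [h1, mul_comm] at hHcard
    refine ⟨hHcard, N.map H.subtype, Subgroup.map_subtype_le N, ?_, ?_, ?_⟩
    · rw [Subgroup.subgroupOf, Subgroup.comap_map_eq_self_of_injective H.subtype_injective]; exact hNn
    · exact (MulEquiv.isCyclic (N.equivMapOfInjective _ H.subtype_injective)).1 hNcyc
    · rw [Subgroup.card_map_of_injective H.subtype_injective, hNcard]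

end Cfsg.Agent.Grp.Antiflag
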