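import Cfsg.Agent.Lib.Grp.Antiflag.Top
import Cfsg.Agent.Lib.Grp.Antiflag.Solvable

/-! Small facts for S4179. -/

set_option autoImplicit false

namespace Cfsg.Agent.Grp.Antiflag

variable {V : Type*} [AddCommGroup V] [Module (ZMod 2) V] [Finite V]

/-- A group of prime order `2 ^ n - 1` acts transitively on nonzero vectors. -/
theorem transitive_of_prime_order {n : ℕ} (hn : Module.finrank (ZMod 2) V = n) (hprime : (2 ^ n - 1).Prime)
    (C : Subgroup (V ≃ₗ[ZMod 2] V)) (hC : Nat.card C = 2 ^ n - 1) (v w : V) (hv : v ≠ 0) (hw : w ≠ 0) :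
    ∃ h ∈ C, h v = w := by
  classical
  haveI := finite_aut (V := V)
  letI aX : MulAction C V :=
    { smul := fun h x => (h : V ≃ₗ[ZMod 2] V) x, one_smul := fun _ => rfl, mul_smul := fun _ _ _ => rfl }
  have horb : ∀ x : V, (MulAction.orbit C x).ncard ∣ 2 ^ n - 1 := fun x => by
    rw [← hC, ← MulAction.index_stabilizer]; exact Subgroup.index_dvd_card _
  obtain ⟨g, hg⟩ : ∃ g : C, g ≠ 1 := by
    by_contra h
    push Not at h
    haveI : Subsingleton C := ⟨fun a b => (h a).trans (h b).symm⟩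
    rw [Nat.card_of_subsingleton (1 : C)] at hC
    exact hprime.ne_one hC.symm
  obtain ⟨x, hx⟩ : ∃ x : V, (g : V ≃ₗ[ZMod 2] V) x ≠ x := by
    by_contra h
    push Not at h
    exact hg (Subtype.ext (LinearEquiv.ext h))
  have hsub : MulAction.orbit C x ⊆ {0}ᶜ := by
    rintro _ ⟨k, rfl⟩
    show (k : V ≃ₗ[ZMod 2] V) x ≠ 0
    intro e
    rw [LinearEquiv.map_eq_zero_iff] at e
    exact hx (by rw [e, map_zero])
  have hfull : MulAction.orbit C x = {0}ᶜ := by
    refine Set.eq_of_subset_of_ncard_le hsub ?_ (Set.toFinite _)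
    rw [Set.ncard_compl, Set.ncard_singleton, Module.natCard_eq_pow_finrank (K := ZMod 2), Nat.card_zmod, hn]
    rcases (Nat.dvd_prime hprime).1 (horb x) with h | h
    · obtain ⟨y, hy⟩ := Set.ncard_eq_one.1 h
      have h1 : x = y := by
        have := MulAction.mem_orbit_self (M := C) x; rwa [hy, Set.mem_singleton_iff] at this
      have h2 : (g : V ≃ₗ[ZMod 2] V) x = y := by
        have : g • x ∈ MulAction.orbit C x := MulAction.mem_orbit x g
        rwa [hy, Set.mem_singleton_iff] at this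
      exact absurd (h2.trans h1.symm) hx
    · exact h.ge
  obtain ⟨a, ha⟩ : v ∈ MulAction.orbit C x := hfull ▸ hv
  obtain ⟨b, hb⟩ : w ∈ MulAction.orbit C x := hfull ▸ hw
  refine ⟨_, (b * a⁻¹).2, ?_⟩
  show (b * a⁻¹) • v = w
  have ha' : a • x = v := ha
  rw [← ha', mul_smul, inv_smul_smul]
  exact hb

theorem transitive_top (v w : V) (hv : v ≠ 0) (hw : w ≠ 0) :
    ∃ h ∈ (⊤ : Subgroup (V ≃ₗ[ZMod 2] V)), h v = w := by
  obtain ⟨e, he⟩ : ∃ e : V ≃ₗ[ZMod 2] V, e v = w := by
    have hpr : ∀ x : V, x ≠ 0 → ∃ b : Module.Basis (Fin (Module.finrank (ZMod 2) V)) (ZMod 2) V,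
        ∃ i, b i = x := by
      intro x hx
      have hli : LinearIndepOn (ZMod 2) id ({x} : Set V) := LinearIndepOn.singleton (by simpa using hx)
      let b := Module.Basis.extend hli
      haveI : Fintype ↑(hli.extend (Set.subset_univ _)) := Fintype.ofFinite _
      let e := Fintype.equivFinOfCardEq (Module.finrank_eq_card_basis b).symm
      exact ⟨b.reindex e, e ⟨x, hli.subset_extend _ rfl⟩, by simp [b]⟩
    obtain ⟨b, i, hi⟩ := hpr v hv
    obtain ⟨c, j, hj⟩ := hpr w hw
    exact ⟨b.equiv c (Equiv.swap i j), by rw [← hi, Module.Basis.equiv_apply, Equiv.swap_apply_left, hj]⟩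
  exact ⟨e, trivial, he⟩

end Cfsg.Agent.Grp.Antiflag
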