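import Cfsg.Agent.Lib.Grp.Antiflag.Lift

/-! The subspaces of `V` above the blocks of the quotients at the different points. -/

set_option autoImplicit false

namespace Cfsg.Agent.Grp.Antiflag

variable {V : Type*} [AddCommGroup V] [Module (ZMod 2) V] [Finite V]
  {H : Subgroup (V ≃ₗ[ZMod 2] V)} {v₀ : V}

/-- An equivariant assignment of subspaces of `V ⧸ ⟨v₀⟩` to its vectors. -/
structure SubFam (H : Subgroup (V ≃ₗ[ZMod 2] V)) (v₀ : V) where
  F : Qv v₀ → Submodule (ZMod 2) (Qv v₀)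
  map_F : ∀ g ∈ qGroup H v₀, ∀ a, F (g a) = (F a).map (g : Qv v₀ →ₗ[ZMod 2] Qv v₀)
  mem_F : ∀ a, a ∈ F a

open Classical in
/-- The lifted subspace. -/
noncomputable def SubFam.sub (S : SubFam H v₀) (v u : V) : Submodule (ZMod 2) V :=
  if h : ∃ h ∈ H, h v₀ = v then
    ((S.F (Submodule.Quotient.mk (h.choose.symm u))).comap (line v₀).mkQ).map
      (h.choose : V →ₗ[ZMod 2] V)
  else ⊥

variable (hH : TwoTrans H) (hn : 2 ≤ Module.finrank (ZMod 2) V) (hv₀ : v₀ ≠ 0)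

include hH hn hv₀

theorem exists_base {v : V} (hv : v ≠ 0) : ∃ h ∈ H, h v₀ = v := exists_map hH hn hv₀ hv

theorem SubFam.mem_sub (S : SubFam H v₀) {v u x : V} {h : V ≃ₗ[ZMod 2] V} (hh : h ∈ H) (hv : h v₀ = v) :
    x ∈ S.sub v u ↔
      (Submodule.Quotient.mk (h.symm x) : Qv v₀) ∈ S.F (Submodule.Quotient.mk (h.symm u)) := by
  have hex : ∃ k ∈ H, k v₀ = v := ⟨h, hh, hv⟩
  obtain ⟨hk, kv⟩ := hex.choose_spec
  have hfix : (h⁻¹ * hex.choose) v₀ = v₀ := (LinearEquiv.symm_apply_eq h).2 (kv.trans hv.symm)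
  have hg := mem_qGroup (H.mul_mem (H.inv_mem hh) hk) hfix
  have e1 : S.F (Submodule.Quotient.mk (h.symm u)) = (S.F (Submodule.Quotient.mk (hex.choose.symm u))).map
      (quotHom v₀ ⟨_, hfix⟩ : Qv v₀ →ₗ[ZMod 2] Qv v₀) := by
    rw [← S.map_F _ hg, quotHom_mk]
    simp
  rw [SubFam.sub, dif_pos hex, Submodule.mem_map_equiv, Submodule.mem_comap, e1, Submodule.mem_map_equiv]
  have e2 : (quotHom v₀ ⟨h⁻¹ * hex.choose, hfix⟩).symm (Submodule.Quotient.mk (h.symm x)) =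
      Submodule.Quotient.mk (hex.choose.symm x) := by
    rw [LinearEquiv.symm_apply_eq, quotHom_mk]
    simp
  rw [e2]
  rfl

theorem SubFam.finrank_sub (S : SubFam H v₀) {v u : V} {h : V ≃ₗ[ZMod 2] V} (hh : h ∈ H) (hv : h v₀ = v) :
    Module.finrank (ZMod 2) (S.sub v u) =
      Module.finrank (ZMod 2) (S.F (Submodule.Quotient.mk (h.symm u))) + 1 := by
  let p := S.F (Submodule.Quotient.mk (h.symm u))
  have e : S.sub v u = (p.comap (line v₀).mkQ).map (h : V →ₗ[ZMod 2] V) := by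
    ext x
    rw [S.mem_sub hH hn hv₀ hh hv, Submodule.mem_map_equiv, Submodule.mem_comap]
    rfl
  rw [e, LinearEquiv.finrank_map_eq]
  let f : p.comap (line v₀).mkQ →ₗ[ZMod 2] p :=
    ((line v₀).mkQ.comp (p.comap (line v₀).mkQ).subtype).codRestrict p (fun c => c.2)
  have hsurj : LinearMap.range f = ⊤ := by
    refine LinearMap.range_eq_top.2 fun c => ?_
    obtain ⟨y, hy⟩ := Submodule.Quotient.mk_surjective _ c.1
    exact ⟨⟨y, show (Submodule.Quotient.mk y : Qv v₀) ∈ p by rw [hy]; exact c.2⟩, Subtype.ext hy⟩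
  have hle : line v₀ ≤ p.comap (line v₀).mkQ := Submodule.le_comap_mkQ _ _
  have hker : LinearMap.ker f = (line v₀).comap (p.comap (line v₀).mkQ).subtype := by
    ext c
    rw [LinearMap.mem_ker, Submodule.mem_comap, ← Submodule.Quotient.mk_eq_zero (line v₀)]
    exact Subtype.ext_iff
  have h1 := f.finrank_range_add_finrank_ker
  rw [hsurj, finrank_top, hker, (Submodule.comapSubtypeEquivOfLe hle).finrank_eq,
    finrank_span_singleton hv₀] at h1
  exact h1.symm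

theorem SubFam.base_mem (S : SubFam H v₀) {v u : V} (hv : v ≠ 0) : v ∈ S.sub v u ∧ u ∈ S.sub v u := by
  obtain ⟨h, hh, hhv⟩ := exists_base hH hn hv₀ hv
  rw [S.mem_sub hH hn hv₀ hh hhv, S.mem_sub hH hn hv₀ hh hhv]
  refine ⟨?_, S.mem_F _⟩
  rw [(LinearEquiv.symm_apply_eq h).2 hhv.symm, mk_eq_zero.2 (Or.inr rfl)]
  exact Submodule.zero_mem _

/-- Membership, through a relation on independent pairs. -/
theorem SubFam.mem_sub_iff (S : SubFam H v₀) (R : LineRel H v₀)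
    (hR : ∀ a b, R.P a b ↔ Indep2 a b ∧ b ∈ S.F a) {v u x : V} (hvu : Indep2 v u) :
    x ∈ S.sub v u ↔ x ∈ Submodule.span (ZMod 2) ({v, u} : Set V) ∨ R.Lift v u x := by
  obtain ⟨h, hh, hhv⟩ := exists_base hH hn hv₀ hvu.1
  constructor
  · intro hx
    by_cases hs : x ∈ Submodule.span (ZMod 2) ({v, u} : Set V)
    · exact Or.inl hs
    right
    rw [R.lift_iff hh hhv, hR]
    refine ⟨(indep2_mk.2 ?_).1, (S.mem_sub hH hn hv₀ hh hhv).1 hx⟩
    have h3 : Indep3 v u x := ⟨hvu, hs⟩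
    rw [indep3_iff] at h3 ⊢
    obtain ⟨a, b, c, d, e, f, g⟩ := h3
    have hv' : h.symm v = v₀ := (LinearEquiv.symm_apply_eq h).2 hhv.symm
    refine ⟨hv₀, by simpa using b, by simpa using c, ?_, ?_, by simpa using f, ?_⟩
    · rw [← hv']; simpa using d
    · rw [← hv']; simpa using e
    · rw [← hv', ← map_add]; exact fun e => g (h.symm.injective e)
  · rintro (hs | hl)
    · refine (Submodule.span_le.2 ?_ : Submodule.span (ZMod 2) ({v, u} : Set V) ≤ S.sub v u) hs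
      rintro y (rfl | rfl)
      exacts [(S.base_mem hH hn hv₀ hvu.1).1, (S.base_mem hH hn hv₀ hvu.1).2]
    · exact (S.mem_sub hH hn hv₀ hh hhv).2 ((hR _ _).1 ((R.lift_iff hh hhv).1 hl)).2

theorem SubFam.sub_comm (S : SubFam H v₀) (R : LineRel H v₀)
    (hR : ∀ a b, R.P a b ↔ Indep2 a b ∧ b ∈ S.F a) (hs : Swaps H) {v u : V} (hvu : Indep2 v u) :
    S.sub v u = S.sub u v := by
  ext x
  rw [S.mem_sub_iff hH hn hv₀ R hR hvu, S.mem_sub_iff hH hn hv₀ R hR (indep2_symm hvu), Set.pair_comm]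
  exact or_congr_right ⟨R.lift_move hv₀ hs, R.lift_move hv₀ hs⟩

/-- If the subspaces are blocks in the quotient and symmetric, two of their points determine them. -/
theorem SubFam.sub_closed (S : SubFam H v₀) (R : LineRel H v₀)
    (hR : ∀ a b, R.P a b ↔ Indep2 a b ∧ b ∈ S.F a) (hs : Swaps H)
    (hblock : ∀ a b, a ≠ 0 → b ≠ 0 → b ∈ S.F a → S.F b = S.F a)
    {v u a b : V} (hvu : Indep2 v u) (ha : a ∈ S.sub v u) (hb : b ∈ S.sub v u) (hab : Indep2 a b) :
    S.sub a b = S.sub v u := by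
  have step : ∀ {p q r : V}, Indep2 p q → Indep2 p r → r ∈ S.sub p q → S.sub p r = S.sub p q := by
    intro p q r hpq hpr hr
    obtain ⟨h, hh, hhv⟩ := exists_base hH hn hv₀ hpq.1
    have hp' : h.symm p = v₀ := (LinearEquiv.symm_apply_eq h).2 hhv.symm
    have hne : ∀ {y : V}, Indep2 p y → (Submodule.Quotient.mk (h.symm y) : Qv v₀) ≠ 0 := by
      intro y hy e
      rw [mk_eq_zero, ← hp'] at e
      rcases e with e | e
      · exact hy.2.1 (by simpa using e)
      · exact hy.2.2 (by simpa using e.symm)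
    ext x
    rw [S.mem_sub hH hn hv₀ hh hhv, S.mem_sub hH hn hv₀ hh hhv,
      hblock _ _ (hne hpq) (hne hpr) ((S.mem_sub hH hn hv₀ hh hhv).1 hr)]
  by_cases hav : a = v
  · subst hav
    exact step hvu hab hb
  have h1 : Indep2 v a := ⟨hvu.1, hab.1, fun e => hav e.symm⟩
  have e1 : S.sub a v = S.sub v u := by
    rw [S.sub_comm hH hn hv₀ R hR hs (indep2_symm h1), step hvu h1 ha]
  rw [step (indep2_symm h1) hab (e1 ▸ hb), e1]

end Cfsg.Agent.Grp.Antiflag
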