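import Cfsg.Agent.Lib.Grp.Antiflag.KillB
import Cfsg.Agent.Lib.Grp.Antiflag.Adjugate

/-! The symplectic case gives an alternating trilinear form with all radicals of dimension one. -/

set_option autoImplicit false

namespace Cfsg.Agent.Grp.Antiflag

variable {V : Type*} [AddCommGroup V] [Module (ZMod 2) V] [Finite V]
  {H : Subgroup (V ≃ₗ[ZMod 2] V)} {v₀ : V}

theorem add_mem_of_index_two {K W : Submodule (ZMod 2) V} (hKW : K ≤ W)
    (hr : Module.finrank (ZMod 2) K + 1 = Module.finrank (ZMod 2) W) {c c' : V} (hc : c ∈ W)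
    (hcK : c ∉ K) (hc' : c' ∈ W) (hc'K : c' ∉ K) : c + c' ∈ K := by
  have hlt : K < K ⊔ Submodule.span (ZMod 2) {c} := by
    refine lt_of_le_of_ne le_sup_left fun e => hcK ?_
    rw [e]; exact Submodule.mem_sup_right (Submodule.mem_span_singleton_self c)
  have hle : K ⊔ Submodule.span (ZMod 2) {c} ≤ W :=
    sup_le hKW (Submodule.span_le.2 (Set.singleton_subset_iff.2 hc))
  have hW : K ⊔ Submodule.span (ZMod 2) {c} = W :=
    Submodule.eq_of_le_of_finrank_le hle (by have := Submodule.finrank_lt_finrank_of_lt hlt; omega)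
  rw [← hW] at hc'
  obtain ⟨k, hk, z, hz, rfl⟩ := Submodule.mem_sup.1 hc'
  rcases mem_line.1 hz with rfl | rfl
  · rw [add_zero] at hc'K; exact absurd hk hc'K
  · rwa [add_comm k, ← add_assoc, add_self', zero_add]

theorem kill_caseA (hH : TwoTrans H) (hn : 2 ≤ Module.finrank (ZMod 2) V) (hv₀ : v₀ ≠ 0) (hs : Swaps H)
    (S : DSys (qGroup H v₀)) (hA : S.CaseA) : False := by
  classical
  obtain ⟨hd3, Z, hZ⟩ := hA
  let C := colRel S
  let T := twoRel S
  -- the family of components
  let Fz : SubFam H v₀ :=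
    { F := fun a => if a = 0 then ⊥ else Z a
      map_F := fun g hg a => by
        by_cases ha : a = 0
        · rw [if_pos ha, if_pos (by rw [ha, map_zero]), Submodule.map_bot]
        · rw [if_neg ha, if_neg (by simpa using ha)]
          ext z
          rw [Submodule.mem_map_equiv, (hZ _ (by simpa using ha)).2.1, (hZ a ha).2.1]
          refine or_congr ?_ ⟨fun h => ?_, fun h => ?_⟩
          · rw [S.map_D g hg, Submodule.mem_map_equiv]
          · have := S.two_image (inv_mem hg) h
            rwa [show g⁻¹ (g a) = a from g.symm_apply_apply a] at this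
          · have := S.two_image hg h
            rwa [g.apply_symm_apply] at this
      mem_F := fun a => by
        by_cases ha : a = 0
        · rw [ha]; exact Submodule.zero_mem _
        · rw [if_neg ha]; exact ((hZ a ha).2.1 a).2 (Or.inl (S.mem_self a)) }
  have hF : ∀ {a : Qv v₀}, a ≠ 0 → Fz.F a = Z a := fun {a} ha => if_neg ha
  have hPz : ∀ {a b : Qv v₀}, Indep2 a b → (b ∈ Fz.F a ↔ C.P a b ∨ T.P a b) := by
    intro a b h
    rw [hF h.1, (hZ a h.1).2.1]
    exact ⟨fun h' => h'.imp (fun h1 => ⟨h, h1⟩) (fun h1 => ⟨h.1, h1⟩),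
      fun h' => h'.imp And.right And.right⟩
  let R : LineRel H v₀ :=
    { P := fun a b => C.P a b ∨ T.P a b
      inv := fun g hg a b h => h.imp (C.inv g hg a b) (T.inv g hg a b)
      indep := fun a b h => h.elim (C.indep a b) (T.indep a b)
      symm := fun a b h => h.imp (C.symm a b) (T.symm a b)
      shift := fun a b h => h.imp (C.shift a b) (T.shift a b) }
  have hR : ∀ a b, R.P a b ↔ Indep2 a b ∧ b ∈ Fz.F a := fun a b =>
    ⟨fun h => ⟨R.indep a b h, (hPz (R.indep a b h)).2 h⟩, fun h => (hPz h.1).1 h.2⟩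
  have hblock : ∀ a b, a ≠ 0 → b ≠ 0 → b ∈ Fz.F a → Fz.F b = Fz.F a := by
    intro a b ha hb h
    rw [hF ha] at h
    rw [hF ha, hF hb, (hZ a ha).2.2 b h hb]
  obtain ⟨u, w, hc⟩ := exists_colour_one S
  have hvu : Indep2 v₀ u := (C.lift_indep hv₀ hc).1
  let W := Fz.sub v₀ u
  have hq : ∀ {a b : V} {h : V ≃ₗ[ZMod 2] V}, h v₀ = a → Indep2 a b →
      (Submodule.Quotient.mk (h.symm b) : Qv v₀) ≠ 0 := by
    intro a b h hha hab
    rw [Ne, mk_eq_zero, LinearEquiv.map_eq_zero_iff, LinearEquiv.symm_apply_eq, hha]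
    exact fun e => e.elim hab.2.1 hab.2.2.symm
  have hWr : Module.finrank (ZMod 2) W = S.d + 2 := by
    have hu0 := hq (h := (1 : V ≃ₗ[ZMod 2] V)) (a := v₀) rfl hvu
    have h3 : Module.finrank (ZMod 2) W = _ :=
      Fz.finrank_sub hH hn hv₀ H.one_mem (h := (1 : V ≃ₗ[ZMod 2] V)) rfl (u := u)
    rw [hF hu0, (hZ _ hu0).1] at h3
    exact h3
  have hsub : ∀ {a b : V}, a ∈ W → b ∈ W → Indep2 a b →
      (dFam S).sub a b ≤ W ∧ Module.finrank (ZMod 2) ((dFam S).sub a b) + 1 = Module.finrank (ZMod 2) W := by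
    intro a b ha hb hab
    have e : Fz.sub a b = W := Fz.sub_closed hH hn hv₀ R hR hs hblock hvu ha hb hab
    obtain ⟨h, hh, hha⟩ := exists_base hH hn hv₀ hab.1
    have hb0 := hq hha hab
    constructor
    · intro x hx
      rw [← e, Fz.mem_sub hH hn hv₀ hh hha, hF hb0, (hZ _ hb0).2.1]
      exact Or.inl (((dFam S).mem_sub hH hn hv₀ hh hha).1 hx)
    · rw [(dFam S).finrank_sub hH hn hv₀ hh hha, hWr, show (dFam S).F = S.D from rfl, S.finrank_D _ hb0]
  let f : V → V → V → ZMod 2 := fun a b c => if Indep3 a b c ∧ ¬ C.Lift a b c then 1 else 0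
  have hf : ∀ {a b : V}, Indep2 a b → ∀ c, f a b c = if c ∉ (dFam S).sub a b then 1 else 0 := by
    intro a b hab c
    refine if_congr ?_ rfl rfl
    rw [(dFam S).mem_sub_iff hH hn hv₀ C (colRel_iff S) hab, not_or]
    exact ⟨fun h => ⟨h.1.2, h.2⟩, fun h => ⟨⟨hab, h.1⟩, h.2⟩⟩
  have hswap : ∀ a b c, f a b c = f b a c := fun a b c =>
    if_congr ⟨fun h => ⟨h.1.rot.1, fun h' => h.2 (C.lift_move hv₀ hs h')⟩,
      fun h => ⟨h.1.rot.1, fun h' => h.2 (C.lift_move hv₀ hs h')⟩⟩ rfl rfl
  have hsym : ∀ a b c, f a b c = f a c b := fun a b c =>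
    if_congr ⟨fun h => ⟨h.1.rot.2, fun h' => h.2 (C.lift_symm h')⟩,
      fun h => ⟨h.1.rot.2, fun h' => h.2 (C.lift_symm h')⟩⟩ rfl rfl
  have hdiag : ∀ a b, f a b a = 0 := fun a b => if_neg fun h => (indep3_iff.1 h.1).2.2.2.2.1 rfl
  have hdep : ∀ {a b : V}, ¬ Indep2 a b → ∀ c, f a b c = 0 := fun h c => if_neg fun h' => h h'.1.1
  let L : W → W → (W →+ ZMod 2) := fun a b =>
    AddMonoidHom.mk' (fun c : W => f a b c) (fun c c' => by
      show f a b ((c : V) + c') = f a b c + f a b c'
      by_cases hab : Indep2 (a : V) b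
      · obtain ⟨hle, hr⟩ := hsub a.2 b.2 hab
        rw [hf hab, hf hab, hf hab]
        by_cases h1 : (c : V) ∈ (dFam S).sub a b <;> by_cases h2 : (c' : V) ∈ (dFam S).sub a b
        · simp [h1, h2, Submodule.add_mem _ h1 h2]
        · have : (c : V) + c' ∉ (dFam S).sub a b := fun h => h2 ((Submodule.add_mem_iff_right _ h1).1 h)
          simp [h1, h2, this]
        · have : (c : V) + c' ∉ (dFam S).sub a b := fun h => h1 ((Submodule.add_mem_iff_left _ h2).1 h)
          simp [h1, h2, this]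
        · have := add_mem_of_index_two hle hr c.2 h1 c'.2 h2
          simp [h1, h2, this]; decide
      · simp [hdep hab])
  let e := Module.finBasis (ZMod 2) W
  have hexp : ∀ (a b : W) (z : Fin (Module.finrank (ZMod 2) W) → ZMod 2),
      f a b ((∑ j, z j • e j : W) : V) = ∑ j, z j * f a b (e j : W) := by
    intro a b z
    show L a b (∑ j, z j • e j) = _
    rw [map_sum]
    refine Finset.sum_congr rfl fun j _ => ?_
    rcases zmod_two_cases (z j) with h | h <;> rw [h]
    · rw [zero_smul, map_zero, zero_mul]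
    · rw [one_smul, one_mul]; rfl
  refine no_alternating_trilinear (fun k i j => f (e k : W) (e i : W) (e j : W))
    (by rw [Fintype.card_fin, hWr]; omega) (fun k i j => hsym _ _ _)
    (fun k i j => by rw [hswap, hsym, hswap]) (fun k i => hdiag _ _) ?_
  intro v y hv hvy
  let a : W := ∑ k, v k • e k
  let b : W := ∑ j, y j • e j
  have hab : ∀ c : W, f a b c = 0 := by
    intro c
    have hz : ∀ i, f a (e i : W) b = 0 := by
      intro i
      rw [hexp a (e i) y, ← hvy i]
      refine Finset.sum_congr rfl fun j _ => ?_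
      have : f a (e i : W) (e j : W) = ∑ k, v k * f (e k : W) (e i : W) (e j : W) := by
        rw [hswap, hsym, hswap, hexp]
        refine Finset.sum_congr rfl fun k _ => ?_
        rw [hswap, hsym, hswap]
      rw [this, Finset.mul_sum]
      exact Finset.sum_congr rfl fun k _ => by ring
    rw [← e.sum_repr c, hexp]
    refine Finset.sum_eq_zero fun i _ => ?_
    rw [hsym, hz, mul_zero]
  have hinj : ∀ y' : Fin (Module.finrank (ZMod 2) W) → ZMod 2,
      ((∑ j, y j • e j : W) = ∑ j, y' j • e j) → y = y' := fun y' h =>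
    e.equivFun.symm.injective (by simpa [Module.Basis.equivFun_symm_apply] using h)
  by_contra hcon
  push Not at hcon
  have hb0 : (b : V) ≠ 0 := fun h => hcon.1 (hinj 0 (by simpa [b] using Subtype.ext h))
  have hne : (a : V) ≠ b := fun h => hcon.2 (hinj v (Subtype.ext h.symm))
  have ha0 : (a : V) ≠ 0 := fun h => hv (e.equivFun.symm.injective
    (by simpa [Module.Basis.equivFun_symm_apply, a] using Subtype.ext h))
  obtain ⟨hle, hr⟩ := hsub a.2 b.2 ⟨ha0, hb0, hne⟩
  have hW : W ≤ (dFam S).sub a b := fun x hx => by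
    by_contra hx'
    have := hab ⟨x, hx⟩
    rw [hf ⟨ha0, hb0, hne⟩, if_pos hx'] at this
    exact one_ne_zero this
  have := Submodule.finrank_mono hW
  omega

end Cfsg.Agent.Grp.Antiflag
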