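import Cfsg.Agent.Lib.Grp.Antiflag.Setup

/-! The exceptional case `d = 3` does not lift. -/

set_option autoImplicit false

namespace Cfsg.Agent.Grp.Antiflag

variable {V : Type*} [AddCommGroup V] [Module (ZMod 2) V] [Finite V]
  {H : Subgroup (V ≃ₗ[ZMod 2] V)} {v₀ : V}

theorem mem_of_mk_eq {v : V} {P : Submodule (ZMod 2) V} (hv : v ∈ P) {x y : V} (hy : y ∈ P)
    (h : (Submodule.Quotient.mk x : Qv v) = Submodule.Quotient.mk y) : x ∈ P := by
  rcases mk_eq_iff.1 h.symm with rfl | rfl
  exacts [hy, Submodule.add_mem _ hy hv]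

/-- A colour-one plane. -/
theorem exists_colour_one (S : DSys (qGroup H v₀)) :
    ∃ u w : V, (colRel S).Lift v₀ u w := by
  classical
  obtain ⟨a, ha⟩ : ∃ a : Qv v₀, a ≠ 0 := by
    by_contra h
    push Not at h
    haveI : Subsingleton (Qv v₀) := ⟨fun a b => (h a).trans (h b).symm⟩
    have := S.proper
    rw [Module.finrank_zero_of_subsingleton] at this
    omega
  obtain ⟨b, hb, hb'⟩ : ∃ b ∈ S.D a, b ∉ line a := by
    by_contra h
    push Not at h
    have := Submodule.finrank_mono (show S.D a ≤ line a from h)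
    rw [S.finrank_D a ha, finrank_span_singleton ha] at this
    have := S.two_le
    omega
  obtain ⟨u, rfl⟩ := Submodule.Quotient.mk_surjective _ a
  obtain ⟨w, rfl⟩ := Submodule.Quotient.mk_surjective _ b
  refine ⟨u, w, 1, H.one_mem, rfl, ⟨ha, fun e => hb' ?_, fun e => hb' ?_⟩, hb⟩
  · rw [show (Submodule.Quotient.mk w : Qv v₀) = 0 from e]; exact Submodule.zero_mem _
  · rw [show (Submodule.Quotient.mk w : Qv v₀) = Submodule.Quotient.mk u from e.symm]
    exact Submodule.mem_span_singleton_self _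

theorem kill_caseB (hH : TwoTrans H) (hn : 2 ≤ Module.finrank (ZMod 2) V) (hv₀ : v₀ ≠ 0) (hs : Swaps H)
    (S : DSys (qGroup H v₀)) (hB : S.CaseB) : False := by
  classical
  let C := colRel S
  let T := twoRel S
  let DD := (dFam S).sub
  obtain ⟨hd, hB⟩ := hB
  obtain ⟨u, w, hc⟩ := exists_colour_one S
  obtain ⟨hvu, -⟩ := C.lift_indep hv₀ hc
  have huw : Indep2 u w := by
    obtain ⟨⟨-, a, -⟩, -⟩ := (C.lift_indep hv₀ hc)
    have := indep3_iff.1 (C.lift_indep hv₀ hc)
    exact ⟨a, this.2.2.1, this.2.2.2.2.2.1.symm⟩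
  obtain ⟨x, hx, hxP⟩ : ∃ x ∈ DD u w, x ∉ plane v₀ u w := by
    by_contra h
    push Not at h
    have h1 := Submodule.finrank_mono (show DD u w ≤ plane v₀ u w from h)
    have h2 : Module.finrank (ZMod 2) (plane v₀ u w) ≤ 3 := by
      have := finrank_span_finset_le_card (R := ZMod 2) ({v₀, u, w} : Finset V)
      rw [Set.finrank] at this
      rw [Finset.coe_insert, Finset.coe_insert, Finset.coe_singleton] at this
      exact this.trans Finset.card_le_three
    obtain ⟨h, hh, hhv⟩ := exists_base hH hn hv₀ huw.1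
    have hne : (Submodule.Quotient.mk (h.symm w) : Qv v₀) ≠ 0 := by
      rw [Ne, mk_eq_zero, LinearEquiv.map_eq_zero_iff, LinearEquiv.symm_apply_eq, hhv]
      exact fun e => e.elim huw.2.1 huw.2.2.symm
    have h3 : Module.finrank (ZMod 2) (DD u w) = _ := (dFam S).finrank_sub hH hn hv₀ hh hhv (u := w)
    rw [show (dFam S).F = S.D from rfl, S.finrank_D _ hne, hd] at h3
    omega
  have key : ∀ p q, C.Lift v₀ p q → x ∈ DD p q → x ∉ plane v₀ p q → T.Lift v₀ p x := by
    intro p q h1 h2 h3
    have h1p := C.lift_move hv₀ hs h1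
    have i3 := C.lift_indep hv₀ h1p
    have hpq : Indep2 p q := by
      obtain ⟨a, b, c, d, e, f, g⟩ := indep3_iff.1 i3
      exact ⟨a, c, e.symm⟩
    have hxc : C.Lift p q x := by
      rcases ((dFam S).mem_sub_iff hH hn hv₀ C (colRel_iff S) hpq).1 h2 with h | h
      · refine absurd (Submodule.span_mono ?_ h) h3
        intro y hy; exact Or.inr hy
      · exact h
    refine T.lift_move hv₀ hs ?_
    obtain ⟨h, hh, hhp⟩ := exists_base hH hn hv₀ hpq.1
    rw [T.lift_iff hh hhp]
    obtain ⟨hac, hc1⟩ := (C.lift_iff hh hhp).1 h1p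
    obtain ⟨hce, hc2⟩ := (C.lift_iff hh hhp).1 hxc
    refine ⟨hac.1, fun he => ?_, _, hac.2.1, hc1, S.symm _ _ hce.1 hce.2.1 hc2⟩
    have mp : p ∈ plane v₀ p q := Submodule.subset_span (by simp)
    have mv : v₀ ∈ plane v₀ p q := Submodule.subset_span (by simp)
    have mq : q ∈ plane v₀ p q := Submodule.subset_span (by simp)
    have hsp := (hB _ _ hac hc1).1 _ he hc2
    have back : ∀ y, (Submodule.Quotient.mk (h.symm x) : Qv v₀) = Submodule.Quotient.mk (h.symm y) →
        x = y ∨ x = y + p := by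
      intro y e
      rcases mk_eq_iff.1 e.symm with e' | e'
      · exact Or.inl (h.symm.injective e')
      · refine Or.inr (h.symm.injective ?_)
        rw [e', map_add, (LinearEquiv.symm_apply_eq h).2 hhp.symm]
    rcases mem_span_two.1 hsp with e | e | e | e
    · exact hce.2.1 e
    · rcases back v₀ e with e | e <;> rw [e] at h3
      exacts [h3 mv, h3 (Submodule.add_mem _ mv mp)]
    · exact hce.2.2 e.symm
    · rw [← Submodule.Quotient.mk_add, ← map_add] at e
      rcases back _ e with e | e <;> rw [e] at h3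
      exacts [h3 (Submodule.add_mem _ mv mq), h3 (Submodule.add_mem _ (Submodule.add_mem _ mv mq) mp)]
  have hP1 : plane v₀ w u = plane v₀ u w := by rw [plane, plane, Set.pair_comm]
  have hP2 : plane v₀ (u + w) w = plane v₀ u w := by
    refine plane_perm (Submodule.subset_span (by simp)) (Submodule.add_mem _ (Submodule.subset_span (by simp))
      (Submodule.subset_span (by simp))) (Submodule.subset_span (by simp)) (Submodule.subset_span (by simp))
      ?_ (Submodule.subset_span (by simp))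
    have := Submodule.add_mem (plane v₀ (u + w) w) (Submodule.subset_span (show u + w ∈ _ by simp))
      (Submodule.subset_span (show w ∈ _ by simp) : w ∈ plane v₀ (u + w) w)
    rwa [add_assoc, add_self', add_zero] at this
  have hx1 : x ∈ DD w u := by
    show x ∈ (dFam S).sub w u
    rw [← (dFam S).sub_comm hH hn hv₀ C (colRel_iff S) hs huw]; exact hx
  have huw' : Indep2 w (u + w) := ⟨huw.2.1, fun e => huw.2.2 (by rw [eq_add_of_add' e, zero_add]),
    fun e => huw.1 (by simpa using e)⟩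
  have hx2 : x ∈ DD (u + w) w := by
    show x ∈ (dFam S).sub (u + w) w
    rw [← (dFam S).sub_comm hH hn hv₀ C (colRel_iff S) hs huw']
    obtain ⟨h, hh, hhw⟩ := exists_base hH hn hv₀ huw.2.1
    rw [(dFam S).mem_sub hH hn hv₀ hh hhw, mk_symm_congr hhw (Or.inr rfl)]
    exact ((dFam S).mem_sub hH hn hv₀ hh hhw).1 hx1
  have k1 := key u w hc hx hxP
  have k2 := key w u (C.lift_symm hc) hx1 (hP1 ▸ hxP)
  have k3 := key (u + w) w (C.lift_shift hc).2.2.2 hx2 (hP2 ▸ hxP)
  obtain ⟨-, t1⟩ := (T.lift_iff H.one_mem rfl).1 k1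
  obtain ⟨-, t2⟩ := (T.lift_iff H.one_mem rfl).1 k2
  obtain ⟨-, t3⟩ := (T.lift_iff H.one_mem rfl).1 k3
  obtain ⟨hac, hc1⟩ := (C.lift_iff H.one_mem rfl).1 hc
  have := (hB _ _ hac hc1).2 _ t1 t2
  exact t3.1 this

end Cfsg.Agent.Grp.Antiflag
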