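import Cfsg.Agent.Lib.Grp.Antiflag.KillB

/-! The spread case does not lift. -/

set_option autoImplicit false

namespace Cfsg.Agent.Grp.Antiflag

theorem arith_two_blocks {d X : ℕ} (hd : 2 ≤ d)
    (h : X * ((2 ^ (d + 1) - 1) * (2 ^ (d + 1) - 2)) = (2 ^ (2 * d + 1) - 1) * (2 ^ (2 * d + 1) - 2)) :
    False := by
  have hA : (4 : ℕ) ≤ 2 ^ d := le_trans (by norm_num) (Nat.pow_le_pow_right (by norm_num) hd)
  have e1 : (2 : ℕ) ^ (d + 1) = 2 * 2 ^ d := by rw [pow_succ, mul_comm]
  have e2 : (2 : ℕ) ^ (2 * d + 1) = 2 * (2 ^ d * 2 ^ d) := by rw [← pow_add, two_mul, pow_succ, mul_comm]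
  rw [e1, e2] at h
  generalize 2 ^ d = a at hA h
  have h1 : 1 ≤ 2 * a := by omega
  have h2 : 2 ≤ 2 * a := by omega
  have haa : 16 ≤ a * a := by nlinarith
  have h3 : 1 ≤ 2 * (a * a) := by omega
  have h4 : 2 ≤ 2 * (a * a) := by omega
  zify [h1, h2, h3, h4] at h
  have hne : (2 : ℤ) * ((a : ℤ) - 1) ≠ 0 := by omega
  have hdiv : (2 * (a : ℤ) - 1) * X = (2 * ((a : ℤ) * a) - 1) * (a + 1) :=
    mul_left_cancel₀ hne (by linear_combination h)
  have h5 : (2 * (a : ℤ) - 1) ∣ 3 :=
    ⟨4 * (a : ℤ) ^ 2 + 6 * a + 1 - 4 * X, by linear_combination (4 : ℤ) * hdiv⟩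
  have := Int.le_of_dvd (by norm_num) h5
  omega

theorem ring_contradiction {R : Type*} [Ring R] (h2 : ∀ a : R, a + a = 0) {A B C : R}
    (hA : A * A = A + 1) (hB : B * B = B + 1) (hC : C * C = C + 1)
    (hS : A + B + C = 0 ∨ A + B + C = 1) : (1 : R) = 0 := by
  have neg : ∀ {a b : R}, a + b = 0 → b = a := fun {a b} h => by
    have : a + b = a + a := h.trans (h2 a).symm
    exact add_left_cancel this
  have hE : (A + B) * (A + B) = A + B + 1 := by
    rcases hS with h | h
    · rw [← neg h]; exact hC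
    · have : C = A + B + 1 := by
        refine neg ?_
        rw [show A + B + 1 + C = (A + B + C) + 1 by abel, h]; exact h2 1
      rw [this] at hC
      have e : (A + B + 1) * (A + B + 1) = (A + B) * (A + B) + 1 := by
        rw [add_mul, mul_add, mul_one, one_mul]
        rw [show (A + B) * (A + B) + (A + B) + (A + B + 1) = (A + B) * (A + B) + ((A + B) + (A + B)) + 1 by abel,
          h2, add_zero]
      rw [e, add_assoc _ (1 : R) 1, h2, add_zero] at hC
      calc (A + B) * (A + B) = (A + B) * (A + B) + (1 + 1) := by rw [h2, add_zero]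
        _ = ((A + B) * (A + B) + 1) + 1 := by rw [add_assoc]
        _ = A + B + 1 := by rw [hC]
  have hAB : A * B + B * A = 1 := by
    have : A * A + A * B + (B * A + B * B) = A + B + 1 := by
      rw [← mul_add, ← mul_add, ← add_mul]; exact hE
    rw [hA, hB] at this
    have h' : (A * B + B * A) + 1 = 0 := by
      have h'' : (A + B + 1) + ((A * B + B * A) + 1) = (A + B + 1) + 0 := by
        rw [add_zero]; calc (A + B + 1) + ((A * B + B * A) + 1)
            = A + 1 + A * B + (B * A + (B + 1)) := by abel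
          _ = A + B + 1 := this
      exact add_left_cancel h''
    exact (neg h').symm
  generalize hEd : A + B = E at hE
  have hAE : A * E + E * A = 1 := by
    rw [← hEd, mul_add, add_mul,
      show A * A + A * B + (A * A + B * A) = (A * A + A * A) + (A * B + B * A) by abel, h2, zero_add, hAB]
  have hAE' : A * E = E * A + 1 :=
    calc A * E = A * E + (E * A + E * A) := by rw [h2, add_zero]
      _ = (A * E + E * A) + E * A := by rw [add_assoc]
      _ = E * A + 1 := by rw [hAE, add_comm]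
  have h1 : A * A * E = E * (A * A) := by
    rw [mul_assoc, hAE', mul_add, ← mul_assoc, hAE', mul_one, add_mul, one_mul, add_assoc, h2, add_zero,
      mul_assoc]
  rw [hA, add_mul, mul_add, one_mul, mul_one] at h1
  have hc : A * E = E * A := add_right_cancel h1
  rw [hc, h2] at hAE
  exact hAE.symm

theorem card_indep_pairs {W : Type*} [AddCommGroup W] [Module (ZMod 2) W] [Fintype W] [DecidableEq W]
    (K : Submodule (ZMod 2) W) [DecidablePred (· ∈ K)] :
    (((Finset.univ.filter (· ∈ K)).erase 0).offDiag).card =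
      (2 ^ Module.finrank (ZMod 2) K - 1) * (2 ^ Module.finrank (ZMod 2) K - 2) := by
  rw [Finset.offDiag_card, Finset.card_erase_of_mem (by simp), ← Fintype.card_subtype,
    ← Nat.card_eq_fintype_card, Module.natCard_eq_pow_finrank (K := ZMod 2), Nat.card_zmod,
    Nat.mul_sub_left_distrib (2 ^ Module.finrank (ZMod 2) K - 1)]
  generalize 2 ^ Module.finrank (ZMod 2) K = q
  rcases q with - | - | q <;> simp
  have : q + 1 + 1 - 2 = q := by omega
  ring_nf
  omega

variable {V : Type*} [AddCommGroup V] [Module (ZMod 2) V] [Finite V]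
  {H : Subgroup (V ≃ₗ[ZMod 2] V)} {v₀ : V}

theorem kill_caseC (hH : TwoTrans H) (hn : 2 ≤ Module.finrank (ZMod 2) V) (hv₀ : v₀ ≠ 0) (hs : Swaps H)
    (S : DSys (qGroup H v₀)) (hC : S.CaseC)
    (hdim : Module.finrank (ZMod 2) (Qv v₀) = 2 * S.d ∨ (S.d = 2 ∧ ∃ ω : Qv v₀ →ₗ[ZMod 2] Qv v₀,
      ∀ u, ω (ω u) = ω u + u ∧ ω u ∈ S.D u)) : False := by
  classical
  let C := colRel S
  let DD := (dFam S).sub
  have hblock : ∀ a b, a ≠ 0 → b ≠ 0 → b ∈ (dFam S).F a → (dFam S).F b = (dFam S).F a := fun a b => hC a b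
  have hclosed : ∀ {v u a b : V}, Indep2 v u → a ∈ DD v u → b ∈ DD v u → Indep2 a b → DD a b = DD v u :=
    fun h1 h2 h3 h4 => (dFam S).sub_closed hH hn hv₀ C (colRel_iff S) hs hblock h1 h2 h3 h4
  have hrank : ∀ {v u : V}, Indep2 v u → Module.finrank (ZMod 2) (DD v u) = S.d + 1 := by
    intro v u hvu
    obtain ⟨h, hh, hhv⟩ := exists_base hH hn hv₀ hvu.1
    have hne : (Submodule.Quotient.mk (h.symm u) : Qv v₀) ≠ 0 := by
      rw [Ne, mk_eq_zero, LinearEquiv.map_eq_zero_iff, LinearEquiv.symm_apply_eq, hhv]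
      exact fun e => e.elim hvu.2.1 hvu.2.2.symm
    have h3 : Module.finrank (ZMod 2) (DD v u) = _ := (dFam S).finrank_sub hH hn hv₀ hh hhv (u := u)
    rw [show (dFam S).F = S.D from rfl, S.finrank_D _ hne] at h3
    exact h3
  have hnV := finrank_qv hv₀
  rcases hdim with hm | ⟨hd2, ω, hω⟩
  · cases nonempty_fintype V
    let P : Finset (V × V) := ((Finset.univ : Finset V).erase 0).offDiag
    have hP : ∀ p : V × V, p ∈ P ↔ Indep2 p.1 p.2 := fun p => by simp [P, Indep2]
    have hcard := Finset.card_eq_sum_card_image (fun p : V × V => DD p.1 p.2) P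
    rw [Finset.sum_eq_card_nsmul (b := (2 ^ (S.d + 1) - 1) * (2 ^ (S.d + 1) - 2))] at hcard
    · refine arith_two_blocks S.two_le (X := (P.image fun p : V × V => DD p.1 p.2).card) ?_
      rw [smul_eq_mul] at hcard
      rw [← hcard]
      have := card_indep_pairs (⊤ : Submodule (ZMod 2) V)
      simp only [Submodule.mem_top, Finset.filter_true, finrank_top] at this
      rw [show P.card = _ from this, show Module.finrank (ZMod 2) V = 2 * S.d + 1 by omega]
    intro K hK
    obtain ⟨p, hp, rfl⟩ := Finset.mem_image.1 hK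
    rw [hP] at hp
    rw [← hrank hp, ← card_indep_pairs (DD p.1 p.2)]
    congr 1
    ext ⟨a, b⟩
    simp only [Finset.mem_filter, hP, Finset.mem_offDiag, Finset.mem_erase, Finset.mem_univ, true_and]
    constructor
    · rintro ⟨hab, e⟩
      exact ⟨⟨hab.1, e ▸ ((dFam S).base_mem hH hn hv₀ hab.1).1⟩,
        ⟨hab.2.1, e ▸ ((dFam S).base_mem hH hn hv₀ hab.1).2⟩, hab.2.2⟩
    · rintro ⟨⟨ha0, ha⟩, ⟨hb0, hb⟩, hne⟩
      exact ⟨⟨ha0, hb0, hne⟩, hclosed hp ha hb ⟨ha0, hb0, hne⟩⟩
  -- d = 2
  obtain ⟨p₁, p₂, hc⟩ := exists_colour_one S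
  have hp : Indep2 v₀ p₁ := (C.lift_indep hv₀ hc).1
  set π : Submodule (ZMod 2) V := DD v₀ p₁ with hπ
  have hω0 : ∀ {e : Qv v₀}, e ≠ 0 → ω e ≠ 0 ∧ ω e ≠ e := by
    intro e he
    constructor
    · intro h; have := (hω e).1; rw [h, map_zero, zero_add] at this; exact he this.symm
    · intro h; have := (hω e).1; rw [h, h, add_self'] at this; exact he this
  have htwo : ∀ {e z : Qv v₀}, e ≠ 0 → z ∈ S.D e → z ≠ 0 → z ≠ e → z = ω e ∨ z = ω e + e := by
    intro e z he hz hz0 hze
    have hle : Submodule.span (ZMod 2) ({ω e} : Set (Qv v₀)) ⊔ Submodule.span (ZMod 2) {e} ≤ S.D e :=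
      sup_le (Submodule.span_le.2 (Set.singleton_subset_iff.2 (hω e).2))
        (Submodule.span_le.2 (Set.singleton_subset_iff.2 (S.mem_self e)))
    have hlt : Submodule.span (ZMod 2) {e} <
        Submodule.span (ZMod 2) ({ω e} : Set (Qv v₀)) ⊔ Submodule.span (ZMod 2) {e} := by
      refine lt_of_le_of_ne le_sup_right fun h => ?_
      have : ω e ∈ Submodule.span (ZMod 2) {e} := h ▸ Submodule.mem_sup_left (Submodule.mem_span_singleton_self _)
      exact (mem_line.1 this).elim (hω0 he).1 (hω0 he).2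
    have h1 := Submodule.finrank_lt_finrank_of_lt hlt
    rw [finrank_span_singleton he] at h1
    have heq := Submodule.eq_of_le_of_finrank_le hle (by rw [S.finrank_D e he, hd2]; omega)
    rw [← heq] at hz
    obtain ⟨y, hy, y', hy', rfl⟩ := Submodule.mem_sup.1 hz
    rcases mem_line.1 hy with rfl | rfl <;> rcases mem_line.1 hy' with rfl | rfl <;> simp_all
  -- the operators on `V ⧸ π`
  have hop : ∀ a ∈ π, a ≠ 0 → ∃ (A : (V ⧸ π) →ₗ[ZMod 2] V ⧸ π) (h : V ≃ₗ[ZMod 2] V),
      (h ∈ H ∧ h v₀ = a) ∧ (∀ w, A (A w) = A w + w) ∧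
      ∀ x y, (Submodule.Quotient.mk y : Qv v₀) = ω (Submodule.Quotient.mk (h.symm x)) →
        A (Submodule.Quotient.mk x) = Submodule.Quotient.mk (h y) := by
    intro a ha ha0
    obtain ⟨h, hh, hha⟩ := exists_base hH hn hv₀ ha0
    obtain ⟨b, hb0, hbπ, hba⟩ : ∃ b, b ≠ 0 ∧ b ∈ π ∧ b ≠ a := by
      by_cases e : a = v₀
      · exact ⟨p₁, hp.2.1, ((dFam S).base_mem hH hn hv₀ hp.1).2, fun e' => hp.2.2 (by rw [← e, e'])⟩
      · exact ⟨v₀, hv₀, ((dFam S).base_mem hH hn hv₀ hp.1).1, fun e' => e e'.symm⟩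
    have hab : Indep2 a b := ⟨ha0, hb0, hba.symm⟩
    have hπab : DD a b = π := hclosed hp ha hbπ hab
    have hmem : ∀ x, x ∈ π ↔ (Submodule.Quotient.mk (h.symm x) : Qv v₀) ∈ S.D (Submodule.Quotient.mk (h.symm b)) :=
      fun x => by rw [← hπab]; exact (dFam S).mem_sub hH hn hv₀ hh hha
    let ψ : Qv v₀ →ₗ[ZMod 2] V ⧸ π := (line v₀).liftQ (π.mkQ.comp (h : V →ₗ[ZMod 2] V)) (fun z hz => by
      rw [LinearMap.mem_ker]
      rcases mem_line.1 hz with rfl | rfl
      · exact map_zero _
      · show (Submodule.Quotient.mk (h z) : V ⧸ π) = 0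
        rw [Submodule.Quotient.mk_eq_zero, hha]; exact ha)
    have hψ : ∀ y, ψ (Submodule.Quotient.mk y) = Submodule.Quotient.mk (h y) := fun y => rfl
    let A' : V →ₗ[ZMod 2] V ⧸ π := ψ.comp (ω.comp ((line v₀).mkQ.comp (h.symm : V →ₗ[ZMod 2] V)))
    have hA' : π ≤ LinearMap.ker A' := fun x hx => by
      rw [LinearMap.mem_ker]
      show ψ (ω (Submodule.Quotient.mk (h.symm x))) = 0
      obtain ⟨y, hy⟩ := Submodule.Quotient.mk_surjective _ (ω (Submodule.Quotient.mk (h.symm x)))
      rw [← hy, hψ, Submodule.Quotient.mk_eq_zero, hmem, LinearEquiv.symm_apply_apply, hy]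
      by_cases he : (Submodule.Quotient.mk (h.symm x) : Qv v₀) = 0
      · rw [he, map_zero]; exact Submodule.zero_mem _
      · have hbne : (Submodule.Quotient.mk (h.symm b) : Qv v₀) ≠ 0 := by
          rw [Ne, mk_eq_zero, LinearEquiv.map_eq_zero_iff, LinearEquiv.symm_apply_eq, hha]
          exact fun e => e.elim hb0 hba
        rw [← hC _ _ hbne he ((hmem x).1 hx)]
        exact (hω _).2
    refine ⟨π.liftQ A' hA', h, ⟨hh, hha⟩, fun w => ?_, fun x y hy => ?_⟩
    · obtain ⟨x, rfl⟩ := Submodule.Quotient.mk_surjective _ w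
      obtain ⟨y, hy⟩ := Submodule.Quotient.mk_surjective _ (ω (Submodule.Quotient.mk (h.symm x)))
      have h1 : π.liftQ A' hA' (Submodule.Quotient.mk x) = Submodule.Quotient.mk (h y) := by
        show ψ (ω (Submodule.Quotient.mk (h.symm x))) = _; rw [← hy, hψ]
      rw [h1]
      show ψ (ω (Submodule.Quotient.mk (h.symm (h y)))) = _
      rw [LinearEquiv.symm_apply_apply, hy, (hω _).1, map_add, hψ, LinearEquiv.apply_symm_apply, ← hy, hψ]
    · show ψ (ω (Submodule.Quotient.mk (h.symm x))) = _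
      rw [← hy, hψ]
  have hπv : v₀ ∈ π ∧ p₁ ∈ π := (dFam S).base_mem hH hn hv₀ hp.1
  have hab0 : v₀ + p₁ ≠ 0 := fun e => hp.2.2 (by rw [eq_add_of_add' e, zero_add])
  obtain ⟨A, hA, hA0, hA2, hA3⟩ := hop v₀ hπv.1 hp.1
  obtain ⟨B, hB, hB0, hB2, hB3⟩ := hop p₁ hπv.2 hp.2.1
  obtain ⟨Co, hCo, hC0, hC2, hC3⟩ := hop (v₀ + p₁) (Submodule.add_mem _ hπv.1 hπv.2) hab0
  have hS : ∀ w, A w + B w + Co w = 0 ∨ A w + B w + Co w = w := by
    intro w
    obtain ⟨x, rfl⟩ := Submodule.Quotient.mk_surjective _ w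
    by_cases hxπ : x ∈ π
    · left
      rw [(Submodule.Quotient.mk_eq_zero π).2 hxπ, map_zero, map_zero, map_zero, add_zero, add_zero]
    have hx0 : x ≠ 0 := fun e => hxπ (e ▸ Submodule.zero_mem _)
    obtain ⟨k, hk, hkx⟩ := exists_base hH hn hv₀ hx0
    let R := π ⊔ Submodule.span (ZMod 2) {x}
    let ψx : Qv v₀ →ₗ[ZMod 2] V ⧸ R := (line v₀).liftQ (R.mkQ.comp (k : V →ₗ[ZMod 2] V)) (fun z hz => by
      rw [LinearMap.mem_ker]
      rcases mem_line.1 hz with rfl | rfl
      · exact map_zero _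
      · show (Submodule.Quotient.mk (k z) : V ⧸ R) = 0
        rw [Submodule.Quotient.mk_eq_zero, hkx]; exact Submodule.mem_sup_right (Submodule.mem_span_singleton_self _))
    let L : V →ₗ[ZMod 2] V ⧸ R := ψx.comp (ω.comp ((line v₀).mkQ.comp (k.symm : V →ₗ[ZMod 2] V)))
    let fac : (V ⧸ π) →ₗ[ZMod 2] V ⧸ R := Submodule.factor le_sup_left
    have key : ∀ {a : V} {A₁ : (V ⧸ π) →ₗ[ZMod 2] V ⧸ π} {h : V ≃ₗ[ZMod 2] V}, a ∈ π → a ≠ 0 →
        (h ∈ H ∧ h v₀ = a) → (∀ x y, (Submodule.Quotient.mk y : Qv v₀) = ω (Submodule.Quotient.mk (h.symm x)) →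
        A₁ (Submodule.Quotient.mk x) = Submodule.Quotient.mk (h y)) →
        fac (A₁ (Submodule.Quotient.mk x)) = L a := by
      rintro a A₁ h ha ha0 ⟨hh, hha⟩ h3
      have hax : Indep2 a x := ⟨ha0, hx0, fun e => hxπ (e ▸ ha)⟩
      obtain ⟨y, hy⟩ := Submodule.Quotient.mk_surjective _ (ω (Submodule.Quotient.mk (h.symm x)))
      rw [h3 x y hy]
      show (Submodule.Quotient.mk (h y) : V ⧸ R) = ψx (ω (Submodule.Quotient.mk (k.symm a)))
      have ka : k.symm x = v₀ := (LinearEquiv.symm_apply_eq k).2 hkx.symm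
      have ha' : h.symm a = v₀ := (LinearEquiv.symm_apply_eq h).2 hha.symm
      have hqx : (Submodule.Quotient.mk (h.symm x) : Qv v₀) ≠ 0 := by
        rw [Ne, mk_eq_zero, LinearEquiv.map_eq_zero_iff, LinearEquiv.symm_apply_eq, hha]
        exact fun e => e.elim hx0 hax.2.2.symm
      have hym : h y ∈ DD a x := by
        show h y ∈ (dFam S).sub a x
        rw [(dFam S).mem_sub hH hn hv₀ hh hha, LinearEquiv.symm_apply_apply, hy]
        exact (hω _).2
      have hym' : h y ∈ (dFam S).sub x a := by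
        rw [← (dFam S).sub_comm hH hn hv₀ C (colRel_iff S) hs hax]; exact hym
      rw [(dFam S).mem_sub hH hn hv₀ hk hkx] at hym'
      have he : (Submodule.Quotient.mk (k.symm a) : Qv v₀) ≠ 0 := by
        rw [Ne, mk_eq_zero, LinearEquiv.map_eq_zero_iff, LinearEquiv.symm_apply_eq, hkx]
        exact fun e => e.elim ha0 hax.2.2
      have hspan : h y ∉ Submodule.span (ZMod 2) ({a, x} : Set V) := by
        intro hmem
        obtain ⟨n1, n2⟩ := hω0 hqx
        rw [← hy] at n1 n2
        rcases mem_span_two.1 hmem with e | e | e | e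
        · exact n1 (mk_eq_zero.2 (Or.inl (h.injective (by rw [e, map_zero]))))
        · exact n1 (mk_eq_zero.2 (Or.inr (h.injective (by rw [e, hha]))))
        · exact n2 (mk_eq_iff.2 (Or.inl (h.injective (by rw [h.apply_symm_apply, e]))))
        · exact n2 (mk_eq_iff.2 (Or.inr (h.injective (by
            rw [h.apply_symm_apply, map_add, e, hha, add_comm a, add_assoc, add_self', add_zero]))))
      obtain ⟨z, hz⟩ := Submodule.Quotient.mk_surjective _ (ω (Submodule.Quotient.mk (k.symm a)))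
      have hψx : ψx (Submodule.Quotient.mk z) = Submodule.Quotient.mk (k z) := rfl
      rw [← hz, hψx, Submodule.Quotient.eq]
      have hxR : x ∈ R := Submodule.mem_sup_right (Submodule.mem_span_singleton_self _)
      have haR : a ∈ R := Submodule.mem_sup_left ha
      have back : ∀ c, (Submodule.Quotient.mk (k.symm (h y)) : Qv v₀) = Submodule.Quotient.mk c →
          h y = k c ∨ h y = k c + x := by
        intro c e
        rcases mk_eq_iff.1 e.symm with e' | e'
        · exact Or.inl ((LinearEquiv.symm_apply_eq k).1 e')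
        · refine Or.inr ?_
          rw [(LinearEquiv.symm_apply_eq k).1 e', map_add, hkx]
      have hn0 : (Submodule.Quotient.mk (k.symm (h y)) : Qv v₀) ≠ 0 := fun e => hspan (mem_span_two.2 (by
        rcases back 0 (e.trans (by simp)) with e | e <;> simp [e]))
      have hna : (Submodule.Quotient.mk (k.symm (h y)) : Qv v₀) ≠ Submodule.Quotient.mk (k.symm a) :=
        fun e => hspan (mem_span_two.2 (by
          rcases back _ e with e | e <;> rw [LinearEquiv.apply_symm_apply] at e <;> simp [e]))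
      rcases htwo he hym' hn0 hna with e | e
      · rw [← hz] at e
        rcases back _ e with e | e <;> rw [e]
        · simp
        · simpa using hxR
      · rw [← hz, ← Submodule.Quotient.mk_add] at e
        rcases back _ e with e | e <;> rw [e, map_add, LinearEquiv.apply_symm_apply]
        · simpa using haR
        · have := Submodule.add_mem _ haR hxR
          simpa [add_assoc] using this
    have hsum : fac (A (Submodule.Quotient.mk x) + B (Submodule.Quotient.mk x) + Co (Submodule.Quotient.mk x)) = 0 := by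
      rw [map_add, map_add, key hπv.1 hp.1 hA0 hA3, key hπv.2 hp.2.1 hB0 hB3,
        key (Submodule.add_mem _ hπv.1 hπv.2) hab0 hC0 hC3, map_add, add_self']
    obtain ⟨z, hz⟩ := Submodule.Quotient.mk_surjective _
      (A (Submodule.Quotient.mk x) + B (Submodule.Quotient.mk x) + Co (Submodule.Quotient.mk x))
    rw [← hz] at hsum ⊢
    have hzR : z ∈ R := (Submodule.Quotient.mk_eq_zero R).1 hsum
    obtain ⟨q, hq, r, hr, rfl⟩ := Submodule.mem_sup.1 hzR
    rw [Submodule.Quotient.mk_add, (Submodule.Quotient.mk_eq_zero π).2 hq, zero_add]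
    rcases mem_line.1 hr with rfl | rfl
    · exact Or.inl rfl
    · exact Or.inr rfl
  have hscalar : A + B + Co = 0 ∨ A + B + Co = 1 := by
    by_cases h0 : ∀ w, A w + B w + Co w = 0
    · exact Or.inl (LinearMap.ext h0)
    right
    push Not at h0
    obtain ⟨s, hs'⟩ := h0
    refine LinearMap.ext fun t => (hS t).elim (fun ht => ?_) id
    have hst := hS (s + t)
    have hs'' := (hS s).resolve_left hs'
    have : A (s + t) + B (s + t) + Co (s + t) = s := by
      calc A (s + t) + B (s + t) + Co (s + t) = (A s + B s + Co s) + (A t + B t + Co t) := by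
            rw [map_add, map_add, map_add]; abel
        _ = s := by rw [hs'', ht, add_zero]
    rw [this] at hst
    rcases hst with h | h
    · exact absurd (hs''.trans h) hs'
    · have t0 : t = 0 := add_left_cancel (a := s) (by rw [← h, add_zero])
      rw [t0]; simp
  have h2 : ∀ f : Module.End (ZMod 2) (V ⧸ π), f + f = 0 := fun f => LinearMap.ext fun w => add_self' (f w)
  have h1 : (1 : Module.End (ZMod 2) (V ⧸ π)) = 0 := ring_contradiction h2
    (LinearMap.ext hA2) (LinearMap.ext hB2) (LinearMap.ext hC2) hscalar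
  have htop : π = ⊤ := by
    refine Submodule.eq_top_iff'.2 fun x => (Submodule.Quotient.mk_eq_zero π).1 ?_
    exact LinearMap.congr_fun h1 (Submodule.Quotient.mk x)
  have hr : Module.finrank (ZMod 2) π = S.d + 1 := hrank hp
  rw [htop, finrank_top] at hr
  have := S.proper
  omega

end Cfsg.Agent.Grp.Antiflag
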