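import Cfsg.Agent.Lib.Grp.Antiflag.Quot

/-! Transport between the quotients at different base points: a relation on lines of `V ⧸ ⟨v₀⟩`
invariant under the induced group gives a relation on planes of `V`, independent of the point of
the plane used. -/

set_option autoImplicit false

namespace Cfsg.Agent.Grp.Antiflag

variable {V : Type*} [AddCommGroup V] [Module (ZMod 2) V]

/-- The base change assumption: every two points of a quotient can be exchanged. -/
def Swaps (H : Subgroup (V ≃ₗ[ZMod 2] V)) : Prop :=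
  ∀ p : V, p ≠ 0 → ∀ q q' : Qv p, Indep2 q q' → ∃ g ∈ qGroup H p, g q = q' ∧ g q' = q

/-- `v, u, x` are linearly independent. -/
def Indep3 (v u x : V) : Prop :=
  Indep2 v u ∧ x ∉ Submodule.span (ZMod 2) ({v, u} : Set V)

theorem mem_span_two {a b x : V} :
    x ∈ Submodule.span (ZMod 2) ({a, b} : Set V) ↔ x = 0 ∨ x = a ∨ x = b ∨ x = a + b := by
  rw [Submodule.mem_span_pair]
  constructor
  · rintro ⟨c, d, rfl⟩
    rcases zmod_two_cases c with rfl | rfl <;> rcases zmod_two_cases d with rfl | rfl <;> simp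
  · rintro (rfl | rfl | rfl | rfl)
    exacts [⟨0, 0, by simp⟩, ⟨1, 0, by simp⟩, ⟨0, 1, by simp⟩, ⟨1, 1, by simp⟩]

theorem indep3_iff {v u x : V} :
    Indep3 v u x ↔ v ≠ 0 ∧ u ≠ 0 ∧ x ≠ 0 ∧ v ≠ u ∧ x ≠ v ∧ x ≠ u ∧ x ≠ v + u := by
  unfold Indep3 Indep2
  rw [mem_span_two]
  tauto

theorem indep2_mk {v u x : V} :
    Indep2 (Submodule.Quotient.mk u : Qv v) (Submodule.Quotient.mk x) ∧ v ≠ 0 ↔ Indep3 v u x := by
  rw [indep3_iff]
  unfold Indep2
  simp only [Ne, mk_eq_zero, mk_eq_iff, not_or]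
  constructor
  · rintro ⟨⟨⟨a, b⟩, ⟨c, d⟩, e, f⟩, g⟩
    exact ⟨g, a, c, Ne.symm b, d, e, fun h => f (by rw [h, add_comm])⟩
  · rintro ⟨g, a, c, b, d, e, f⟩
    exact ⟨⟨⟨a, Ne.symm b⟩, ⟨c, d⟩, e, fun h => f (by rw [h, add_comm])⟩, g⟩

theorem Indep3.rot {v u x : V} (h : Indep3 v u x) : Indep3 u v x ∧ Indep3 v x u := by
  rw [indep3_iff] at h
  obtain ⟨a, b, c, d, e, f, g⟩ := h
  constructor
  · exact indep3_iff.2 ⟨b, a, c, d.symm, f, e, by rwa [add_comm]⟩
  · refine indep3_iff.2 ⟨a, c, b, e.symm, d.symm, f.symm, fun h => g ?_⟩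
    rw [h, ← add_assoc, add_self', zero_add]

theorem Indep3.shift {v u x : V} (h : Indep3 v u x) : Indep3 v u (x + v) ∧ Indep3 v u (x + u) := by
  obtain ⟨h1, h2⟩ := h
  refine ⟨⟨h1, fun h => h2 ?_⟩, ⟨h1, fun h => h2 ?_⟩⟩
  · simpa using Submodule.sub_mem _ h (Submodule.subset_span (show v ∈ ({v, u} : Set V) by simp))
  · simpa using Submodule.sub_mem _ h (Submodule.subset_span (show u ∈ ({v, u} : Set V) by simp))

/-- The plane through three vectors. -/
abbrev plane (v u x : V) : Submodule (ZMod 2) V := Submodule.span (ZMod 2) {v, u, x}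

theorem map_plane_le {v u x : V} {h : V ≃ₗ[ZMod 2] V} (P : Submodule (ZMod 2) V) (hv : h v ∈ P)
    (hu : h u ∈ P) (hx : h x ∈ P) : (plane v u x).map (h : V →ₗ[ZMod 2] V) ≤ P := by
  rw [Submodule.map_le_iff_le_comap, Submodule.span_le]
  rintro y (rfl | rfl | rfl) <;> assumption

theorem map_eq_self [Finite V] {P : Submodule (ZMod 2) V} {h : V ≃ₗ[ZMod 2] V}
    (hP : P.map (h : V →ₗ[ZMod 2] V) ≤ P) : P.map (h : V →ₗ[ZMod 2] V) = P := by
  refine Submodule.eq_of_le_of_finrank_eq hP ?_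
  exact LinearEquiv.finrank_map_eq h P

variable [Finite V] {H : Subgroup (V ≃ₗ[ZMod 2] V)}

/-- Related by an element of `H` fixing the plane `P`. -/
def PRel (H : Subgroup (V ≃ₗ[ZMod 2] V)) (P : Submodule (ZMod 2) V) (a b : V) : Prop :=
  ∃ h ∈ H, h a = b ∧ P.map (h : V →ₗ[ZMod 2] V) = P

theorem PRel.symm {P : Submodule (ZMod 2) V} {a b : V} (h : PRel H P a b) : PRel H P b a := by
  obtain ⟨g, hg, h1, h2⟩ := h
  refine ⟨g⁻¹, H.inv_mem hg, (LinearEquiv.symm_apply_eq g).2 h1.symm, ?_⟩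
  conv_lhs => rw [← h2]
  rw [← Submodule.map_comp]
  convert Submodule.map_id P
  exact LinearMap.ext fun y => g.symm_apply_apply y

theorem PRel.trans {P : Submodule (ZMod 2) V} {a b c : V} (h : PRel H P a b) (h' : PRel H P b c) :
    PRel H P a c := by
  obtain ⟨g, hg, h1, h2⟩ := h
  obtain ⟨g', hg', h1', h2'⟩ := h'
  refine ⟨g' * g, H.mul_mem hg' hg, by rw [LinearEquiv.mul_apply, h1, h1'], ?_⟩
  conv_rhs => rw [← h2', ← h2]
  rw [← Submodule.map_comp]
  rfl

theorem plane_swap (hs : Swaps H) {p a b : V} (h3 : Indep3 p a b) :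
    PRel H (plane p a b) a b ∨ PRel H (plane p a b) a (b + p) := by
  obtain ⟨hi, hp⟩ := indep2_mk.2 h3
  obtain ⟨g, hg, h1, h2⟩ := hs p hp _ _ hi
  obtain ⟨h, hh, hhp, hh'⟩ := of_mem_qGroup hg
  rw [hh'] at h1 h2
  have ha : h a = b ∨ h a = b + p := mk_eq_iff.1 h1.symm
  have hb : h b = a ∨ h b = a + p := mk_eq_iff.1 h2.symm
  have hle : (plane p a b).map (h : V →ₗ[ZMod 2] V) ≤ plane p a b := by
    have mp : p ∈ plane p a b := Submodule.subset_span (by simp)
    have ma : a ∈ plane p a b := Submodule.subset_span (by simp)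
    have mb : b ∈ plane p a b := Submodule.subset_span (by simp)
    refine map_plane_le _ (by rw [hhp]; exact mp) ?_ ?_
    · rcases ha with e | e <;> rw [e]
      exacts [mb, Submodule.add_mem _ mb mp]
    · rcases hb with e | e <;> rw [e]
      exacts [ma, Submodule.add_mem _ ma mp]
  rcases ha with e | e
  · exact Or.inl ⟨h, hh, e, map_eq_self hle⟩
  · exact Or.inr ⟨h, hh, e, map_eq_self hle⟩

theorem plane_perm {v u x a b c : V} (ha : a ∈ plane v u x) (hb : b ∈ plane v u x) (hc : c ∈ plane v u x)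
    (hv : v ∈ plane a b c) (hu : u ∈ plane a b c) (hx : x ∈ plane a b c) : plane a b c = plane v u x := by
  refine le_antisymm (Submodule.span_le.2 ?_) (Submodule.span_le.2 ?_)
  · rintro y (rfl | rfl | rfl) <;> assumption
  · rintro y (rfl | rfl | rfl) <;> assumption

/-- The stabiliser of a plane is transitive on its points. -/
theorem plane_move (hs : Swaps H) {v u x : V} (h3 : Indep3 v u x) : PRel H (plane v u x) v u := by
  let P := plane v u x
  have mv : v ∈ P := Submodule.subset_span (by simp)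
  have mu : u ∈ P := Submodule.subset_span (by simp)
  have mx : x ∈ P := Submodule.subset_span (by simp)
  have base : ∀ p, Indep3 p v u → x ∈ plane p v u → p ∈ P → PRel H P v u ∨ PRel H P v (u + p) := by
    intro p hp hxp hpP
    have e : plane p v u = P := plane_perm hpP mv mu (Submodule.subset_span (by simp))
      (Submodule.subset_span (by simp)) hxp
    rw [← e]
    exact plane_swap hs hp
  have i0 : Indep3 x v u := h3.rot.2.rot.1
  have i1 : Indep3 (x + u) v u := h3.shift.2.rot.2.rot.1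
  rcases base x i0 (Submodule.subset_span (by simp)) mx with h | h
  · exact h
  rcases base (x + u) i1 (by
      have := Submodule.add_mem (plane (x + u) v u) (Submodule.subset_span (show x + u ∈ _ by simp))
        (Submodule.subset_span (show u ∈ _ by simp) : u ∈ plane (x + u) v u)
      rwa [add_assoc, add_self', add_zero] at this) (Submodule.add_mem _ mx mu) with h' | h'
  · exact h'
  have h'' : PRel H P v x := by rwa [← add_assoc, add_comm u x, add_assoc, add_self', add_zero] at h'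
  rcases base (x + v) h3.shift.1.rot.2.rot.1 (by
      have := Submodule.add_mem (plane (x + v) v u) (Submodule.subset_span (show x + v ∈ _ by simp))
        (Submodule.subset_span (show v ∈ _ by simp) : v ∈ plane (x + v) v u)
      rwa [add_assoc, add_self', add_zero] at this) (Submodule.add_mem _ mx mv) with h1 | h1
  · exact h1
  rcases base (x + v + u) h3.shift.1.shift.2.rot.2.rot.1 (by
      have := Submodule.add_mem (plane (x + v + u) v u) (Submodule.add_mem _
        (Submodule.subset_span (show x + v + u ∈ _ by simp))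
        (Submodule.subset_span (show u ∈ _ by simp) : u ∈ plane (x + v + u) v u))
        (Submodule.subset_span (show v ∈ _ by simp) : v ∈ plane (x + v + u) v u)
      rwa [add_assoc (x + v), add_self', add_zero, add_assoc x v v, add_self', add_zero] at this)
      (Submodule.add_mem _ (Submodule.add_mem _ mx mv) mu) with h2 | h2
  · exact h2
  have h2' : PRel H P v (x + v) := by
    rwa [add_comm u, add_assoc, add_self', add_zero] at h2
  have e : plane v u x = P := rfl
  rcases plane_swap hs h3 with h4 | h4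
  · exact h''.trans (by rw [e] at h4; exact h4.symm)
  · exact h2'.trans (by rw [e] at h4; exact h4.symm)

/-- A symmetric relation on independent pairs of `V ⧸ ⟨v₀⟩`, unchanged when a line's second point moves
along the line. -/
structure LineRel (H : Subgroup (V ≃ₗ[ZMod 2] V)) (v₀ : V) where
  P : Qv v₀ → Qv v₀ → Prop
  inv : ∀ g ∈ qGroup H v₀, ∀ a b, P a b → P (g a) (g b)
  indep : ∀ a b, P a b → Indep2 a b
  symm : ∀ a b, P a b → P b a
  shift : ∀ a b, P a b → P a (a + b)

/-- The lifted relation on triples. -/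
def LineRel.Lift {v₀ : V} (R : LineRel H v₀) (v u x : V) : Prop :=
  ∃ h ∈ H, h v₀ = v ∧ R.P (Submodule.Quotient.mk (h.symm u)) (Submodule.Quotient.mk (h.symm x))

theorem mk_symm_congr {v₀ : V} {h : V ≃ₗ[ZMod 2] V} {v u u' : V} (hv : h v₀ = v)
    (hu : u' = u ∨ u' = u + v) :
    (Submodule.Quotient.mk (h.symm u') : Qv v₀) = Submodule.Quotient.mk (h.symm u) := by
  rcases hu with rfl | rfl
  · rfl
  · refine (mk_eq_iff.2 (Or.inr ?_)).symm
    rw [map_add, (LinearEquiv.symm_apply_eq h).2 hv.symm]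

theorem LineRel.lift_iff {v₀ : V} (R : LineRel H v₀) {v u x : V} {h : V ≃ₗ[ZMod 2] V} (hh : h ∈ H)
    (hv : h v₀ = v) :
    R.Lift v u x ↔ R.P (Submodule.Quotient.mk (h.symm u)) (Submodule.Quotient.mk (h.symm x)) := by
  refine ⟨fun ⟨k, hk, kv, hP⟩ => ?_, fun hP => ⟨h, hh, hv, hP⟩⟩
  have hfix : (h⁻¹ * k) v₀ = v₀ := (LinearEquiv.symm_apply_eq h).2 (kv.trans hv.symm)
  have := R.inv _ (mem_qGroup (H.mul_mem (H.inv_mem hh) hk) hfix) _ _ hP
  rw [quotHom_mk, quotHom_mk] at this
  simpa using this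

theorem LineRel.lift_map {v₀ : V} (R : LineRel H v₀) {v u x : V} {h : V ≃ₗ[ZMod 2] V} (hh : h ∈ H)
    (hP : R.Lift v u x) : R.Lift (h v) (h u) (h x) := by
  obtain ⟨k, hk, kv, hP⟩ := hP
  refine ⟨h * k, H.mul_mem hh hk, by rw [LinearEquiv.mul_apply, kv], ?_⟩
  have e : ∀ y, (h * k).symm (h y) = k.symm y := fun y => by
    rw [LinearEquiv.symm_apply_eq, LinearEquiv.mul_apply, LinearEquiv.apply_symm_apply]
  rwa [e, e]

theorem LineRel.lift_indep {v₀ : V} (R : LineRel H v₀) (hv₀ : v₀ ≠ 0) {v u x : V} (hP : R.Lift v u x) :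
    Indep3 v u x := by
  obtain ⟨k, hk, kv, hP⟩ := hP
  have := indep2_mk.1 ⟨R.indep _ _ hP, hv₀⟩
  rw [indep3_iff] at this ⊢
  obtain ⟨a, b, c, d, e, f, g⟩ := this
  rw [← kv]
  refine ⟨by simpa using a, fun e' => b (by simp [e']), fun e' => c (by simp [e']),
    fun e' => d (by rw [← e', LinearEquiv.symm_apply_apply]), fun e' => e (by simp [e']),
    fun e' => f (by rw [e']), fun e' => g (by simp [e'])⟩

theorem LineRel.lift_symm {v₀ : V} (R : LineRel H v₀) {v u x : V} (hP : R.Lift v u x) : R.Lift v x u := by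
  obtain ⟨k, hk, kv, hP⟩ := hP
  exact ⟨k, hk, kv, R.symm _ _ hP⟩

theorem LineRel.lift_shift {v₀ : V} (R : LineRel H v₀) {v u x : V} (hP : R.Lift v u x) :
    R.Lift v (u + v) x ∧ R.Lift v u (x + v) ∧ R.Lift v u (u + x) ∧ R.Lift v (u + x) x := by
  obtain ⟨k, hk, kv, hP⟩ := hP
  refine ⟨⟨k, hk, kv, ?_⟩, ⟨k, hk, kv, ?_⟩, ⟨k, hk, kv, ?_⟩, ⟨k, hk, kv, ?_⟩⟩
  · rwa [mk_symm_congr kv (Or.inr rfl)]
  · rwa [mk_symm_congr kv (Or.inr rfl)]
  · rw [map_add, Submodule.Quotient.mk_add]; exact R.shift _ _ hP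
  · rw [map_add, Submodule.Quotient.mk_add, add_comm]
    exact R.symm _ _ (R.shift _ _ (R.symm _ _ hP))

theorem LineRel.lift_congr {v₀ : V} (R : LineRel H v₀) {v u x u' x' : V} (hu : u' = u ∨ u' = u + v)
    (hx : x' = x ∨ x' = x + v) (hP : R.Lift v u x) : R.Lift v u' x' := by
  obtain ⟨k, hk, kv, hP⟩ := hP
  refine ⟨k, hk, kv, ?_⟩
  rwa [mk_symm_congr kv hu, mk_symm_congr kv hx]

/-- The colour of a plane does not depend on the point it is seen from. -/
theorem LineRel.lift_move {v₀ : V} (R : LineRel H v₀) (hv₀ : v₀ ≠ 0) (hs : Swaps H) {v u x : V}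
    (hP : R.Lift v u x) : R.Lift u v x := by
  have h3 := R.lift_indep hv₀ hP
  obtain ⟨h, hh, hvu, hmap⟩ := plane_move hs h3
  have hm : ∀ y, y ∈ plane v u x → h y ∈ plane v u x := fun y hy => hmap ▸ Submodule.mem_map_of_mem hy
  have hP' := R.lift_map hh hP
  rw [hvu] at hP'
  have h3' := R.lift_indep hv₀ hP'
  have cl : ∀ y, y ∈ plane v u x → y ≠ 0 → y ≠ u →
      (y = v ∨ y = v + u) ∨ (y = x ∨ y = x + u) ∨ (y = v + x ∨ y = v + x + u) := by
    intro y hy h0 hu
    rw [Submodule.mem_span_insert] at hy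
    obtain ⟨c, z, hz, rfl⟩ := hy
    rcases mem_span_two.1 hz with e | e | e | e <;>
      rcases zmod_two_cases c with hc | hc <;> subst hc <;>
      simp_all [add_assoc, add_comm u x, add_left_comm]
  obtain ⟨i1, i2, i3, i4, i5, i6, i7⟩ := indep3_iff.1 h3'
  have ca := cl _ (hm u (Submodule.subset_span (by simp))) i2 i4.symm
  have cb := cl _ (hm x (Submodule.subset_span (by simp))) i3 i5
  have back : ∀ {a b : V}, (b = a ∨ b = a + u) → (a = b ∨ a = b + u) := fun {a b} h =>
    h.imp Eq.symm fun e => by rw [e, add_assoc, add_self', add_zero]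
  have bad : ∀ a : V, (h u = a ∨ h u = a + u) → (h x = a ∨ h x = a + u) → False := by
    intro a h1 h2
    rcases h1 with e | e <;> rcases h2 with f | f <;>
      first
        | exact i6 (f.trans e.symm)
        | (refine i7 ?_; rw [e, f, add_comm u, add_assoc, add_self', add_zero])
        | (refine i7 ?_; rw [e, f, add_comm u])
  have comb : ∀ {a b : V}, (h u = a ∨ h u = a + u) → (h x = b ∨ h x = b + u) → R.Lift u a b :=
    fun ha hb => R.lift_congr (back ha) (back hb) hP'
  have fin1 : R.Lift u (v + x) x → R.Lift u v x := fun h => by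
    have := (R.lift_shift h).2.2.2
    rwa [add_assoc, add_self', add_zero] at this
  have fin2 : R.Lift u v (v + x) → R.Lift u v x := fun h => by
    have := (R.lift_shift h).2.2.1
    rwa [← add_assoc, add_self', zero_add] at this
  rcases ca with a1 | a2 | a3 <;> rcases cb with b1 | b2 | b3
  · exact absurd b1 (bad v a1)
  · exact comb a1 b2
  · exact fin2 (comb a1 b3)
  · exact R.lift_symm (comb a2 b1)
  · exact absurd b2 (bad x a2)
  · exact fin1 (R.lift_symm (comb a2 b3))
  · exact fin2 (R.lift_symm (comb a3 b1))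
  · exact fin1 (comb a3 b2)
  · exact absurd b3 (bad _ a3)

end Cfsg.Agent.Grp.Antiflag
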