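import Cfsg.Agent.Lib.Grp.Antiflag.Brauer

/-! The group induced on `V ⧸ ⟨v⟩` by a two-transitive linear group is antiflag transitive. -/

set_option autoImplicit false
set_option maxRecDepth 4000

namespace Cfsg.Agent.Grp.Antiflag

variable {V : Type*} [AddCommGroup V] [Module (ZMod 2) V]

theorem add_self' (x : V) : x + x = 0 := by
  rw [← two_smul (ZMod 2) x, show (2 : ZMod 2) = 0 by decide, zero_smul]

theorem eq_add_of_add' {x y z : V} (h : x + y = z) : x = z + y := by
  rw [← h, add_assoc, add_self', add_zero]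

theorem zmod_two_cases (a : ZMod 2) : a = 0 ∨ a = 1 := by revert a; decide

theorem mem_line {v x : V} :
    x ∈ Submodule.span (ZMod 2) ({v} : Set V) ↔ x = 0 ∨ x = v := by
  rw [Submodule.mem_span_singleton]
  constructor
  · rintro ⟨a, rfl⟩
    rcases zmod_two_cases a with rfl | rfl <;> simp
  · rintro (rfl | rfl)
    exacts [⟨0, zero_smul _ _⟩, ⟨1, one_smul _ _⟩]

/-- The line spanned by `v`. -/
abbrev line (v : V) : Submodule (ZMod 2) V := Submodule.span (ZMod 2) {v}

/-- The quotient by the line of `v`. -/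
abbrev Qv (v : V) := V ⧸ line v

theorem mk_eq_iff {v x y : V} :
    (Submodule.Quotient.mk x : Qv v) = Submodule.Quotient.mk y ↔ y = x ∨ y = x + v := by
  rw [Submodule.Quotient.eq, mem_line, sub_eq_zero]
  constructor
  · rintro (h | h)
    · exact Or.inl h.symm
    · right; rw [← h, add_sub, add_self', zero_sub, eq_comm, neg_eq_iff_add_eq_zero]; exact add_self' y
  · rintro (rfl | rfl)
    · exact Or.inl rfl
    · right; rw [sub_eq_iff_eq_add, add_comm x, ← add_assoc, add_self', zero_add]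

theorem mk_eq_zero {v x : V} : (Submodule.Quotient.mk x : Qv v) = 0 ↔ x = 0 ∨ x = v := by
  rw [Submodule.Quotient.mk_eq_zero, mem_line]

instance [Finite V] (v : V) : Finite (Qv v) :=
  Finite.of_surjective _ (Submodule.Quotient.mk_surjective (line v))

/-- The maps fixing `v`. -/
def fixSub (v : V) : Subgroup (V ≃ₗ[ZMod 2] V) where
  carrier := {g | g v = v}
  mul_mem' {g h} hg hh := show g (h v) = v by rw [show h v = v from hh]; exact hg
  one_mem' := rfl
  inv_mem' {g} hg := show g.symm v = v by rw [LinearEquiv.symm_apply_eq]; exact (show g v = v from hg).symm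

theorem map_line {v : V} {g : V ≃ₗ[ZMod 2] V} (hg : g v = v) :
    (line v).map (g : V →ₗ[ZMod 2] V) = line v := by
  rw [Submodule.map_span, Set.image_singleton, LinearEquiv.coe_coe, hg]

/-- The action on the quotient. -/
def quotHom (v : V) : fixSub v →* (Qv v ≃ₗ[ZMod 2] Qv v) where
  toFun g := Submodule.Quotient.equiv (line v) (line v) g.1 (map_line g.2)
  map_one' := by
    refine LinearEquiv.ext fun q => ?_
    obtain ⟨x, rfl⟩ := Submodule.Quotient.mk_surjective _ q
    rfl
  map_mul' g h := by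
    refine LinearEquiv.ext fun q => ?_
    obtain ⟨x, rfl⟩ := Submodule.Quotient.mk_surjective _ q
    rfl

theorem quotHom_mk (v : V) (g : fixSub v) (x : V) :
    quotHom v g (Submodule.Quotient.mk x) = Submodule.Quotient.mk (g.1 x) := rfl

/-- The group induced on the quotient by the stabiliser of `v`. -/
def qGroup (H : Subgroup (V ≃ₗ[ZMod 2] V)) (v : V) : Subgroup (Qv v ≃ₗ[ZMod 2] Qv v) :=
  (H.subgroupOf (fixSub v)).map (quotHom v)

theorem mem_qGroup {H : Subgroup (V ≃ₗ[ZMod 2] V)} {v : V} {h : V ≃ₗ[ZMod 2] V} (hh : h ∈ H)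
    (hv : h v = v) : quotHom v ⟨h, hv⟩ ∈ qGroup H v :=
  Subgroup.mem_map_of_mem _ hh

theorem of_mem_qGroup {H : Subgroup (V ≃ₗ[ZMod 2] V)} {v : V} {g : Qv v ≃ₗ[ZMod 2] Qv v}
    (hg : g ∈ qGroup H v) :
    ∃ h ∈ H, h v = v ∧ ∀ x, g (Submodule.Quotient.mk x) = Submodule.Quotient.mk (h x) := by
  obtain ⟨h, hh, rfl⟩ := hg
  exact ⟨h.1, hh, h.2, fun x => rfl⟩

theorem finrank_qv [Finite V] {v : V} (hv : v ≠ 0) :
    Module.finrank (ZMod 2) (Qv v) + 1 = Module.finrank (ZMod 2) V := by
  rw [← Submodule.finrank_quotient_add_finrank (line v), finrank_span_singleton hv]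

/-- Transitivity on two coprime orbits gives transitivity on their product. -/
theorem pair_orbit {K X Y : Type*} [Group K] [MulAction K X] [MulAction K Y] [Finite X] [Finite Y]
    (x : X) (y : Y) (hc : (MulAction.orbit K x).ncard.Coprime (MulAction.orbit K y).ncard)
    {x' : X} {y' : Y} (hx : x' ∈ MulAction.orbit K x) (hy : y' ∈ MulAction.orbit K y) :
    ∃ k : K, k • x = x' ∧ k • y = y' := by
  have hsub : MulAction.orbit K (x, y) ⊆ MulAction.orbit K x ×ˢ MulAction.orbit K y := by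
    rintro _ ⟨k, rfl⟩
    exact ⟨⟨k, rfl⟩, ⟨k, rfl⟩⟩
  have hle : MulAction.stabilizer K (x, y) ≤ MulAction.stabilizer K x := fun k hk => congrArg Prod.fst hk
  have hle' : MulAction.stabilizer K (x, y) ≤ MulAction.stabilizer K y := fun k hk => congrArg Prod.snd hk
  have d1 := Subgroup.index_dvd_of_le hle
  have d2 := Subgroup.index_dvd_of_le hle'
  rw [MulAction.index_stabilizer, MulAction.index_stabilizer] at d1 d2
  have hdvd := hc.mul_dvd_of_dvd_of_dvd d1 d2
  have hpos : 0 < (MulAction.orbit K (x, y)).ncard :=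
    (Set.ncard_pos (Set.toFinite _)).2 ⟨_, MulAction.mem_orbit_self _⟩
  have heq : MulAction.orbit K (x, y) = MulAction.orbit K x ×ˢ MulAction.orbit K y :=
    Set.eq_of_subset_of_ncard_le hsub (by rw [Set.ncard_prod]; exact Nat.le_of_dvd hpos hdvd)
      (Set.toFinite _)
  obtain ⟨k, hk⟩ : (x', y') ∈ MulAction.orbit K (x, y) := heq ▸ ⟨hx, hy⟩
  exact ⟨k, congrArg Prod.fst hk, congrArg Prod.snd hk⟩

theorem exists_ne_pair [Finite V] (hn : 2 ≤ Module.finrank (ZMod 2) V) (a : V) :
    ∃ b : V, b ≠ 0 ∧ b ≠ a := by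
  classical
  by_contra h
  push Not at h
  cases nonempty_fintype V
  have h1 : (Finset.univ : Finset V) ⊆ {0, a} := fun b _ => by
    by_cases hb : b = 0
    · simp [hb]
    · simp [h b hb]
  have h2 := Finset.card_le_card h1
  rw [Finset.card_univ, ← Nat.card_eq_fintype_card,
    Module.natCard_eq_pow_finrank (K := ZMod 2) (V := V)] at h2
  have h3 : ({0, a} : Finset V).card ≤ 2 := Finset.card_le_two
  have h4 : (2 : ℕ) ^ 2 ≤ 2 ^ Module.finrank (ZMod 2) V := Nat.pow_le_pow_right (by norm_num) hn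
  simp at h2
  omega

theorem indep2_symm {a b : V} (h : Indep2 a b) : Indep2 b a := ⟨h.2.1, h.1, h.2.2.symm⟩

section TwoTransFacts

variable [Finite V] {H : Subgroup (V ≃ₗ[ZMod 2] V)}

theorem exists_map (hH : TwoTrans H) (hn : 2 ≤ Module.finrank (ZMod 2) V) {a c : V} (ha : a ≠ 0)
    (hc : c ≠ 0) : ∃ h ∈ H, h a = c := by
  obtain ⟨b, hb0, hba⟩ := exists_ne_pair hn a
  obtain ⟨d, hd0, hdc⟩ := exists_ne_pair hn c
  obtain ⟨h, hh, h1, -⟩ := hH a b c d ⟨ha, hb0, hba.symm⟩ ⟨hc, hd0, hdc.symm⟩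
  exact ⟨h, hh, h1⟩

/-- The stabiliser of `v` is transitive on linear forms equal to one at `v`. -/
theorem exists_fix_dual (hH : TwoTrans H) (hn : 2 ≤ Module.finrank (ZMod 2) V) {v : V} (hv : v ≠ 0)
    {φ φ' : Module.Dual (ZMod 2) V} (hφ : φ v = 1) (hφ' : φ' v = 1) :
    ∃ h ∈ H, h v = v ∧ ∀ x, φ' (h x) = φ x := by
  classical
  let K : Subgroup (V ≃ₗ[ZMod 2] V) := H ⊓ fixSub v
  let ρ := K.subtype
  obtain ⟨x0, hx00, hx0v⟩ := exists_ne_pair hn v
  haveI : Finite (Module.Dual (ZMod 2) V) := Finite.of_injective (fun g => (g : V → ZMod 2)) DFunLike.coe_injective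
  have hle : norb ρ ≤ 3 := by
    have : Function.Surjective (fun i : Fin 3 => (Quotient.mk (orbSetoid ρ) (![0, v, x0] i))) := by
      intro q
      induction q using Quotient.inductionOn with
      | h x =>
        by_cases hx : x = 0
        · exact ⟨0, by simp [hx]⟩
        by_cases hxv : x = v
        · exact ⟨1, by simp [hxv]⟩
        obtain ⟨h, hh, h1, h2⟩ := hH v x0 v x ⟨hv, hx00, hx0v.symm⟩ ⟨hv, hx, fun e => hxv e.symm⟩
        exact ⟨2, Quotient.sound ⟨⟨h, hh, h1⟩, h2⟩⟩
    simpa [norb] using Nat.card_le_card_of_surjective _ this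
  by_contra hcon
  obtain ⟨φ0, hφ0, hφ0v⟩ : ∃ φ0 : Module.Dual (ZMod 2) V, φ0 x0 = 1 ∧ φ0 v = 0 := by
    have hx : x0 ∉ line v := by rw [mem_line]; tauto
    obtain ⟨f, hf1, hf2⟩ := Submodule.exists_dual_map_eq_bot_of_notMem hx inferInstance
    refine ⟨f, (zmod_two_cases _).resolve_left hf1, ?_⟩
    have : f v ∈ (line v).map f := Submodule.mem_map_of_mem (Submodule.mem_span_singleton_self v)
    rwa [hf2, Submodule.mem_bot] at this
  have hinj : Function.Injective
      (fun i : Fin 4 => Quotient.mk (orbSetoid (dualHom.comp ρ)) (![0, φ0, φ, φ'] i)) := by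
    have hz : ∀ {a b : Module.Dual (ZMod 2) V} (k : K), dualHom (ρ k) a = b → a v = b v := by
      intro a b k hk
      rw [← hk, dualHom_apply]
      congr 1
      exact ((LinearEquiv.symm_apply_eq _).2 (k.2.2 : k.1 v = v).symm).symm
    have h00 : ∀ {a b : Module.Dual (ZMod 2) V} (k : K), dualHom (ρ k) a = b → (a = 0 ↔ b = 0) := by
      intro a b k hk
      rw [← hk]
      exact (LinearEquiv.map_eq_zero_iff _).symm
    have hne0 : φ0 ≠ 0 := fun e => by simp [e] at hφ0
    have hφne : φ ≠ 0 := fun e => by simp [e] at hφ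
    have hφ'ne : φ' ≠ 0 := fun e => by simp [e] at hφ'
    have hne : ¬ (orbSetoid (dualHom.comp ρ)).r φ φ' := fun ⟨k, hk⟩ => hcon ⟨k.1, k.2.1, k.2.2, fun x => by
      rw [← hk]; show φ (k.1.symm (k.1 x)) = φ x; rw [LinearEquiv.symm_apply_apply]⟩
    have hne' : ¬ (orbSetoid (dualHom.comp ρ)).r φ' φ := fun h => hne ((orbSetoid _).iseqv.symm h)
    intro i j hij
    obtain ⟨k, hk⟩ := Quotient.exact hij
    have e1 := hz k hk
    have e2 := h00 k hk
    fin_cases i <;> fin_cases j <;>
      first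
        | rfl
        | exact (hne ⟨k, hk⟩).elim
        | exact (hne' ⟨k, hk⟩).elim
        | (simp_all)
  have h4 := Nat.card_le_card_of_injective _ hinj
  have := norb_dual ρ
  unfold norb at this hle
  simp at h4
  omega

theorem card_dual_one {v : V} (hv : v ≠ 0) :
    {φ : Module.Dual (ZMod 2) V | φ v = 1}.ncard = 2 ^ Module.finrank (ZMod 2) (Qv v) := by
  classical
  have hv' : v ∉ (⊥ : Submodule (ZMod 2) V) := by simpa using hv
  obtain ⟨f, hf, -⟩ := Submodule.exists_dual_map_eq_bot_of_notMem hv' inferInstance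
  have hf1 : f v = 1 := (zmod_two_cases _).resolve_left hf
  have e : {φ : Module.Dual (ZMod 2) V | φ v = 1} = (fun ψ => ψ + f) '' ((line v).dualAnnihilator : Set _) := by
    ext φ
    simp only [Set.mem_setOf_eq, Set.mem_image, SetLike.mem_coe, Submodule.mem_dualAnnihilator]
    constructor
    · intro h
      refine ⟨φ + f, fun x hx => ?_, by rw [add_assoc, add_self', add_zero]⟩
      rcases mem_line.1 hx with rfl | rfl
      · simp
      · simp [h, hf1]; decide
    · rintro ⟨ψ, hψ, rfl⟩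
      simp [hψ v (Submodule.mem_span_singleton_self v), hf1]
  rw [e, Set.ncard_image_of_injective _ (add_left_injective f), ← Nat.card_coe_set_eq]
  have h1 : Nat.card ((line v).dualAnnihilator) = 2 ^ Module.finrank (ZMod 2) (line v).dualAnnihilator := by
    haveI : Finite (Module.Dual (ZMod 2) V) := Finite.of_injective (fun g => (g : V → ZMod 2)) DFunLike.coe_injective
    rw [Module.natCard_eq_pow_finrank (K := ZMod 2), Nat.card_zmod]
  refine h1.trans ?_
  congr 1
  have h2 := Subspace.finrank_add_finrank_dualAnnihilator_eq (K := ZMod 2) (V := V) (line v)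
  have h3 := finrank_qv hv
  rw [finrank_span_singleton hv] at h2
  omega

theorem exists_flag_dual (hH : TwoTrans H) (hn : 2 ≤ Module.finrank (ZMod 2) V) {v u : V}
    (hvu : Indep2 v u) {φ φ' : Module.Dual (ZMod 2) V} (hφ : φ v = 1) (hφ' : φ' v = 1) :
    ∃ h ∈ H, h v = v ∧ (h u = u ∨ h u = u + v) ∧ ∀ x, φ' (h x) = φ x := by
  classical
  let K : Subgroup (fixSub v) := H.subgroupOf (fixSub v)
  letI aX : MulAction K (Qv v) :=
    { smul := fun k q => quotHom v k.1 q
      one_smul := fun q => by show quotHom v 1 q = q; rw [map_one]; rfl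
      mul_smul := fun a b q => by show quotHom v (a.1 * b.1) q = _; rw [map_mul]; rfl }
  letI aY : MulAction K (Module.Dual (ZMod 2) V) :=
    { smul := fun k ψ => dualHom k.1.1 ψ
      one_smul := fun ψ => LinearMap.ext fun x => rfl
      mul_smul := fun _ _ ψ => LinearMap.ext fun x => rfl }
  haveI : Finite (Module.Dual (ZMod 2) V) := Finite.of_injective (fun g => (g : V → ZMod 2)) DFunLike.coe_injective
  let q : Qv v := Submodule.Quotient.mk u
  have hq : q ≠ 0 := by rw [Ne, mk_eq_zero]; exact fun h => h.elim hvu.2.1 hvu.2.2.symm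
  have hX : MulAction.orbit K q = {0}ᶜ := by
    ext p
    obtain ⟨x, rfl⟩ := Submodule.Quotient.mk_surjective _ p
    rw [Set.mem_compl_singleton_iff]
    constructor
    · rintro ⟨k, hk⟩ e
      exact hq ((LinearEquiv.map_eq_zero_iff _).1 ((hk.trans e : k • q = 0) : quotHom v k.1 q = 0))
    · intro hx
      rw [Ne, mk_eq_zero] at hx
      obtain ⟨h, hh, h1, h2⟩ := hH v u v x hvu ⟨hvu.1, fun e => hx (Or.inl e), fun e => hx (Or.inr e.symm)⟩
      exact ⟨⟨⟨h, h1⟩, hh⟩, show Submodule.Quotient.mk (h u) = _ by rw [h2]⟩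
  have hY : MulAction.orbit K φ = {ψ : Module.Dual (ZMod 2) V | ψ v = 1} := by
    ext ψ
    constructor
    · rintro ⟨k, rfl⟩
      show φ (k.1.1.symm v) = 1
      rw [show k.1.1.symm v = v from (LinearEquiv.symm_apply_eq _).2 (k.1.2 : k.1.1 v = v).symm, hφ]
    · intro hψ
      obtain ⟨h, hh, h1, h2⟩ := exists_fix_dual hH hn hvu.1 hφ hψ
      refine ⟨⟨⟨h, h1⟩, hh⟩, LinearMap.ext fun x => ?_⟩
      show φ (h.symm x) = ψ x
      rw [← h2 (h.symm x), LinearEquiv.apply_symm_apply]
  have hc : (MulAction.orbit K q).ncard.Coprime (MulAction.orbit K φ).ncard := by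
    rw [hX, hY, card_dual_one hvu.1, Set.ncard_compl, Set.ncard_singleton,
      Module.natCard_eq_pow_finrank (K := ZMod 2), Nat.card_zmod]
    have hm : 1 ≤ Module.finrank (ZMod 2) (Qv v) := by have := finrank_qv hvu.1; omega
    refine (Nat.Coprime.pow_right _ ?_)
    rw [Nat.coprime_two_right, Nat.odd_sub (Nat.one_le_two_pow)]
    simp [Nat.even_pow, show Module.finrank (ZMod 2) (Qv v) ≠ 0 by omega]
  obtain ⟨k, h1, h2⟩ := pair_orbit q φ hc (MulAction.mem_orbit_self q) (hY ▸ hφ' : φ' ∈ MulAction.orbit K φ)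
  refine ⟨k.1.1, k.2, k.1.2, ?_, fun x => ?_⟩
  · have h1' : (Submodule.Quotient.mk (k.1.1 u) : Qv v) = Submodule.Quotient.mk u := h1
    exact mk_eq_iff.1 h1'.symm
  · rw [← h2]
    show φ (k.1.1.symm (k.1.1 x)) = φ x
    rw [LinearEquiv.symm_apply_apply]

/-- The stabiliser of a point acts antiflag transitively on the quotient. -/
theorem isAntiflag_qGroup (hH : TwoTrans H) (hn : 2 ≤ Module.finrank (ZMod 2) V) {v : V} (hv : v ≠ 0) :
    IsAntiflag (qGroup H v) := by
  intro q q' ψ ψ' hψ hψ'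
  obtain ⟨u, rfl⟩ := Submodule.Quotient.mk_surjective _ q
  obtain ⟨u', rfl⟩ := Submodule.Quotient.mk_surjective _ q'
  let φ : Module.Dual (ZMod 2) V := ψ.comp (line v).mkQ
  let φ' : Module.Dual (ZMod 2) V := ψ'.comp (line v).mkQ
  have hz : ∀ (χ : Module.Dual (ZMod 2) (Qv v)), χ.comp (line v).mkQ v = 0 := fun χ => by
    show χ (Submodule.Quotient.mk v) = 0
    rw [(mk_eq_zero.2 (Or.inr rfl) : (Submodule.Quotient.mk v : Qv v) = 0), map_zero]
  have hu : Indep2 v u := ⟨hv, fun e => by simp [e] at hψ, fun e => by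
    have := hz ψ; exact zero_ne_one (this.symm.trans ((congrArg (ψ.comp (line v).mkQ) e).trans hψ))⟩
  have hu' : Indep2 v u' := ⟨hv, fun e => by simp [e] at hψ', fun e => by
    have := hz ψ'; exact zero_ne_one (this.symm.trans ((congrArg (ψ'.comp (line v).mkQ) e).trans hψ'))⟩
  obtain ⟨h0, hh0, h0v, h0u⟩ := hH v u v u' hu hu'
  let φ2 : Module.Dual (ZMod 2) V := φ.comp (h0.symm : V →ₗ[ZMod 2] V)
  have e1 : φ2 v = 0 := by
    show φ (h0.symm v) = 0
    rw [show h0.symm v = v from (LinearEquiv.symm_apply_eq _).2 h0v.symm]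
    exact hz ψ
  have e2 : φ2 u' = 1 := by
    show φ (h0.symm u') = 1
    rw [show h0.symm u' = u from (LinearEquiv.symm_apply_eq _).2 h0u.symm]
    exact hψ
  have hw : Indep2 (v + u') u' := ⟨fun e => hu'.2.2 (by rw [eq_add_of_add' e, zero_add]), hu'.2.1,
    fun e => hv (by simpa using e)⟩
  obtain ⟨h1, hh1, h1w, h1u, h1φ⟩ := exists_flag_dual hH hn hw (φ := φ2) (φ' := φ')
    (by rw [map_add, e1, e2, zero_add]) (by
      show φ' (v + u') = 1
      rw [map_add, show φ' v = 0 from hz ψ', show φ' u' = 1 from hψ', zero_add])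
  have h1u' : h1 u' = u' := by
    rcases h1u with h | h
    · exact h
    · exfalso
      have h' := h1φ u'
      rw [h, e2, map_add, map_add, show φ' v = 0 from hz ψ', show φ' u' = 1 from hψ'] at h'
      exact absurd h' (by decide)
  have h1v : h1 v = v := by
    have := h1w
    rw [map_add, h1u'] at this
    exact add_right_cancel this
  have hv' : (h1 * h0) v = v := by rw [LinearEquiv.mul_apply, h0v, h1v]
  refine ⟨_, mem_qGroup (H.mul_mem hh1 hh0) hv', ?_, fun p => ?_⟩
  · rw [quotHom_mk]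
    show Submodule.Quotient.mk (h1 (h0 u)) = _
    rw [h0u, h1u']
  · obtain ⟨x, rfl⟩ := Submodule.Quotient.mk_surjective _ p
    rw [quotHom_mk]
    show φ' (h1 (h0 x)) = φ x
    rw [h1φ]
    show φ (h0.symm (h0 x)) = φ x
    rw [LinearEquiv.symm_apply_apply]

end TwoTransFacts

end Cfsg.Agent.Grp.Antiflag
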