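import Cfsg.Agent.Lib.Grp.Antiflag.Spread

/-!
# Spreads of an antiflag transitive group have blocks of dimension two

If the closed complement is larger than one block, the first block is a field, its multiplications extend
to the endomorphisms preserving all blocks, and `x ↦ x * x + x` is equivariant for the stabiliser of `1`,
which is transitive off `{0, 1}`: so every element is a root of `X² + X + 1` and `d = 2`.
-/

set_option autoImplicit false

namespace Cfsg.Agent.Grp.Antiflag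

variable {U : Type*} [AddCommGroup U] [Module (ZMod 2) U] {G : Subgroup (U ≃ₗ[ZMod 2] U)} [Finite U]

namespace Frame

variable {S : DSys G} (F : Frame S) (hbig : S.d < Module.finrank (ZMod 2) F.C)
include hbig

theorem exists_mul {b a : U} (hb : b ∈ S.D F.u₀) (ha : a ∈ S.D F.u₀) :
    ∃ k ∈ S.D F.u₀, ∀ y ∈ F.C, F.φ (F.φ y b) a = F.φ y k := by
  have hone : ∀ y ∈ F.C, y ≠ 0 → ∃ k ∈ S.D F.u₀, F.φ (F.φ y b) a = F.φ y k := by
    intro y hy hy0
    by_cases hb0 : F.φ y b = 0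
    · exact ⟨0, Submodule.zero_mem _, by rw [hb0, F.φ_zero_left ha, F.φ_zero_right hy]⟩
    · have hyb := F.φ_mem hy hy0 hb
      have hm := F.φ_mem (F.φ_spec hy hb).1 hb0 ha
      rw [F.hC y _ hy0 hb0 hyb] at hm
      obtain ⟨k, hk, e⟩ := F.φ_surj hy hy0 hm
      exact ⟨k, hk, e.symm⟩
  have hdisj : ∀ y w : U, y ∈ F.C → w ∈ F.C → y ≠ 0 → w ∉ S.D y → ∀ k k' : U, k ∈ S.D F.u₀ → k' ∈ S.D F.u₀ →
      F.φ (F.φ y b) a = F.φ y k → F.φ (F.φ w b) a = F.φ w k' → k = k' := by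
    intro y w hy hw hy0 hwy k k' hk hk' e1 e2
    have hw0 : w ≠ 0 := fun e => hwy (e ▸ Submodule.zero_mem _)
    have hs : y + w ≠ 0 := fun e => hwy (by
      rw [(eq_neg_of_add_eq_zero_right e : w = -y)]; exact (S.D y).neg_mem (S.mem_self y))
    obtain ⟨m, hm, e3⟩ := hone (y + w) (F.C.add_mem hy hw) hs
    rw [F.φ_add_left hbig hy hw hb, F.φ_add_left hbig (F.φ_spec hy hb).1 (F.φ_spec hw hb).1 ha, e1, e2,
      F.φ_add_left hbig hy hw hm] at e3
    have h1 : F.φ y (k + m) = F.φ w (k' + m) := by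
      rw [F.φ_add_right hy hk hm, F.φ_add_right hw hk' hm]
      have : F.φ y k + F.φ y m + (F.φ w k' + F.φ w m) = 0 := by
        calc F.φ y k + F.φ y m + (F.φ w k' + F.φ w m)
            = (F.φ y k + F.φ w k') + (F.φ y m + F.φ w m) := by abel
          _ = 0 := by rw [e3]; exact add_self _
      exact (eq_neg_of_add_eq_zero_left this).trans (neg_eq_of_add_eq_zero_right (add_self _))
    have hz : F.φ y (k + m) = 0 := by
      by_contra hne
      have hkm := (S.D F.u₀).add_mem hk hm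
      exact hwy (F.hC.eq_of_mem hy0 hw0 hne (F.φ_mem hy hy0 hkm)
        (h1 ▸ F.φ_mem hw hw0 ((S.D F.u₀).add_mem hk' hm)) ▸ S.mem_self w)
    have hz' : F.φ w (k' + m) = 0 := h1 ▸ hz
    have r1 := F.φ_inj hy hy0 ((S.D F.u₀).add_mem hk hm) hz
    have r2 := F.φ_inj hw hw0 ((S.D F.u₀).add_mem hk' hm) hz'
    exact ((eq_neg_of_add_eq_zero_left r1).trans (eq_neg_of_add_eq_zero_left r2).symm)
  have hne : F.C ≠ ⊥ := fun e => by rw [e, finrank_bot] at hbig; omega
  obtain ⟨y₀, hy₀, hy₀0⟩ := Submodule.exists_mem_ne_zero_of_ne_bot hne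
  obtain ⟨k, hk, hk0⟩ := hone y₀ hy₀ hy₀0
  refine ⟨k, hk, fun y hy => ?_⟩
  by_cases hy0 : y = 0
  · rw [hy0, F.φ_zero_left hb, F.φ_zero_left ha, F.φ_zero_left hk]
  obtain ⟨k', hk', e'⟩ := hone y hy hy0
  by_cases hd : y ∈ S.D y₀
  · obtain ⟨w, hw, hwy⟩ := F.exists_other hbig hy₀0
    have hw0 : w ≠ 0 := fun e => hwy (e ▸ Submodule.zero_mem _)
    obtain ⟨kw, hkw, ew⟩ := hone w hw hw0
    have r1 := hdisj y₀ w hy₀ hw hy₀0 hwy k kw hk hkw hk0 ew
    have r2 := hdisj y w hy hw hy0 (by rw [F.hC y₀ y hy₀0 hy0 hd]; exact hwy) k' kw hk' hkw e' ew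
    rw [r1, ← r2]; exact e'
  · rw [hdisj y₀ y hy₀ hy hy₀0 hd k k' hk hk' hk0 e']; exact e'

open Classical in
/-- The multiplication of the first block. -/
noncomputable def mul (b a : U) : U :=
  if h : b ∈ S.D F.u₀ ∧ a ∈ S.D F.u₀ then (F.exists_mul hbig h.1 h.2).choose else 0

theorem mul_spec {b a : U} (hb : b ∈ S.D F.u₀) (ha : a ∈ S.D F.u₀) :
    F.mul hbig b a ∈ S.D F.u₀ ∧ ∀ y ∈ F.C, F.φ (F.φ y b) a = F.φ y (F.mul hbig b a) := by
  rw [mul, dif_pos ⟨hb, ha⟩]
  exact (F.exists_mul hbig hb ha).choose_spec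

theorem exists_ne : ∃ y ∈ F.C, y ≠ 0 :=
  Submodule.exists_mem_ne_zero_of_ne_bot fun e => by rw [e, finrank_bot] at hbig; omega

theorem ext_φ {k k' : U} (hk : k ∈ S.D F.u₀) (hk' : k' ∈ S.D F.u₀)
    (h : ∀ y ∈ F.C, F.φ y k = F.φ y k') : k = k' := by
  obtain ⟨y, hy, hy0⟩ := F.exists_ne hbig
  have h1 : F.φ y (k + k') = 0 := by rw [F.φ_add_right hy hk hk', h y hy]; exact add_self _
  exact (eq_neg_of_add_eq_zero_left (F.φ_inj hy hy0 ((S.D F.u₀).add_mem hk hk') h1)).trans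
    (neg_eq_of_add_eq_zero_right (add_self k'))

/-- The first block with its multiplication. -/
@[reducible] noncomputable def ring : Ring (S.D F.u₀) :=
  { (inferInstance : AddCommGroup (S.D F.u₀)) with
    mul := fun b a => ⟨F.mul hbig b a, (F.mul_spec hbig b.2 a.2).1⟩
    one := ⟨F.u₀, S.mem_self _⟩
    left_distrib := fun b a c => Subtype.ext (F.ext_φ hbig (F.mul_spec hbig b.2 ((S.D F.u₀).add_mem a.2 c.2)).1
      ((S.D F.u₀).add_mem (F.mul_spec hbig b.2 a.2).1 (F.mul_spec hbig b.2 c.2).1) fun y hy => by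
        show F.φ y (F.mul hbig b ((a : U) + c)) = _
        rw [← (F.mul_spec hbig b.2 ((S.D F.u₀).add_mem a.2 c.2)).2 y hy,
          F.φ_add_right (F.φ_spec hy b.2).1 a.2 c.2, (F.mul_spec hbig b.2 a.2).2 y hy,
          (F.mul_spec hbig b.2 c.2).2 y hy]
        exact (F.φ_add_right hy (F.mul_spec hbig b.2 a.2).1 (F.mul_spec hbig b.2 c.2).1).symm)
    right_distrib := fun b c a => Subtype.ext (F.ext_φ hbig (F.mul_spec hbig ((S.D F.u₀).add_mem b.2 c.2) a.2).1
      ((S.D F.u₀).add_mem (F.mul_spec hbig b.2 a.2).1 (F.mul_spec hbig c.2 a.2).1) fun y hy => by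
        show F.φ y (F.mul hbig ((b : U) + c) a) = _
        rw [← (F.mul_spec hbig ((S.D F.u₀).add_mem b.2 c.2) a.2).2 y hy, F.φ_add_right hy b.2 c.2,
          F.φ_add_left hbig (F.φ_spec hy b.2).1 (F.φ_spec hy c.2).1 a.2,
          (F.mul_spec hbig b.2 a.2).2 y hy, (F.mul_spec hbig c.2 a.2).2 y hy]
        exact (F.φ_add_right hy (F.mul_spec hbig b.2 a.2).1 (F.mul_spec hbig c.2 a.2).1).symm)
    mul_assoc := fun b c a => Subtype.ext (F.ext_φ hbig
      (F.mul_spec hbig (F.mul_spec hbig b.2 c.2).1 a.2).1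
      (F.mul_spec hbig b.2 (F.mul_spec hbig c.2 a.2).1).1 fun y hy => by
        show F.φ y (F.mul hbig (F.mul hbig b c) a) = F.φ y (F.mul hbig b (F.mul hbig c a))
        rw [← (F.mul_spec hbig (F.mul_spec hbig b.2 c.2).1 a.2).2 y hy,
          ← (F.mul_spec hbig b.2 c.2).2 y hy, (F.mul_spec hbig c.2 a.2).2 _ (F.φ_spec hy b.2).1,
          (F.mul_spec hbig b.2 (F.mul_spec hbig c.2 a.2).1).2 y hy])
    one_mul := fun a => Subtype.ext (F.ext_φ hbig (F.mul_spec hbig (S.mem_self _) a.2).1 a.2 fun y hy => by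
        show F.φ y (F.mul hbig F.u₀ a) = F.φ y a
        rw [← (F.mul_spec hbig (S.mem_self _) a.2).2 y hy, F.φ_self hy])
    mul_one := fun a => Subtype.ext (F.ext_φ hbig (F.mul_spec hbig a.2 (S.mem_self _)).1 a.2 fun y hy => by
        show F.φ y (F.mul hbig a F.u₀) = F.φ y a
        rw [← (F.mul_spec hbig a.2 (S.mem_self _)).2 y hy, F.φ_self (F.φ_spec hy a.2).1])
    zero_mul := fun a => Subtype.ext (F.ext_φ hbig (F.mul_spec hbig (Submodule.zero_mem _) a.2).1
      (Submodule.zero_mem _) fun y hy => by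
        show F.φ y (F.mul hbig 0 a) = F.φ y 0
        rw [← (F.mul_spec hbig (Submodule.zero_mem _) a.2).2 y hy, F.φ_zero_right hy, F.φ_zero_left a.2])
    mul_zero := fun a => Subtype.ext (F.ext_φ hbig (F.mul_spec hbig a.2 (Submodule.zero_mem _)).1
      (Submodule.zero_mem _) fun y hy => by
        show F.φ y (F.mul hbig a 0) = F.φ y 0
        rw [← (F.mul_spec hbig a.2 (Submodule.zero_mem _)).2 y hy, F.φ_zero_right (F.φ_spec hy a.2).1,
          F.φ_zero_right hy]) }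

theorem mul_eq_zero' {b a : U} (hb : b ∈ S.D F.u₀) (ha : a ∈ S.D F.u₀) (h : F.mul hbig b a = 0) :
    b = 0 ∨ a = 0 := by
  obtain ⟨y, hy, hy0⟩ := F.exists_ne hbig
  have h1 := (F.mul_spec hbig hb ha).2 y hy
  rw [h, F.φ_zero_right hy] at h1
  by_cases h2 : F.φ y b = 0
  · exact Or.inl (F.φ_inj hy hy0 hb h2)
  · exact Or.inr (F.φ_inj (F.φ_spec hy hb).1 h2 ha h1)

theorem mul_comm' {b a : U} (hb : b ∈ S.D F.u₀) (ha : a ∈ S.D F.u₀) :
    F.mul hbig b a = F.mul hbig a b := by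
  letI := F.ring hbig
  haveI : Nontrivial (S.D F.u₀) :=
    ⟨⟨⟨F.u₀, S.mem_self _⟩, 0, fun h => F.ne_zero (congrArg Subtype.val h)⟩⟩
  haveI : NoZeroDivisors (S.D F.u₀) := ⟨fun {b a} h =>
    (F.mul_eq_zero' hbig b.2 a.2 (congrArg Subtype.val h)).imp Subtype.ext Subtype.ext⟩
  haveI : IsDomain (S.D F.u₀) := NoZeroDivisors.to_isDomain _
  exact congrArg Subtype.val
    ((Finite.isDomain_to_isField (S.D F.u₀)).mul_comm (⟨b, hb⟩ : S.D F.u₀) ⟨a, ha⟩)

theorem exists_scalar {b : U} (hb : b ∈ S.D F.u₀) :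
    ∃ f : U →ₗ[ZMod 2] U, (∀ x, f x ∈ S.D x) ∧ f F.u₀ = b ∧
      ∀ a ∈ S.D F.u₀, f a = F.mul hbig b a := by
  classical
  have hsplit : ∀ x, ∃ a ∈ S.D F.u₀, ∃ c ∈ F.C, a + c = x := fun x =>
    Submodule.mem_sup.1 (F.sup_eq ▸ Submodule.mem_top)
  choose pa hpa pc hpc hp using hsplit
  have huniq : ∀ x a c, a ∈ S.D F.u₀ → c ∈ F.C → a + c = x → pa x = a ∧ pc x = c := fun x a c ha hc h =>
    F.split_unique (hpa x) ha (hpc x) hc ((hp x).trans h.symm)
  let f₀ : U → U := fun x => F.mul hbig b (pa x) + F.φ (pc x) b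
  have hadd : ∀ x y, f₀ (x + y) = f₀ x + f₀ y := by
    intro x y
    obtain ⟨h1, h2⟩ := huniq (x + y) (pa x + pa y) (pc x + pc y) ((S.D _).add_mem (hpa x) (hpa y))
      (F.C.add_mem (hpc x) (hpc y)) (by
        calc pa x + pa y + (pc x + pc y) = (pa x + pc x) + (pa y + pc y) := by abel
          _ = x + y := by rw [hp, hp])
    have hm : F.mul hbig b (pa x + pa y) = F.mul hbig b (pa x) + F.mul hbig b (pa y) :=
      congrArg Subtype.val ((F.ring hbig).left_distrib ⟨b, hb⟩ ⟨pa x, hpa x⟩ ⟨pa y, hpa y⟩)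
    simp only [f₀]
    rw [h1, h2, hm, F.φ_add_left hbig (hpc x) (hpc y) hb]
    abel
  let f : U →ₗ[ZMod 2] U := (AddMonoidHom.mk' f₀ hadd).toZModLinearMap 2
  have hone : F.mul hbig b F.u₀ = b := congrArg Subtype.val ((F.ring hbig).mul_one ⟨b, hb⟩)
  have hA : ∀ a ∈ S.D F.u₀, f a = F.mul hbig b a := by
    intro a ha
    obtain ⟨h1, h2⟩ := huniq a a 0 ha F.C.zero_mem (add_zero a)
    show f₀ a = _
    simp only [f₀]
    rw [h1, h2, F.φ_zero_left hb, add_zero]
  refine ⟨f, fun x => ?_, (hA _ (S.mem_self _)).trans hone, hA⟩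
  obtain ⟨h1, h2⟩ := huniq x (pa x) (pc x) (hpa x) (hpc x) (hp x)
  show F.mul hbig b (pa x) + F.φ (pc x) b ∈ S.D x
  by_cases hc : pc x = 0
  · have hxa : x = pa x := by conv_lhs => rw [← hp x, hc, add_zero]
    rw [hc, F.φ_zero_left hb, add_zero]
    by_cases hx0 : x = 0
    · rw [← hxa, hx0]
      rw [show F.mul hbig b 0 = 0 from congrArg Subtype.val ((F.ring hbig).mul_zero ⟨b, hb⟩)]
      exact Submodule.zero_mem _
    · rw [F.hC F.u₀ x F.ne_zero hx0 (hxa ▸ hpa x)]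
      exact (F.mul_spec hbig hb (hpa x)).1
  by_cases ha : pa x = 0
  · have hxc : x = pc x := by conv_lhs => rw [← hp x, ha, zero_add]
    rw [ha, show F.mul hbig b 0 = 0 from congrArg Subtype.val ((F.ring hbig).mul_zero ⟨b, hb⟩), zero_add]
    have hD : S.D x = S.D (pc x) := congrArg S.D hxc
    rw [hD]
    exact F.φ_mem (hpc x) hc hb
  · have hxC : x ∉ F.C := hp x ▸ F.add_notMem (hpa x) ha (hpc x)
    obtain ⟨y, ⟨hy, hym⟩, -⟩ := F.exists_over hxC (S.mem_self F.u₀)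
    have hx0 : x ≠ 0 := fun e => hxC (e ▸ F.C.zero_mem)
    have hs : F.u₀ + y ≠ 0 := fun e => F.add_notMem (S.mem_self _) F.ne_zero hy (e ▸ F.C.zero_mem)
    have hD : S.D (F.u₀ + y) = S.D x := F.hC x _ hx0 hs hym
    have hyc : F.φ y (pa x) = pc x := F.φ_eq hy (hpa x) (hpc x) (by rw [hD, hp x]; exact S.mem_self x)
    rw [← hyc, (F.mul_spec hbig (hpa x) hb).2 y hy, F.mul_comm' hbig (hpa x) hb, ← hD]
    exact (F.φ_spec hy (F.mul_spec hbig hb (hpa x)).1).2

omit hbig in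
theorem eq_zero_of_blocks {h : U →ₗ[ZMod 2] U} (hh : ∀ x, h x ∈ S.D x) (h0 : h F.u₀ = 0) : h = 0 := by
  have hout : ∀ x, x ∉ S.D F.u₀ → h x = 0 := by
    intro x hx
    have hx0 : x ≠ 0 := fun e => hx (e ▸ Submodule.zero_mem _)
    have hs0 : x + F.u₀ ≠ 0 := fun e => hx (by
      rw [(eq_neg_of_add_eq_zero_left e : x = -F.u₀)]; exact (S.D _).neg_mem (S.mem_self _))
    by_contra hne
    have h1 := hh (x + F.u₀)
    rw [map_add, h0, add_zero] at h1
    have hD := F.hC.eq_of_mem hx0 hs0 hne (hh x) h1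
    have h2 : F.u₀ ∈ S.D x := by
      simpa using (S.D x).sub_mem (hD ▸ S.mem_self (x + F.u₀) : x + F.u₀ ∈ S.D x) (S.mem_self x)
    exact hx (F.hC x F.u₀ hx0 F.ne_zero h2 ▸ S.mem_self x)
  refine LinearMap.ext fun x => ?_
  by_cases hx : x ∈ S.D F.u₀
  · obtain ⟨c, hc⟩ : ∃ c, c ∉ S.D F.u₀ := by
      by_contra hno
      push Not at hno
      have := Submodule.finrank_mono (show (⊤ : Submodule (ZMod 2) U) ≤ S.D F.u₀ from fun z _ => hno z)
      rw [finrank_top, S.finrank_D _ F.ne_zero] at this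
      have := S.proper
      omega
    have := hout (x + c) (fun hh' => hc (by simpa using (S.D _).sub_mem hh' hx))
    rw [map_add, hout c hc, add_zero] at this
    simpa using this
  · simpa using hout x hx

theorem stab_mul {g : U ≃ₗ[ZMod 2] U} (hg : g ∈ G) (hgu : g F.u₀ = F.u₀) {b a : U}
    (hb : b ∈ S.D F.u₀) (ha : a ∈ S.D F.u₀) :
    g (F.mul hbig b a) = F.mul hbig (g b) (g a) := by
  have hgm : ∀ z, z ∈ S.D F.u₀ → g z ∈ S.D F.u₀ := fun z hz => by
    rw [← hgu, S.map_D g hg]; exact Submodule.mem_map_of_mem hz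
  obtain ⟨f, hf, hfu, hfa⟩ := F.exists_scalar hbig hb
  obtain ⟨f', hf', hfu', hfa'⟩ := F.exists_scalar hbig (hgm b hb)
  have hdiff := F.eq_zero_of_blocks
    (h := (g : U →ₗ[ZMod 2] U) ∘ₗ f ∘ₗ (g.symm : U →ₗ[ZMod 2] U) - f') (fun x => by
      refine (S.D x).sub_mem ?_ (hf' x)
      have : g (f (g.symm x)) ∈ S.D (g (g.symm x)) := by
        rw [S.map_D g hg]; exact Submodule.mem_map_of_mem (hf _)
      simpa using this) (by
      have : g.symm F.u₀ = F.u₀ := by rw [LinearEquiv.symm_apply_eq, hgu]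
      simp [this, hfu, hfu'])
  have := LinearMap.congr_fun hdiff (g a)
  simp only [LinearMap.sub_apply, LinearMap.coe_comp, LinearEquiv.coe_coe, Function.comp_apply,
    LinearEquiv.symm_apply_apply, LinearMap.zero_apply, sub_eq_zero] at this
  rw [hfa a ha, hfa' _ (hgm a ha)] at this
  exact this

theorem sq_eq {b : U} (hb : b ∈ S.D F.u₀) (hb0 : b ≠ 0) (hbu : b ≠ F.u₀) :
    F.mul hbig b b = b + F.u₀ := by
  classical
  haveI : Fintype U := Fintype.ofFinite U
  letI := F.ring hbig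
  let P : U → U := fun x => F.mul hbig x x + x
  have hPmem : ∀ x ∈ S.D F.u₀, P x ∈ S.D F.u₀ := fun x hx =>
    (S.D _).add_mem (F.mul_spec hbig hx hx).1 hx
  let T : Finset U := (Finset.univ : Finset U).filter (fun x => x ∈ S.D F.u₀ ∧ x ≠ 0 ∧ x ≠ F.u₀)
  have hT : ∀ x, x ∈ T ↔ x ∈ S.D F.u₀ ∧ x ≠ 0 ∧ x ≠ F.u₀ := fun x => by simp [T]
  have hPshift : ∀ x ∈ S.D F.u₀, P (x + F.u₀) = P x := by
    intro x hx
    let X : S.D F.u₀ := ⟨x, hx⟩
    have hX : (X + 1) * (X + 1) + (X + 1) = X * X + X := by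
      have h2 : ∀ z : S.D F.u₀, z + z = 0 := fun z => Subtype.ext (add_self (z : U))
      calc (X + 1) * (X + 1) + (X + 1) = X * X + X + ((X + X) + (1 + 1)) := by noncomm_ring
        _ = X * X + X := by rw [h2, h2, add_zero, add_zero]
    exact congrArg Subtype.val hX
  by_cases hPb : P b ∈ T
  · exfalso
    have hsub : T ⊆ T.image P := by
      intro v hv
      obtain ⟨hv1, hv2, hv3⟩ := (hT v).1 hv
      obtain ⟨hp1, hp2, hp3⟩ := (hT _).1 hPb
      obtain ⟨g, hg, hgu, hgv⟩ := S.trans_inner F.u₀ (P b) v ⟨F.ne_zero, hp2, Ne.symm hp3⟩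
        ⟨F.ne_zero, hv2, Ne.symm hv3⟩ hp1 hv1
      refine Finset.mem_image.2 ⟨g b, (hT _).2 ⟨?_, ?_, ?_⟩, ?_⟩
      · rw [← hgu, S.map_D g hg]; exact Submodule.mem_map_of_mem hb
      · exact fun e => hb0 (g.injective (e.trans (map_zero g).symm))
      · exact fun e => hbu (g.injective (e.trans hgu.symm))
      · simp only [P] at hgv ⊢
        rw [← F.stab_mul hbig hg hgu hb hb, ← map_add, hgv]
    have hcard : (T.image P).card = T.card := le_antisymm Finset.card_image_le (Finset.card_le_card hsub)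
    have hb' : b + F.u₀ ∈ T := (hT _).2 ⟨(S.D _).add_mem hb (S.mem_self _),
      fun e => hbu ((eq_neg_of_add_eq_zero_left e).trans (neg_eq_of_add_eq_zero_right (add_self _))),
      fun e => hb0 (by simpa using e)⟩
    have := Finset.injOn_of_card_image_eq hcard hb' ((hT b).2 ⟨hb, hb0, hbu⟩) (hPshift b hb)
    exact F.ne_zero (by simpa using this)
  · rw [hT] at hPb
    push Not at hPb
    by_cases h0 : P b = 0
    · exfalso
      let X : S.D F.u₀ := ⟨b, hb⟩
      have hX : X * (X + 1) = 0 := by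
        rw [mul_add, mul_one]; exact Subtype.ext h0
      rcases F.mul_eq_zero' hbig hb ((S.D _).add_mem hb (S.mem_self _)) (congrArg Subtype.val hX) with h | h
      · exact hb0 h
      · exact hbu ((eq_neg_of_add_eq_zero_left h).trans (neg_eq_of_add_eq_zero_right (add_self _)))
    · have h1 : F.mul hbig b b + b = F.u₀ := hPb (hPmem b hb) h0
      rw [← h1, add_comm b, add_assoc, add_self, add_zero]

theorem d_eq_two : S.d = 2 := by
  by_contra hne
  have hd : 3 ≤ S.d := by have := S.two_le; omega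
  obtain ⟨b, hi, hb⟩ := S.exists_adj F.ne_zero
  obtain ⟨c, hc, hcn⟩ : ∃ c ∈ S.D F.u₀, c ∉ Submodule.span (ZMod 2) ({F.u₀, b} : Set U) := by
    by_contra hno
    push Not at hno
    have := Submodule.finrank_mono
      (show S.D F.u₀ ≤ Submodule.span (ZMod 2) ({F.u₀, b} : Set U) from hno)
    rw [S.finrank_D _ F.ne_zero, finrank_pair hi] at this
    omega
  have hu' : F.u₀ ∈ Submodule.span (ZMod 2) ({F.u₀, b} : Set U) := Submodule.subset_span (Or.inl rfl)
  have hb' : b ∈ Submodule.span (ZMod 2) ({F.u₀, b} : Set U) := Submodule.subset_span (Or.inr rfl)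
  have hbc0 : b + c ≠ 0 := fun e => hcn (by
    rw [(eq_neg_of_add_eq_zero_right e : c = -b)]; exact Submodule.neg_mem _ hb')
  have hbcu : b + c ≠ F.u₀ := fun e => hcn (by
    have : c = F.u₀ - b := by rw [← e]; abel
    rw [this]; exact Submodule.sub_mem _ hu' hb')
  have e1 := F.sq_eq hbig hb hi.2.1 (Ne.symm hi.2.2)
  have e2 := F.sq_eq hbig hc (fun e => hcn (e ▸ Submodule.zero_mem _)) (fun e => hcn (e ▸ hu'))
  have e3 := F.sq_eq hbig ((S.D _).add_mem hb hc) hbc0 hbcu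
  letI := F.ring hbig
  let X : S.D F.u₀ := ⟨b, hb⟩
  let Y : S.D F.u₀ := ⟨c, hc⟩
  have hcomm : X * Y + Y * X = 0 := Subtype.ext (by
    show F.mul hbig b c + F.mul hbig c b = 0
    rw [F.mul_comm' hbig hb hc]; exact add_self _)
  have hexp : (X + Y) * (X + Y) = X * X + Y * Y := by
    calc (X + Y) * (X + Y) = X * X + Y * Y + (X * Y + Y * X) := by noncomm_ring
      _ = X * X + Y * Y := by rw [hcomm, add_zero]
  have h4 : F.mul hbig (b + c) (b + c) = F.mul hbig b b + F.mul hbig c c := congrArg Subtype.val hexp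
  rw [e1, e2, e3] at h4
  exact F.ne_zero (by
    calc F.u₀ = (b + c + F.u₀) - (b + c) := by abel
      _ = (b + F.u₀ + (c + F.u₀)) - (b + c) := by rw [h4]
      _ = F.u₀ + F.u₀ := by abel
      _ = 0 := add_self _)

end Frame

/-- In a spread, either two blocks fill the space or the blocks are lines of a field with four elements. -/
theorem DSys.caseC_dim (S : DSys G) (h : S.CaseC) :
    Module.finrank (ZMod 2) U = 2 * S.d ∨
      (S.d = 2 ∧ ∃ ω : U →ₗ[ZMod 2] U, ∀ u, ω (ω u) = ω u + u ∧ ω u ∈ S.D u) := by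
  obtain ⟨u₀, hu₀⟩ : ∃ u : U, u ≠ 0 := by
    by_contra hno
    push Not at hno
    haveI : Subsingleton U := ⟨fun a b => (hno a).trans (hno b).symm⟩
    have := S.proper
    rw [Module.finrank_zero_of_subsingleton] at this
    omega
  obtain ⟨C, hC1, hC2, hC3⟩ := h.exists_complement hu₀
  let F : Frame S := ⟨u₀, C, h, hu₀, hC1, hC2, hC3⟩
  have hfr := F.finrank_eq
  obtain ⟨y, hy, hy0⟩ : ∃ y ∈ C, y ≠ 0 := Submodule.exists_mem_ne_zero_of_ne_bot fun e => by
    have := S.proper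
    have : Module.finrank (ZMod 2) F.C = 0 := by show Module.finrank (ZMod 2) C = 0; rw [e, finrank_bot]
    omega
  have hle := Submodule.finrank_mono (show S.D y ≤ C from hC1 y hy hy0)
  rw [S.finrank_D y hy0] at hle
  change Module.finrank (ZMod 2) U = S.d + Module.finrank (ZMod 2) C at hfr
  rcases hle.eq_or_lt with heq | hlt
  · left; omega
  · right
    have hbig : S.d < Module.finrank (ZMod 2) F.C := hlt
    refine ⟨F.d_eq_two hbig, ?_⟩
    obtain ⟨b, hi, hb⟩ := S.exists_adj hu₀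
    obtain ⟨f, hf, hfu, hfa⟩ := F.exists_scalar hbig (b := b) hb
    refine ⟨f, fun u => ⟨?_, hf u⟩⟩
    have hdiff := F.eq_zero_of_blocks (h := f ∘ₗ f - (f + LinearMap.id)) (fun x => by
        refine (S.D x).sub_mem ?_ ((S.D x).add_mem (hf x) (S.mem_self x))
        show f (f x) ∈ S.D x
        by_cases hx0 : x = 0
        · subst hx0; simp
        by_cases hfx : f x = 0
        · rw [hfx, map_zero]; exact Submodule.zero_mem _
        · rw [← h x (f x) hx0 hfx (hf x)]; exact hf _) (by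
        show f (f F.u₀) - (f F.u₀ + F.u₀) = 0
        rw [hfu, hfa b hb, F.sq_eq hbig hb hi.2.1 (Ne.symm hi.2.2), sub_self])
    have := LinearMap.congr_fun hdiff u
    simpa [sub_eq_zero] using this

end Cfsg.Agent.Grp.Antiflag
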