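import Cfsg.Agent.Lib.Grp.Antiflag.Count
import Mathlib.LinearAlgebra.Matrix.Charpoly.Coeff

/-!
# The three configurations of a reducible antiflag transitive group

Every `DSys` is a spread (`CaseC`), has symplectic components (`CaseA`) or is exceptional with `d = 3`
(`CaseB`).  In the last case the pentagons are excluded by a graph on 31 points, mod 5.
-/

set_option autoImplicit false

namespace Cfsg.Agent.Grp.Antiflag

variable {U : Type*} [AddCommGroup U] [Module (ZMod 2) U] {G : Subgroup (U ≃ₗ[ZMod 2] U)}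

theorem neg_thirty_one_ne : -((31 : ℕ) : ZMod 5) ≠ 0 := by decide

/-- Elements outside a hyperplane `L` of `W` differ by `L`. -/
theorem sub_mem_of_corank_one [Finite U] {L W : Submodule (ZMod 2) U} (h : L ≤ W)
    (hr : Module.finrank (ZMod 2) W = Module.finrank (ZMod 2) L + 1) {x y : U} (hx : x ∈ W) (hy : y ∈ W)
    (hxL : x ∉ L) (hyL : y ∉ L) : x - y ∈ L := by
  have hle : L ⊔ Submodule.span (ZMod 2) {y} ≤ W := sup_le h ((Submodule.span_singleton_le_iff_mem y W).2 hy)
  have hlt : L < L ⊔ Submodule.span (ZMod 2) {y} := lt_of_le_not_ge le_sup_left fun hh =>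
    hyL (hh (Submodule.mem_sup_right (Submodule.mem_span_singleton_self y)))
  have := Submodule.finrank_lt_finrank_of_lt hlt
  have heq := Submodule.eq_of_le_of_finrank_le hle (by omega)
  rw [← heq] at hx
  obtain ⟨l, hl, s, hs, rfl⟩ := Submodule.mem_sup.1 hx
  rcases mem_span_single hs with rfl | rfl
  · exact absurd (by simpa using hl) hxL
  · simpa using hl

namespace DSys

variable (S : DSys G)

theorem two_map {g : U ≃ₗ[ZMod 2] U} (hg : g ∈ G) {u z : U} (h : Two S.D u z) : Two S.D (g u) (g z) := by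
  obtain ⟨hzu, w, hw, hwu, hwz⟩ := h
  refine ⟨fun hh => hzu ?_, g w, fun e => hw (g.injective (e.trans (map_zero g).symm)), ?_, ?_⟩
  · rw [S.map_D g hg] at hh
    obtain ⟨x, hx, hxe⟩ := Submodule.mem_map.1 hh
    rwa [← g.injective hxe]
  · rw [S.map_D g hg]; exact Submodule.mem_map_of_mem hwu
  · rw [S.map_D g hg]; exact Submodule.mem_map_of_mem hwz

theorem two_ne_zero {u z : U} (h : Two S.D u z) : z ≠ 0 := fun e => h.1 (e ▸ S.zero_mem u)

variable [Finite U]

theorem caseA_of (hadj : ∀ u w : U, Indep2 u w → w ∈ S.D u → S.e u w + 1 = S.d) (hd : 3 ≤ S.d)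
    (z₀ : ∀ u : U, u ≠ 0 → U)
    (hz₀ : ∀ u (hu : u ≠ 0), Two S.D u (z₀ u hu) ∧
      ∀ z, Two S.D u z → z - z₀ u hu ∈ S.D u ∧ S.e u z + 1 = S.d) : S.CaseA := by
  classical
  let Z : U → Submodule (ZMod 2) U := fun u =>
    if hu : u ≠ 0 then S.D u ⊔ Submodule.span (ZMod 2) {z₀ u hu} else ⊥
  have hZ : ∀ u (hu : u ≠ 0), Z u = S.D u ⊔ Submodule.span (ZMod 2) {z₀ u hu} := fun u hu => dif_pos hu
  have hmem : ∀ u, u ≠ 0 → ∀ z, z ∈ Z u ↔ z ∈ S.D u ∨ Two S.D u z := by
    intro u hu z
    rw [hZ u hu, Submodule.mem_sup]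
    constructor
    · rintro ⟨x, hx, s, hs, rfl⟩
      rcases mem_span_single hs with rfl | rfl
      · exact Or.inl (by simpa using hx)
      · right
        obtain ⟨h1, h2⟩ := (S.two_iff).1 (hz₀ u hu).1
        refine (S.two_iff).2 ⟨fun h => h1 (by simpa using (S.D u).sub_mem h hx), ?_⟩
        rw [add_comm, S.e_coset hu h1 hx]; exact h2
    · rintro (h | h)
      · exact ⟨z, h, 0, Submodule.zero_mem _, add_zero z⟩
      · exact ⟨z - z₀ u hu, ((hz₀ u hu).2 z h).1, _, Submodule.mem_span_singleton_self _, sub_add_cancel _ _⟩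
  have hrank : ∀ u, u ≠ 0 → Module.finrank (ZMod 2) (Z u) = S.d + 1 := by
    intro u hu
    rw [hZ u hu]
    have hlt : S.D u < S.D u ⊔ Submodule.span (ZMod 2) {z₀ u hu} := lt_of_le_not_ge le_sup_left
      fun h => (hz₀ u hu).1.1 (h (Submodule.mem_sup_right (Submodule.mem_span_singleton_self _)))
    have h1 := Submodule.finrank_lt_finrank_of_lt hlt
    have h2 := Submodule.finrank_add_le_finrank_add_finrank (S.D u) (Submodule.span (ZMod 2) {z₀ u hu})
    rw [finrank_span_singleton (S.two_ne_zero (hz₀ u hu).1), S.finrank_D u hu] at h2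
    rw [S.finrank_D u hu] at h1
    omega
  have hclosed : ∀ u, u ≠ 0 → ∀ x ∈ Z u, x ≠ 0 → S.D x ≤ Z u := by
    intro u hu x hx hx0
    rcases (hmem u hu x).1 hx with hxu | hxu
    · intro y hy
      by_cases hyu : y ∈ S.D u
      · exact (hmem u hu y).2 (Or.inl hyu)
      · refine (hmem u hu y).2 (Or.inr ⟨hyu, x, hx0, hxu, ?_⟩)
        exact S.symm x y hx0 (fun e => hyu (e ▸ S.zero_mem u)) hy
    · have he := ((hz₀ u hu).2 x hxu).2
      have hle : (S.D u ⊓ S.D x) ⊔ Submodule.span (ZMod 2) {x} ≤ S.D x :=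
        sup_le inf_le_right ((Submodule.span_singleton_le_iff_mem x _).2 (S.mem_self x))
      have hlt : S.D u ⊓ S.D x < (S.D u ⊓ S.D x) ⊔ Submodule.span (ZMod 2) {x} :=
        lt_of_le_not_ge le_sup_left fun h =>
          hxu.1 (inf_le_left (b := S.D x) (h (Submodule.mem_sup_right (Submodule.mem_span_singleton_self x))))
      have h1 := Submodule.finrank_lt_finrank_of_lt hlt
      have heq := Submodule.eq_of_le_of_finrank_le hle (by
        rw [S.finrank_D x hx0]; unfold e at he; omega)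
      rw [← heq]
      refine sup_le (inf_le_left.trans fun y hy => (hmem u hu y).2 (Or.inl hy)) ?_
      exact (Submodule.span_singleton_le_iff_mem x _).2 hx
  refine ⟨hd, Z, fun u hu => ⟨hrank u hu, hmem u hu, fun x hx hx0 => ?_⟩⟩
  refine Submodule.eq_of_le_of_finrank_le (fun y hy => ?_) (by rw [hrank u hu, hrank x hx0])
  rcases (hmem x hx0 y).1 hy with h | ⟨hyx, w, hw, hwx, hwy⟩
  · exact hclosed u hu x hx hx0 h
  · have hy0 : y ≠ 0 := fun e => hyx (e ▸ S.zero_mem x)
    exact hclosed u hu w (hclosed u hu x hx hx0 hwx) hw (S.symm y w hy0 hw hwy)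

section CaseB

variable (hadj : ∀ u w : U, Indep2 u w → w ∈ S.D u → S.e u w + 1 = S.d) (hd : S.d = 3)
include hadj hd

theorem inter_eq {u w : U} (h : Indep2 u w) (hw : w ∈ S.D u) :
    S.D u ⊓ S.D w = Submodule.span (ZMod 2) ({u, w} : Set U) := by
  symm
  refine Submodule.eq_of_le_of_finrank_le (Submodule.span_le.2 ?_) ?_
  · intro x hx
    rcases hx with rfl | rfl
    · exact ⟨S.mem_self x, S.symm x w h.1 h.2.1 hw⟩
    · exact ⟨hw, S.mem_self _⟩
  · have := hadj u w h hw
    unfold e at this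
    rw [finrank_pair h]; omega

theorem third_mem {u w z : U} (h : Indep2 u w) (hw : w ∈ S.D u) (hz : z ∈ S.D u ⊔ S.D w)
    (hzu : z ∉ S.D u) (hzw : z ∉ S.D w) : z ∈ S.D (u + w) := by
  have hI := S.inter_eq hadj hd h hw
  have hs0 : u + w ≠ 0 := fun e =>
    h.2.2 ((eq_neg_of_add_eq_zero_left e).trans (neg_eq_of_add_eq_zero_right (add_self w)))
  have hsu : u + w ∈ S.D u := (S.D u).add_mem (S.mem_self u) hw
  have hsw : u + w ∈ S.D w := (S.D w).add_mem (S.symm u w h.1 h.2.1 hw) (S.mem_self w)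
  have hius : Indep2 u (u + w) := ⟨h.1, hs0, fun e => h.2.1 (by simpa using e)⟩
  have hiws : Indep2 w (u + w) := ⟨h.2.1, hs0, fun e => h.1 (by simpa using e)⟩
  have hIu := S.inter_eq hadj hd hius hsu
  have hIw := S.inter_eq hadj hd hiws hsw
  have hs' : u + w ∈ Submodule.span (ZMod 2) ({u, w} : Set U) :=
    Submodule.add_mem _ (Submodule.subset_span (Or.inl rfl)) (Submodule.subset_span (Or.inr rfl))
  have hL : Submodule.span (ZMod 2) ({u, w} : Set U) ≤ S.D (u + w) := by
    refine Submodule.span_le.2 fun x hx => ?_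
    rcases hx with rfl | rfl
    · exact S.symm x (x + w) h.1 hs0 hsu
    · exact S.symm _ (u + x) h.2.1 hs0 hsw
  obtain ⟨c, hc, hcu⟩ : ∃ c, c ∈ S.D (u + w) ∧ c ∉ S.D u := by
    by_contra hno
    push Not at hno
    have : S.D u ⊓ S.D (u + w) = S.D (u + w) := inf_eq_right.2 hno
    have e1 := hadj u (u + w) hius hsu
    unfold e at e1
    rw [this, S.finrank_D _ hs0] at e1
    omega
  have hcw : c ∉ S.D w := fun hh => hcu (by
    have : c ∈ S.D w ⊓ S.D (u + w) := ⟨hh, hc⟩
    rw [hIw] at this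
    refine (Submodule.span_le.2 ?_ : _ ≤ S.D u) this
    intro x hx
    rcases hx with rfl | rfl
    · exact hw
    · exact hsu)
  have hcY : c ∈ S.D u ⊔ S.D w := S.add_le u w h hc
  obtain ⟨a, ha, b, hb, rfl⟩ := Submodule.mem_sup.1 hz
  obtain ⟨a', ha', b', hb', rfl⟩ := Submodule.mem_sup.1 hcY
  have hr1 : Module.finrank (ZMod 2) (S.D u) =
      Module.finrank (ZMod 2) (Submodule.span (ZMod 2) ({u, w} : Set U)) + 1 := by
    rw [S.finrank_D u h.1, finrank_pair h, hd]
  have hr2 : Module.finrank (ZMod 2) (S.D w) =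
      Module.finrank (ZMod 2) (Submodule.span (ZMod 2) ({u, w} : Set U)) + 1 := by
    rw [S.finrank_D w h.2.1, finrank_pair h, hd]
  have hLu : Submodule.span (ZMod 2) ({u, w} : Set U) ≤ S.D u := hI ▸ inf_le_left
  have hLw : Submodule.span (ZMod 2) ({u, w} : Set U) ≤ S.D w := hI ▸ inf_le_right
  have d1 := sub_mem_of_corank_one hLu hr1 ha ha'
    (fun hh => hzw ((S.D w).add_mem (hLw hh) hb)) (fun hh => hcw ((S.D w).add_mem (hLw hh) hb'))
  have d2 := sub_mem_of_corank_one hLw hr2 hb hb'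
    (fun hh => hzu ((S.D u).add_mem ha (hLu hh))) (fun hh => hcu ((S.D u).add_mem ha' (hLu hh)))
  have : a + b = (a - a') + (b - b') + (a' + b') := by abel
  rw [this]
  exact (S.D _).add_mem (hL (Submodule.add_mem _ d1 d2)) hc

variable (hone : ∀ u z : U, u ≠ 0 → Two S.D u z → S.e u z = 1)
  (hthree : ∀ u : U, u ≠ 0 → ∃ Q : Finset U, Q.card = 3 ∧ (∀ z ∈ Q, Two S.D u z) ∧
    ∀ z ∈ Q, ∀ z' ∈ Q, z - z' ∈ S.D u → z = z')
include hone hthree

theorem exists_ball {u : U} (hu : u ≠ 0) : ∃ W : Submodule (ZMod 2) U,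
    Module.finrank (ZMod 2) W = 5 ∧ ∀ z, z ∈ W ↔ z ∈ S.D u ∨ Two S.D u z := by
  classical
  haveI : Fintype U := Fintype.ofFinite U
  obtain ⟨w₁, hi₁, hw₁⟩ := S.exists_adj hu
  obtain ⟨w₂, hw₂, hw₂n⟩ : ∃ w₂ ∈ S.D u, w₂ ∉ Submodule.span (ZMod 2) ({u, w₁} : Set U) := by
    by_contra hno
    push Not at hno
    have := Submodule.finrank_mono (show S.D u ≤ Submodule.span (ZMod 2) ({u, w₁} : Set U) from hno)
    rw [S.finrank_D u hu, finrank_pair hi₁] at this
    omega
  have hi₂ : Indep2 u w₂ := ⟨hu, fun e => hw₂n (e ▸ Submodule.zero_mem _),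
    fun e => hw₂n (e ▸ Submodule.subset_span (Or.inl rfl))⟩
  let W : Submodule (ZMod 2) U := S.D u ⊔ S.D w₁ ⊔ S.D w₂
  have hspan : S.D u ≤ Submodule.span (ZMod 2) ({u, w₁, w₂} : Set U) := by
    intro x hx
    have hle : Submodule.span (ZMod 2) ({u, w₁} : Set U) ≤ S.D u :=
      Submodule.span_le.2 fun y hy => by
        rcases hy with rfl | rfl
        · exact S.mem_self y
        · exact hw₁
    have hsub : Submodule.span (ZMod 2) ({u, w₁} : Set U) ≤ Submodule.span (ZMod 2) ({u, w₁, w₂} : Set U) :=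
      Submodule.span_mono (by intro y hy; rcases hy with rfl | rfl <;> simp)
    by_cases hxL : x ∈ Submodule.span (ZMod 2) ({u, w₁} : Set U)
    · exact hsub hxL
    · have := sub_mem_of_corank_one hle (by rw [S.finrank_D u hu, finrank_pair hi₁, hd]) hx hw₂ hxL hw₂n
      rw [← sub_add_cancel x w₂]
      exact Submodule.add_mem _ (hsub this) (Submodule.subset_span (by simp))
  have hDW : ∀ x ∈ S.D u, x ≠ 0 → S.D x ≤ W := fun x hx hx0 =>
    S.D_le_of_mem (s := ({u, w₁, w₂} : Set U)) (fun y hy _ => by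
      rcases hy with rfl | rfl | rfl
      · exact le_sup_left.trans le_sup_left
      · exact le_sup_right.trans le_sup_left
      · exact le_sup_right) (hspan hx) hx0
  have hWle : Module.finrank (ZMod 2) W ≤ 5 := by
    have e1 := Submodule.finrank_sup_add_finrank_inf_eq (S.D u) (S.D w₁)
    have e2 := Submodule.finrank_sup_add_finrank_inf_eq (S.D u ⊔ S.D w₁) (S.D w₂)
    have e3 : 2 ≤ Module.finrank (ZMod 2) ((S.D u ⊔ S.D w₁) ⊓ S.D w₂ : Submodule (ZMod 2) U) :=
      le_trans (S.e_self hi₂ hw₂) (Submodule.finrank_mono (inf_le_inf_right _ le_sup_left))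
    have e4 := S.e_self hi₁ hw₁
    have := S.finrank_D u hu
    have := S.finrank_D w₁ hi₁.2.1
    have := S.finrank_D w₂ hi₂.2.1
    unfold e at e4
    show Module.finrank (ZMod 2) (S.D u ⊔ S.D w₁ ⊔ S.D w₂ : Submodule (ZMod 2) U) ≤ 5
    omega
  have hball : ∀ z, z ∈ S.D u ∨ Two S.D u z → z ∈ W := by
    rintro z (hz | ⟨hzu, a, ha, hau, haz⟩)
    · exact le_sup_left.trans le_sup_left (a := S.D u) hz
    · exact hDW a hau ha (S.symm z a (fun e => hzu (e ▸ S.zero_mem u)) ha haz)
  obtain ⟨Q, hQ3, hQT, hQinj⟩ := hthree u hu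
  let B : Finset U := (Finset.univ : Finset U).filter (fun z => z ∈ S.D u)
  let T : Finset U := (Finset.univ : Finset U).filter (fun z => z ∈ S.D u ∨ Two S.D u z)
  let F : Finset U := (Finset.univ : Finset U).filter (fun z => z ∈ W)
  have hTF : T ⊆ F := fun z hz => by simpa [F] using hball z (Finset.mem_filter.1 hz).2
  have hB : B.card = 8 := by
    rw [card_finset_submod (S.D u) B (fun x => by simp [B]), S.finrank_D u hu, hd]; rfl
  have h24 : 32 ≤ T.card := by
    let f : U × U → U := fun q => q.1 + q.2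
    have hinj : Set.InjOn f (((insert (0 : U) Q) ×ˢ B : Finset (U × U)) : Set (U × U)) := by
      rintro ⟨q, b⟩ hq ⟨q', b'⟩ hq' he
      simp only [Finset.coe_product, Set.mem_prod, Finset.mem_coe, Finset.mem_insert, B,
        Finset.mem_filter, Finset.mem_univ, true_and] at hq hq'
      simp only [f] at he
      have hd' : q - q' ∈ S.D u := by
        have : q - q' = b' - b := by rw [sub_eq_sub_iff_add_eq_add, he, add_comm]
        rw [this]; exact (S.D u).sub_mem hq'.2 hq.2
      have : q = q' := by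
        rcases hq.1 with rfl | hqQ <;> rcases hq'.1 with rfl | hqQ'
        · rfl
        · exact absurd (by simpa using hd') (hQT q' hqQ').1
        · exact absurd (by simpa using hd') (hQT q hqQ).1
        · exact hQinj q hqQ q' hqQ' hd'
      subst this
      simp only [add_right_inj] at he
      rw [he]
    have hsub : ((insert (0 : U) Q) ×ˢ B).image f ⊆ T := by
      intro x hx
      simp only [Finset.mem_image, Finset.mem_product, Finset.mem_insert, B, Finset.mem_filter,
        Finset.mem_univ, true_and, f] at hx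
      obtain ⟨⟨q, b⟩, ⟨hq, hb⟩, rfl⟩ := hx
      simp only [T, Finset.mem_filter, Finset.mem_univ, true_and]
      rcases hq with rfl | hq
      · exact Or.inl (by simpa using hb)
      · right
        obtain ⟨h1, h2⟩ := (S.two_iff).1 (hQT q hq)
        refine (S.two_iff).2 ⟨fun h => h1 (by simpa using (S.D u).sub_mem h hb), ?_⟩
        rw [S.e_coset hu h1 hb]; exact h2
    have := Finset.card_le_card hsub
    rw [Finset.card_image_of_injOn hinj, Finset.card_product, hB,
      Finset.card_insert_of_notMem (fun h => (hQT 0 h).1 (S.zero_mem u)), hQ3] at this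
    exact this
  have hF : F.card = 2 ^ Module.finrank (ZMod 2) W := card_finset_submod W F (fun x => by simp [F])
  have hFle : F.card ≤ 32 := hF ▸ (Nat.pow_le_pow_right (by omega) hWle).trans (le_of_eq rfl)
  have heq : T = F := Finset.eq_of_subset_of_card_le hTF (by omega)
  refine ⟨W, ?_, fun z => ?_⟩
  · have h5 : (2 : ℕ) ^ Module.finrank (ZMod 2) W = 2 ^ 5 := by
      have := Finset.card_le_card hTF
      rw [← hF]
      omega
    exact Nat.pow_right_injective le_rfl h5
  · have : z ∈ F ↔ z ∈ T := by rw [heq]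
    simpa [F, T] using this

theorem ball_ne {u w : U} (h : Indep2 u w) (hw : w ∈ S.D u) :
    ∃ z, ¬ ((z ∈ S.D u ∨ Two S.D u z) ↔ (z ∈ S.D w ∨ Two S.D w z)) := by
  classical
  by_contra hall
  push Not at hall
  haveI : Fintype U := Fintype.ofFinite U
  have hB : ∀ x y : U, Indep2 x y → y ∈ S.D x → ∀ z,
      (z ∈ S.D x ∨ Two S.D x z) ↔ (z ∈ S.D y ∨ Two S.D y z) := by
    intro x y hxy hy
    obtain ⟨g, hg, hgu⟩ := S.trans u x h.1 hxy.1
    have hgw : g w ∈ S.D x := by
      rw [← hgu, S.map_D g hg]; exact Submodule.mem_map_of_mem hw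
    have hi : Indep2 x (g w) := ⟨hxy.1, fun e => h.2.1 (g.injective (e.trans (map_zero g).symm)),
      fun e => h.2.2 (g.injective (hgu.trans e))⟩
    obtain ⟨k, hk, hkx, hky⟩ := S.trans_inner x (g w) y hi hxy hgw hy
    have hm : k * g ∈ G := G.mul_mem hk hg
    have e1 : (k * g) u = x := by rw [LinearEquiv.mul_apply, hgu, hkx]
    have e2 : (k * g) w = y := by rw [LinearEquiv.mul_apply, hky]
    have key : ∀ a z, (z ∈ S.D a ∨ Two S.D a z) → ∀ g' ∈ G,
        (g' z ∈ S.D (g' a) ∨ Two S.D (g' a) (g' z)) := by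
      rintro a z (ha | ha) g' hg'
      · exact Or.inl (by rw [S.map_D g' hg']; exact Submodule.mem_map_of_mem ha)
      · exact Or.inr (S.two_map hg' ha)
    intro z
    constructor
    · intro hz
      have h1 := key _ _ hz (k * g)⁻¹ (G.inv_mem hm)
      have ex : (k * g)⁻¹ x = u := by rw [← e1]; exact (k * g).symm_apply_apply u
      rw [ex] at h1
      have h2 := key _ _ ((hall _).1 h1) (k * g) hm
      rwa [e2, show (k * g) ((k * g)⁻¹ z) = z from (k * g).apply_symm_apply z] at h2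
    · intro hz
      have h1 := key _ _ hz (k * g)⁻¹ (G.inv_mem hm)
      have ey : (k * g)⁻¹ y = w := by rw [← e2]; exact (k * g).symm_apply_apply w
      rw [ey] at h1
      have h2 := key _ _ ((hall _).2 h1) (k * g) hm
      rwa [e1, show (k * g) ((k * g)⁻¹ z) = z from (k * g).apply_symm_apply z] at h2
  obtain ⟨K, hK5, hK⟩ := S.exists_ball hadj hd hone hthree h.1
  have hconst : ∀ x ∈ K, x ≠ 0 → ∀ z, z ∈ K ↔ (z ∈ S.D x ∨ Two S.D x z) := by
    intro x hx hx0 z
    rw [hK]
    by_cases hxu : x = u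
    · subst hxu; rfl
    rcases (hK x).1 hx with hxD | ⟨hxD, a, ha, hau, hax⟩
    · exact hB u x ⟨h.1, hx0, fun e => hxu e.symm⟩ hxD z
    · have hia : Indep2 u a := ⟨h.1, ha, fun e => hxD (S.symm x u hx0 h.1 (e ▸ hax))⟩
      have hax' : x ∈ S.D a := S.symm x a hx0 ha hax
      have hib : Indep2 a x := ⟨ha, hx0, fun e => hxD (e ▸ hau)⟩
      exact (hB u a hia hau z).trans (hB a x hib hax' z)
  let ι := {x : U // x ∈ K ∧ x ≠ 0}
  let M : Matrix ι ι (ZMod 5) :=
    Matrix.of fun x y => if (y : U) ∈ S.D x ∧ (y : U) ≠ x then 1 else 0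
  let J : Matrix ι ι (ZMod 5) := Matrix.of fun _ _ => 1
  have hDK : ∀ x : ι, ∀ y, y ∈ S.D (x : U) → y ∈ K := fun x y hy =>
    (hconst x x.2.1 x.2.2 y).2 (Or.inl hy)
  have hcount : ∀ (x : U) (A : Finset ι) (W : Submodule (ZMod 2) U) (E : Finset U),
      (∀ z, z ∈ W → z ∈ K) → (∀ z : ι, z ∈ A ↔ (z : U) ∈ W ∧ (z : U) ∉ E) → 0 ∈ E → (∀ e ∈ E, e ∈ W) →
      A.card = 2 ^ Module.finrank (ZMod 2) W - E.card := by
    intro x A W E hWK hA h0 hE
    let F : Finset U := (Finset.univ : Finset U).filter (fun z => z ∈ W)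
    have : A.map (Function.Embedding.subtype _) = F \ E := by
      ext z
      simp only [Finset.mem_map, Function.Embedding.coe_subtype, Finset.mem_sdiff, F, Finset.mem_filter,
        Finset.mem_univ, true_and]
      constructor
      · rintro ⟨z', hz', rfl⟩; exact (hA z').1 hz'
      · rintro ⟨hzW, hzE⟩
        exact ⟨⟨z, hWK z hzW, fun e => hzE (e ▸ h0)⟩, (hA _).2 ⟨hzW, hzE⟩, rfl⟩
    rw [← Finset.card_map (Function.Embedding.subtype _), this,
      Finset.card_sdiff_of_subset (fun e he => by simpa [F] using hE e he),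
      card_finset_submod W F (fun x => by simp [F])]
  have hrow : ∀ x : ι, ((Finset.univ : Finset ι).filter (fun y : ι => (y : U) ∈ S.D x ∧ (y : U) ≠ x)).card = 6 := by
    intro x
    rw [hcount x _ (S.D x) {0, (x : U)} (fun z hz => hDK x z hz)
      (fun z => by simp [z.2.2]) (by simp) (by simp [S.mem_self]),
      S.finrank_D _ x.2.2, hd, Finset.card_pair x.2.2.symm]
    rfl
  have hMM : M * M = J := by
    ext x y
    simp only [Matrix.mul_apply, M, J, Matrix.of_apply, ite_mul, one_mul, zero_mul, ← ite_and,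
      Finset.sum_boole]
    have hsymm : ∀ z : ι, ((y : U) ∈ S.D z ↔ (z : U) ∈ S.D y) := fun z =>
      ⟨fun hh => S.symm z y z.2.2 y.2.2 hh, fun hh => S.symm y z y.2.2 z.2.2 hh⟩
    by_cases hxy : x = y
    · subst hxy
      rw [show ((Finset.univ : Finset ι).filter
          (fun z : ι => ((z : U) ∈ S.D x ∧ (z : U) ≠ x) ∧ (x : U) ∈ S.D z ∧ (x : U) ≠ z)) =
          (Finset.univ : Finset ι).filter (fun z : ι => (z : U) ∈ S.D x ∧ (z : U) ≠ x) from
        Finset.filter_congr fun z _ => ⟨fun hh => hh.1, fun hh => ⟨hh, (hsymm z).2 hh.1, hh.2.symm⟩⟩, hrow x]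
      decide
    · have hne : (x : U) ≠ y := fun e => hxy (Subtype.ext e)
      have hmem : ∀ z : ι, (((z : U) ∈ S.D x ∧ (z : U) ≠ x) ∧ (y : U) ∈ S.D z ∧ (y : U) ≠ z) ↔
          ((z : U) ∈ S.D x ⊓ S.D y ∧ (z : U) ≠ x ∧ (z : U) ≠ y) := fun z => by
        rw [hsymm z, Submodule.mem_inf]; exact ⟨fun hh => ⟨⟨hh.1.1, hh.2.1⟩, hh.1.2, hh.2.2.symm⟩,
          fun hh => ⟨⟨hh.1.1, hh.2.1⟩, hh.1.2, hh.2.2.symm⟩⟩
      rcases (hconst x x.2.1 x.2.2 y).1 y.2.1 with hy | hy
      · have hi : Indep2 (x : U) y := ⟨x.2.2, y.2.2, hne⟩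
        rw [hcount x _ (S.D x ⊓ S.D y) {0, (x : U), (y : U)} (fun z hz => hDK x z hz.1)
          (fun z => by simp [hmem z, z.2.2]) (by simp)
          (fun e he => by
            simp only [Finset.mem_insert, Finset.mem_singleton] at he
            rcases he with rfl | rfl | rfl
            · exact Submodule.zero_mem _
            · exact ⟨S.mem_self _, S.symm x y x.2.2 y.2.2 hy⟩
            · exact ⟨hy, S.mem_self _⟩),
          S.inter_eq hadj hd hi hy, finrank_pair hi]
        rw [Finset.card_insert_of_notMem (by simp [x.2.2.symm, y.2.2.symm]), Finset.card_pair hne]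
        rfl
      · have he1 := hone x y x.2.2 hy
        rw [hcount x _ (S.D x ⊓ S.D y) {0} (fun z hz => hDK x z hz.1)
          (fun z => by
            simp only [Finset.mem_filter, Finset.mem_univ, true_and, hmem z, Finset.mem_singleton]
            refine ⟨fun hh => ⟨hh.1, z.2.2⟩, fun hh => ⟨hh.1, fun e => hy.1 ?_, fun e => hy.1 ?_⟩⟩
            · exact S.symm y x y.2.2 x.2.2 (e ▸ hh.1.2)
            · exact e ▸ hh.1.1) (by simp) (by simp)]
        unfold e at he1
        rw [he1]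
        rfl
  have hMJ : M * J = J := by
    ext x y
    simp only [Matrix.mul_apply, M, J, Matrix.of_apply, mul_one, Finset.sum_boole]
    rw [hrow x]
    decide
  have hJM : J * M = J := by
    ext x y
    simp only [Matrix.mul_apply, M, J, Matrix.of_apply, one_mul, Finset.sum_boole]
    rw [show (Finset.univ : Finset ι).filter (fun z : ι => (y : U) ∈ S.D z ∧ (y : U) ≠ z) =
        (Finset.univ : Finset ι).filter (fun z : ι => (z : U) ∈ S.D y ∧ (z : U) ≠ y) from
      Finset.filter_congr fun z _ => ⟨fun hh => ⟨S.symm z y z.2.2 y.2.2 hh.1, hh.2.symm⟩,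
        fun hh => ⟨S.symm y z y.2.2 z.2.2 hh.1, hh.2.symm⟩⟩, hrow y]
    decide
  have hcard : Fintype.card ι = 31 := by
    rw [← Finset.card_univ, hcount u _ K {0} (fun z hz => hz) (fun z => by simp [z.2.1, z.2.2])
      (by simp) (by simp), hK5]
    rfl
  have hJJ : J * J = J := by
    ext x y
    simp only [Matrix.mul_apply, J, Matrix.of_apply, mul_one, Finset.sum_const, Finset.card_univ, hcard]
    decide
  have hnil : IsNilpotent (M - J) := ⟨2, by
    rw [pow_two, sub_mul, mul_sub, mul_sub, hMM, hMJ, hJM, hJJ, sub_self]⟩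
  haveI : Fact (Nat.Prime 5) := ⟨by decide⟩
  have htr := (Matrix.isNilpotent_trace_of_isNilpotent hnil).eq_zero
  rw [Matrix.trace_sub] at htr
  simp only [Matrix.trace, Matrix.diag, M, J, Matrix.of_apply, ne_eq, not_true_eq_false, and_false,
    if_false, Finset.sum_const_zero, zero_sub, Finset.sum_const, Finset.card_univ, hcard] at htr
  exact neg_thirty_one_ne (by simpa only [nsmul_eq_mul, mul_one] using htr)

theorem caseB_of : S.CaseB := by
  refine ⟨hd, fun u w h hw => ⟨fun x hxu hxw => ?_, fun z hzu hzw => ?_⟩⟩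
  · rw [← S.inter_eq hadj hd h hw]; exact ⟨hxu, hxw⟩
  by_cases hY : z ∈ S.D u ⊔ S.D w
  · exact S.third_mem hadj hd h hw hY hzu.1 hzw.1
  exfalso
  obtain ⟨Wu, hWu5, hWu⟩ := S.exists_ball hadj hd hone hthree h.1
  obtain ⟨Ww, hWw5, hWw⟩ := S.exists_ball hadj hd hone hthree h.2.1
  have hwu : u ∈ S.D w := S.symm u w h.1 h.2.1 hw
  have hin : ∀ {a b : U}, Indep2 a b → b ∈ S.D a → ∀ {W : Submodule (ZMod 2) U},
      (∀ z, z ∈ W ↔ z ∈ S.D a ∨ Two S.D a z) → S.D a ⊔ S.D b ≤ W := by
    intro a b hab hb W hW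
    refine sup_le (fun x hx => (hW x).2 (Or.inl hx)) (fun x hx => (hW x).2 ?_)
    by_cases hxa : x ∈ S.D a
    · exact Or.inl hxa
    · exact Or.inr ⟨hxa, b, hab.2.1, hb, S.symm b x hab.2.1 (fun e => hxa (e ▸ S.zero_mem a)) hx⟩
  have h1 : S.D u ⊔ S.D w ≤ Wu := hin h hw hWu
  have h2 : S.D u ⊔ S.D w ≤ Ww := sup_comm (S.D u) (S.D w) ▸ hin (indep_symm h) hwu hWw
  let Y' := (S.D u ⊔ S.D w) ⊔ Submodule.span (ZMod 2) {z}
  have hY'5 : 5 ≤ Module.finrank (ZMod 2) Y' := by
    have hlt : S.D u ⊔ S.D w < Y' := lt_of_le_not_ge le_sup_left fun hh =>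
      hY (hh (Submodule.mem_sup_right (Submodule.mem_span_singleton_self z)))
    have e1 := Submodule.finrank_lt_finrank_of_lt hlt
    have e2 := Submodule.finrank_sup_add_finrank_inf_eq (S.D u) (S.D w)
    rw [S.inter_eq hadj hd h hw, finrank_pair h, S.finrank_D u h.1, S.finrank_D w h.2.1] at e2
    omega
  have hz1 : Y' ≤ Wu := sup_le h1 ((Submodule.span_singleton_le_iff_mem z _).2 ((hWu z).2 (Or.inr hzu)))
  have hz2 : Y' ≤ Ww := sup_le h2 ((Submodule.span_singleton_le_iff_mem z _).2 ((hWw z).2 (Or.inr hzw)))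
  have he : Wu = Ww :=
    (Submodule.eq_of_le_of_finrank_le hz1 (hWu5 ▸ hY'5)).symm.trans
      (Submodule.eq_of_le_of_finrank_le hz2 (hWw5 ▸ hY'5))
  obtain ⟨x, hx⟩ := S.ball_ne hadj hd hone hthree h hw
  exact hx (by rw [← hWu x, ← hWw x, he])

end CaseB

/-- The trichotomy. -/
theorem cases : S.CaseC ∨ S.CaseA ∨ S.CaseB := by
  classical
  rcases S.caseC_or with hC | ⟨hadj, hd, hQ⟩
  · exact Or.inl hC
  right
  have hlocal : ∀ u : U, u ≠ 0 → (∃ z, Two S.D u z ∧ ∀ z', Two S.D u z' → z' - z ∈ S.D u ∧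
        S.e u z' + 1 = S.d) ∨
      (S.d = 3 ∧ (∀ z, Two S.D u z → S.e u z = 1) ∧ ∃ Q : Finset U, Q.card = 3 ∧
        (∀ z ∈ Q, Two S.D u z) ∧ ∀ z ∈ Q, ∀ z' ∈ Q, z - z' ∈ S.D u → z = z') := by
    intro u hu
    obtain ⟨Q, hQ1, hQ2, hQ3, hsum⟩ := hQ u hu
    have hQT : ∀ z ∈ Q, Two S.D u z := fun z hz => (S.two_iff).2 (hQ1 z hz)
    have hrep : ∀ z, Two S.D u z → ∃ z' ∈ Q, z - z' ∈ S.D u ∧ S.e u z = S.e u z' := by
      intro z hz
      obtain ⟨z', hz', hd'⟩ := hQ3 z ((S.two_iff).1 hz).1 ((S.two_iff).1 hz).2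
      refine ⟨z', hz', hd', ?_⟩
      conv_lhs => rw [show z = z' + (z - z') by abel]
      exact S.e_coset hu (hQ1 z' hz').1 hd'
    by_cases hbig : ∃ z ∈ Q, S.e u z + 1 = S.d
    · obtain ⟨z, hz, hze⟩ := hbig
      left
      refine ⟨z, hQT z hz, fun z' hz' => ?_⟩
      obtain ⟨q, hq, hqd, hqe⟩ := hrep z' hz'
      have hqz : q = z := by
        by_contra hne
        have h1 : (2 ^ S.e u z - 1) + (2 ^ S.e u q - 1) ≤ ∑ x ∈ Q, (2 ^ S.e u x - 1) := by
          rw [← Finset.sum_pair (f := fun x => 2 ^ S.e u x - 1) (Ne.symm hne)]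
          exact Finset.sum_le_sum_of_subset (by simp [Finset.insert_subset_iff, hz, hq])
        have h2 : 1 < 2 ^ S.e u q := Nat.one_lt_two_pow (hQ1 q hq).2.ne'
        rw [hsum, show S.d - 1 = S.e u z by omega] at h1
        omega
      subst hqz
      exact ⟨hqd, by rw [hqe]; exact hze⟩
    · right
      push Not at hbig
      have hall : ∀ z ∈ Q, S.e u z + 2 = S.d := by
        intro z hz
        have := S.e_lt hu (S.two_ne_zero (hQT z hz)) (hQ1 z hz).1
        have := S.e_ge_of_two hu hadj (hQT z hz)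
        have := hbig z hz
        omega
      have hsum' : Q.card * (2 ^ (S.d - 2) - 1) = 2 ^ (S.d - 1) - 1 := by
        rw [← hsum, Finset.sum_congr rfl fun z hz => by
          rw [show S.e u z = S.d - 2 from by have := hall z hz; omega], Finset.sum_const, smul_eq_mul]
      have hd3 : S.d = 3 := by
        by_contra hne
        obtain ⟨k, hk⟩ : ∃ k, S.d = k + 4 := ⟨S.d - 4, by omega⟩
        rw [hk, show k + 4 - 2 = k + 2 by omega, show k + 4 - 1 = (k + 2) + 1 by omega, pow_succ 2 (k + 2)] at hsum'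
        have hp : 4 ≤ 2 ^ (k + 2) := by
          calc 4 = 2 ^ 2 := rfl
            _ ≤ _ := Nat.pow_le_pow_right (by omega) (by omega)
        generalize 2 ^ (k + 2) = P at hsum' hp
        generalize Q.card = c at hsum'
        rcases (show c = 0 ∨ c = 1 ∨ c = 2 ∨ 3 ≤ c by omega) with rfl | rfl | rfl | hc
        · simp only [zero_mul] at hsum'; omega
        · simp only [one_mul] at hsum'; omega
        · omega
        · have h3 : 3 * (P - 1) ≤ c * (P - 1) := Nat.mul_le_mul_right _ hc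
          rw [hsum'] at h3
          omega
      rw [hd3] at hsum'
      refine ⟨hd3, fun z hz => ?_, Q, by simpa using hsum', hQT, hQ2⟩
      obtain ⟨q, hq, -, hqe⟩ := hrep z hz
      have := hall q hq
      omega
  by_cases hA : ∃ u₀ : U, u₀ ≠ 0 ∧ ∃ z, Two S.D u₀ z ∧ S.e u₀ z + 1 = S.d ∧ 2 ≤ S.e u₀ z
  · left
    have hall : ∀ u : U, ∀ hu : u ≠ 0, ∃ z, Two S.D u z ∧ ∀ z', Two S.D u z' → z' - z ∈ S.D u ∧
        S.e u z' + 1 = S.d := by
      intro u hu
      rcases hlocal u hu with h | ⟨hd3, hone, -⟩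
      · exact h
      · exfalso
        obtain ⟨u₀, hu₀, z, hz, -, hz2⟩ := hA
        obtain ⟨g, hg, hgu⟩ := S.trans u₀ u hu₀ hu
        have := hone (g z) (hgu ▸ S.two_map hg hz)
        rw [← hgu, S.e_map hg] at this
        omega
    choose z₀ hz₀ using hall
    exact S.caseA_of hadj hd z₀ hz₀
  · right
    push Not at hA
    have hB : ∀ u : U, u ≠ 0 → (S.d = 3 ∧ (∀ z, Two S.D u z → S.e u z = 1) ∧ ∃ Q : Finset U, Q.card = 3 ∧
        (∀ z ∈ Q, Two S.D u z) ∧ ∀ z ∈ Q, ∀ z' ∈ Q, z - z' ∈ S.D u → z = z') := by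
      intro u hu
      rcases hlocal u hu with ⟨z, hz, hall⟩ | h
      · exfalso
        have := hA u hu z hz (hall z hz).2
        have := (hall z hz).2
        omega
      · exact h
    obtain ⟨u₁, w₁, hi⟩ : ∃ u w : U, Indep2 u w := by
      by_contra hno
      push Not at hno
      have h1 : Module.finrank (ZMod 2) U ≤ 1 := by
        by_contra hlt
        obtain ⟨u, hu⟩ : ∃ u : U, u ≠ 0 := by
          by_contra hz
          push Not at hz
          haveI : Subsingleton U := ⟨fun a b => (hz a).trans (hz b).symm⟩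
          rw [Module.finrank_zero_of_subsingleton] at hlt
          omega
        have hle : (⊤ : Submodule (ZMod 2) U) ≤ Submodule.span (ZMod 2) {u} := fun x _ => by
          by_cases x0 : x = 0
          · subst x0; exact Submodule.zero_mem _
          · by_cases xu : u = x
            · subst xu; exact Submodule.mem_span_singleton_self u
            · exact absurd ⟨hu, x0, xu⟩ (hno u x)
        have := Submodule.finrank_mono hle
        rw [finrank_top, finrank_span_singleton hu] at this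
        omega
      have := S.proper
      have := S.two_le
      omega
    exact S.caseB_of hadj (hB u₁ hi.1).1 (fun u z hu hz => (hB u hu).2.1 z hz) (fun u hu => (hB u hu).2.2)

end DSys

end Cfsg.Agent.Grp.Antiflag
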