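import Cfsg.Agent.Lib.Grp.Antiflag.Orbits
import Cfsg.Agent.Lib.Grp.Antiflag.Quot

/-!
# The subspaces of an antiflag transitive group

If an antiflag transitive group over `F2` is not two-transitive, each vector `u` has a proper subspace
`D u` on which the stabiliser of `u` is transitive away from `⟨u⟩`, and off which its orbits are unions
of cosets of `D u`; moreover `D (u + w) ≤ D u ⊔ D w`.
-/

set_option autoImplicit false

namespace Cfsg.Agent.Grp.Antiflag

variable {U : Type*} [AddCommGroup U] [Module (ZMod 2) U]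

theorem finite_forms [Finite U] : Finite (Module.Dual (ZMod 2) U) :=
  Finite.of_injective (fun φ => (φ : U → ZMod 2)) DFunLike.coe_injective

/-- A predicate flipped by an involution of a finset holds on half of it. -/
theorem two_mul_card_filter {α : Type*} [DecidableEq α] (S : Finset α) (σ : α → α) (p : α → Prop)
    [DecidablePred p] (hσ : ∀ v, σ (σ v) = v) (hS : ∀ v ∈ S, σ v ∈ S)
    (hp : ∀ v ∈ S, (p (σ v) ↔ ¬ p v)) : 2 * (S.filter p).card = S.card := by
  have e : (S.filter p).card = (S.filter fun v => ¬ p v).card := by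
    refine Finset.card_bij' (fun v _ => σ v) (fun v _ => σ v) (fun v hv => ?_) (fun v hv => ?_)
      (fun v _ => hσ v) (fun v _ => hσ v)
    · obtain ⟨h1, h2⟩ := Finset.mem_filter.1 hv
      exact Finset.mem_filter.2 ⟨hS v h1, fun h => (hp v h1).1 h h2⟩
    · obtain ⟨h1, h2⟩ := Finset.mem_filter.1 hv
      exact Finset.mem_filter.2 ⟨hS v h1, (hp v h1).2 h2⟩
  have := Finset.card_filter_add_card_filter_not (s := S) p
  omega

theorem add_add_self (v a : U) : v + a + a = v := by rw [add_assoc, add_self, add_zero]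

theorem flip_zero (η : Module.Dual (ZMod 2) U) {a : U} (ha : η a = 1) (v : U) :
    η (v + a) = 0 ↔ ¬ η v = 0 := by
  rw [map_add, ha]; generalize η v = c; revert c; decide

theorem flip_one (η : Module.Dual (ZMod 2) U) {a : U} (ha : η a = 1) (v : U) :
    η (v + a) = 1 ↔ ¬ η v = 1 := by
  rw [map_add, ha]; generalize η v = c; revert c; decide

theorem eq_of_forall_form {a b : U} (h : ∀ η : Module.Dual (ZMod 2) U, η a = η b) : a = b := by
  by_contra hne
  obtain ⟨η, hη⟩ := exists_form (sub_ne_zero.2 hne)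
  rw [map_sub, h η, sub_self] at hη
  exact zero_ne_one hη

variable {G : Subgroup (U ≃ₗ[ZMod 2] U)}

/-- The properties of `D u`. -/
structure Block (G : Subgroup (U ≃ₗ[ZMod 2] U)) (u : U) (D : Submodule (ZMod 2) U) : Prop where
  mem : u ∈ D
  exists_other : ∃ x ∈ D, Indep2 u x
  inv : ∀ g ∈ G, g u = u → D.map (g : U →ₗ[ZMod 2] U) = D
  forms : ∀ φ φ' : Module.Dual (ZMod 2) U, φ u = 0 → (∃ x ∈ D, φ x = 1) → φ' u = 0 →
    (∃ x ∈ D, φ' x = 1) → ∃ g ∈ G, g u = u ∧ ∀ x, φ' (g x) = φ x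

theorem mem_fix {u : U} (k : (G ⊓ fixSub u : Subgroup (U ≃ₗ[ZMod 2] U))) :
    (k : U ≃ₗ[ZMod 2] U) ∈ G ∧ (k : U ≃ₗ[ZMod 2] U) u = u := k.2

/-- The main counting: some short orbit of the stabiliser spans a block. -/
theorem exists_block [Finite U] (hG : IsAntiflag G) (hn : 2 ≤ Module.finrank (ZMod 2) U) {u : U}
    (hu : u ≠ 0) : ∃ D, Block G u D := by
  classical
  haveI : Fintype U := Fintype.ofFinite U
  haveI := finite_forms (U := U)
  haveI : Fintype (Module.Dual (ZMod 2) U) := Fintype.ofFinite _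
  obtain ⟨orb, horb⟩ : ∃ orb : U → Finset U, ∀ a v, v ∈ orb a ↔ ∃ g ∈ G, g u = u ∧ g a = v :=
    ⟨fun a => Finset.univ.filter fun v => ∃ g ∈ G, g u = u ∧ g a = v, fun a v => by simp⟩
  have hself : ∀ a, a ∈ orb a := fun a => (horb a a).2 ⟨1, G.one_mem, rfl, rfl⟩
  have horb_eq : ∀ a b, b ∈ orb a → orb b = orb a := by
    intro a b hb
    obtain ⟨h, hh, hhu, rfl⟩ := (horb a b).1 hb
    ext v
    rw [horb, horb]
    constructor
    · rintro ⟨g, hg, hgu, rfl⟩
      exact ⟨g * h, G.mul_mem hg hh, by rw [LinearEquiv.mul_apply, hhu, hgu], rfl⟩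
    · rintro ⟨g, hg, hgu, rfl⟩
      refine ⟨g * h⁻¹, G.mul_mem hg (G.inv_mem hh), ?_, ?_⟩
      · show g (h.symm u) = u
        rw [h.symm_apply_eq.2 hhu.symm, hgu]
      · show g (h.symm (h a)) = g a
        rw [h.symm_apply_apply]
  have hindep : ∀ a, Indep2 u a → ∀ v ∈ orb a, Indep2 u v := by
    intro a ha v hv
    obtain ⟨g, -, hgu, rfl⟩ := (horb a v).1 hv
    exact ⟨hu, fun e => ha.2.1 (g.injective (e.trans (map_zero g).symm)),
      fun e => ha.2.2 (g.injective (hgu.trans e))⟩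
  -- a short orbit
  obtain ⟨x, hx, hx4⟩ : ∃ x, Indep2 u x ∧ ¬ 4 ∣ (orb x).card := by
    by_contra hall
    push Not at hall
    have hX : (Finset.univ.filter fun v => Indep2 u v).card + 2 = Fintype.card U := by
      have e : (Finset.univ.filter fun v => Indep2 u v) = ((Finset.univ : Finset U).erase 0).erase u := by
        ext v
        simp [Indep2, hu, and_comm, ne_comm]
      have h1 : u ∈ (Finset.univ : Finset U).erase 0 := Finset.mem_erase.2 ⟨hu, Finset.mem_univ u⟩
      have h2 := Finset.card_erase_add_one h1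
      have h3 := Finset.card_erase_add_one (Finset.mem_univ (0 : U))
      rw [Finset.card_univ] at h3
      rw [e]; omega
    have hdvd : 4 ∣ (Finset.univ.filter fun v => Indep2 u v).card := by
      rw [Finset.card_eq_sum_card_image orb]
      refine Finset.dvd_sum fun o ho => ?_
      obtain ⟨a, ha, rfl⟩ := Finset.mem_image.1 ho
      have ha' : Indep2 u a := (Finset.mem_filter.1 ha).2
      have e : (Finset.univ.filter fun v => Indep2 u v).filter (fun v => orb v = orb a) = orb a := by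
        ext v
        simp only [Finset.mem_filter, Finset.mem_univ, true_and]
        exact ⟨fun h => h.2 ▸ hself v, fun h => ⟨hindep a ha' v h, horb_eq a v h⟩⟩
      rw [e]; exact hall a ha'
    have hN : 4 ∣ Fintype.card U := by
      rw [← Nat.card_eq_fintype_card, Module.natCard_eq_pow_finrank (K := ZMod 2) (V := U), Nat.card_zmod]
      exact pow_dvd_pow 2 hn
    omega
  set O := orb x with hOdef
  have hO : ∀ v, v ∈ O ↔ ∃ g ∈ G, g u = u ∧ g x = v := horb x
  have hOadd : ∀ v ∈ O, v + u ∈ O := by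
    intro v hv
    obtain ⟨g, hg, hgu, rfl⟩ := (hO v).1 hv
    obtain ⟨t, ht, htu, htx⟩ := exists_translate hG u x hx
    exact (hO _).2 ⟨g * t, G.mul_mem hg ht, by rw [LinearEquiv.mul_apply, htu, hgu],
      by rw [LinearEquiv.mul_apply, htx, map_add, hgu]⟩
  obtain ⟨φ₁, hφ₁⟩ := exists_form hu
  obtain ⟨r, hr⟩ : ∃ r, O.card = 2 * r :=
    ⟨_, (two_mul_card_filter O (fun v => v + u) (fun v => φ₁ v = 0) (fun v => add_add_self v u) hOadd
      (fun v _ => flip_zero φ₁ hφ₁ v)).symm⟩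
  have hrodd : ¬ 2 ∣ r := fun ⟨c, hc⟩ => hx4 ⟨c, by rw [hr, hc]; ring⟩
  -- forms with value one at `u`
  obtain ⟨Φ, hΦdef⟩ : ∃ Φ : Finset (Module.Dual (ZMod 2) U),
      Φ = Finset.univ.filter (fun φ : Module.Dual (ZMod 2) U => φ u = 1) := ⟨_, rfl⟩
  have hΦ : ∀ φ, φ ∈ Φ ↔ φ u = 1 := fun φ => by simp [hΦdef]
  have hcop : Nat.Coprime r Φ.card := by
    have h1 : Φ.card ∣ Fintype.card (Module.Dual (ZMod 2) U) := by
      refine ⟨2, ?_⟩
      rw [mul_comm, ← Finset.card_univ, hΦdef]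
      refine (two_mul_card_filter _ (fun φ => φ + φ₁) _ (fun φ => add_add_self φ φ₁)
        (fun φ _ => Finset.mem_univ _) (fun φ _ => ?_)).symm
      rw [LinearMap.add_apply, hφ₁]; generalize φ u = c; revert c; decide
    rw [← Nat.card_eq_fintype_card, Module.natCard_eq_pow_finrank (K := ZMod 2), Nat.card_zmod] at h1
    exact Nat.Coprime.coprime_dvd_right h1 (Nat.Coprime.pow_right _ ((Nat.coprime_comm).1
      ((Nat.Prime.coprime_iff_not_dvd Nat.prime_two).2 hrodd)))
  obtain ⟨T, hTdef⟩ : ∃ T : Finset (U × Module.Dual (ZMod 2) U), T = (O ×ˢ Φ).filter (fun q => q.2 q.1 = 0) :=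
    ⟨_, rfl⟩
  have hT : T.card = r * Φ.card := by
    have h2 : 2 * T.card = (O ×ˢ Φ).card := by
      rw [hTdef]
      refine two_mul_card_filter _ (fun q : U × Module.Dual (ZMod 2) U => (q.1 + u, q.2)) _
        (fun q => by simp [add_add_self]) (fun q hq => ?_) (fun q hq => ?_)
      · obtain ⟨h1, h2⟩ := Finset.mem_product.1 hq
        exact Finset.mem_product.2 ⟨hOadd _ h1, h2⟩
      · exact flip_zero q.2 ((hΦ _).1 (Finset.mem_product.1 hq).2) q.1
    rw [Finset.card_product, hr, mul_assoc] at h2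
    omega
  have hP : ∀ φ φ' : Module.Dual (ZMod 2) U, φ u = 1 → φ x = 0 → φ' u = 1 → φ' x = 0 →
      ∃ g ∈ G, g u = u ∧ g x = x ∧ ∀ y, φ' (g y) = φ y := by
    intro φ φ' h1 h2 h1' h2'
    let K : Subgroup (U ≃ₗ[ZMod 2] U) := G ⊓ fixSub u
    letI : MulAction K (Module.Dual (ZMod 2) U) :=
      MulAction.compHom _ ((dualHom (U := U)).comp K.subtype)
    have hsymm : ∀ k : K, (k : U ≃ₗ[ZMod 2] U).symm u = u := fun k =>
      (k : U ≃ₗ[ZMod 2] U).symm_apply_eq.2 (mem_fix k).2.symm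
    have o1 : MulAction.orbit K x = (O : Set U) := by
      ext v
      rw [Finset.mem_coe, hO, MulAction.mem_orbit_iff]
      exact ⟨fun ⟨k, hk⟩ => ⟨k, (mem_fix k).1, (mem_fix k).2, hk⟩,
        fun ⟨g, hg, hgu, hgx⟩ => ⟨⟨g, hg, hgu⟩, hgx⟩⟩
    have o2 : MulAction.orbit K φ = (Φ : Set (Module.Dual (ZMod 2) U)) := by
      ext ψ
      rw [Finset.mem_coe, hΦ, MulAction.mem_orbit_iff]
      constructor
      · rintro ⟨k, rfl⟩
        show φ ((k : U ≃ₗ[ZMod 2] U).symm u) = 1
        rw [hsymm, h1]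
      · intro hψ
        obtain ⟨g, hg, hgu, hgφ⟩ := hG u u φ ψ h1 hψ
        refine ⟨⟨g, hg, hgu⟩, LinearMap.ext fun y => ?_⟩
        show φ (g.symm y) = ψ y
        rw [← hgφ, g.apply_symm_apply]
    have hle : MulAction.stabilizer K (x, φ) ≤ MulAction.stabilizer K x :=
      fun k hk => congrArg Prod.fst hk
    have hle' : MulAction.stabilizer K (x, φ) ≤ MulAction.stabilizer K φ :=
      fun k hk => congrArg Prod.snd hk
    have d1 := Subgroup.index_dvd_of_le hle
    have d2 := Subgroup.index_dvd_of_le hle'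
    rw [MulAction.index_stabilizer, MulAction.index_stabilizer] at d1 d2
    rw [o1, Set.ncard_coe_finset, hr] at d1
    rw [o2, Set.ncard_coe_finset] at d2
    have hd : T.card ∣ (MulAction.orbit K (x, φ)).ncard :=
      hT ▸ hcop.mul_dvd_of_dvd_of_dvd ((dvd_mul_left r 2).trans d1) d2
    have hsub : MulAction.orbit K (x, φ) ⊆ (T : Set (U × Module.Dual (ZMod 2) U)) := by
      rintro _ ⟨k, rfl⟩
      rw [hTdef, Finset.mem_coe, Finset.mem_filter, Finset.mem_product]
      refine ⟨⟨(hO _).2 ⟨k, (mem_fix k).1, (mem_fix k).2, rfl⟩, (hΦ _).2 ?_⟩, ?_⟩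
      · show φ ((k : U ≃ₗ[ZMod 2] U).symm u) = 1
        rw [hsymm, h1]
      · show φ ((k : U ≃ₗ[ZMod 2] U).symm ((k : U ≃ₗ[ZMod 2] U) x)) = 0
        rw [LinearEquiv.symm_apply_apply, h2]
    have hpos : 0 < (MulAction.orbit K (x, φ)).ncard :=
      (Set.ncard_pos (Set.toFinite _)).2 ⟨_, MulAction.mem_orbit_self _⟩
    have heq : MulAction.orbit K (x, φ) = (T : Set (U × Module.Dual (ZMod 2) U)) :=
      Set.eq_of_subset_of_ncard_le hsub (by rw [Set.ncard_coe_finset]; exact Nat.le_of_dvd hpos hd)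
        (Set.toFinite _)
    obtain ⟨k, hk⟩ : (x, φ') ∈ MulAction.orbit K (x, φ) := by
      rw [heq, hTdef, Finset.mem_coe, Finset.mem_filter, Finset.mem_product]
      exact ⟨⟨hself x, (hΦ _).2 h1'⟩, h2'⟩
    refine ⟨k, (mem_fix k).1, (mem_fix k).2, congrArg Prod.fst hk, fun y => ?_⟩
    have hk' : dualHom (k : U ≃ₗ[ZMod 2] U) φ = φ' := congrArg Prod.snd hk
    rw [← hk', dualHom_apply, LinearEquiv.symm_apply_apply]
  have hE : ∀ φ φ' : Module.Dual (ZMod 2) U, φ u = 0 → φ x = 1 → φ' u = 0 → φ' x = 1 →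
      ∃ g ∈ G, g u = u ∧ g x = x ∧ ∀ y, φ' (g y) = φ y := by
    intro φ φ' h1 h2 h1' h2'
    obtain ⟨h, hh, hhu, hhx⟩ := exists_swap hG u x hx
    obtain ⟨k, hk, hku, hkx, hkφ⟩ := hP (φ.comp (h : U →ₗ[ZMod 2] U)) (φ'.comp (h : U →ₗ[ZMod 2] U))
      (by show φ (h u) = 1; rw [hhu, h2]) (by show φ (h x) = 0; rw [hhx, h1])
      (by show φ' (h u) = 1; rw [hhu, h2']) (by show φ' (h x) = 0; rw [hhx, h1'])
    refine ⟨h * k * h⁻¹, G.mul_mem (G.mul_mem hh hk) (G.inv_mem hh), ?_, ?_, fun y => ?_⟩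
    · show h (k (h.symm u)) = u
      rw [h.symm_apply_eq.2 hhx.symm, hkx, hhx]
    · show h (k (h.symm x)) = x
      rw [h.symm_apply_eq.2 hhu.symm, hku, hhu]
    · show φ' (h (k (h.symm y))) = φ y
      exact (hkφ (h.symm y)).trans (congrArg φ (h.apply_symm_apply y))
  refine ⟨Submodule.span (ZMod 2) (insert u (O : Set U)), Submodule.subset_span (Set.mem_insert _ _),
    ⟨x, Submodule.subset_span (Set.mem_insert_of_mem _ (hself x)), hx⟩, ?_, ?_⟩
  · intro g hg hgu
    rw [Submodule.map_span]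
    congr 1
    rw [Set.image_insert_eq, LinearEquiv.coe_coe, hgu]
    congr 1
    have hsub : ∀ g' ∈ G, g' u = u → ∀ v ∈ O, g' v ∈ O := by
      intro g' hg' hgu' v hv
      obtain ⟨k, hk, hku, rfl⟩ := (hO v).1 hv
      exact (hO _).2 ⟨g' * k, G.mul_mem hg' hk, by rw [LinearEquiv.mul_apply, hku, hgu'], rfl⟩
    ext v
    constructor
    · rintro ⟨w, hw, rfl⟩; exact hsub g hg hgu w hw
    · intro hv
      exact ⟨g.symm v, hsub g⁻¹ (G.inv_mem hg) (g.symm_apply_eq.2 hgu.symm) v hv,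
        g.apply_symm_apply v⟩
  · intro φ φ' hφu hφ hφu' hφ'
    have hpick : ∀ ψ : Module.Dual (ZMod 2) U, ψ u = 0 →
        (∃ y ∈ Submodule.span (ZMod 2) (insert u (O : Set U)), ψ y = 1) →
        ∃ k ∈ G, k u = u ∧ ψ (k x) = 1 := by
      rintro ψ hψu ⟨y, hy, hy1⟩
      by_contra hno
      push Not at hno
      have hle : Submodule.span (ZMod 2) (insert u (O : Set U)) ≤ LinearMap.ker ψ := by
        refine Submodule.span_le.2 fun v hv => ?_
        rcases hv with rfl | hv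
        · exact hψu
        · obtain ⟨g, hg, hgu, rfl⟩ := (hO v).1 hv
          show ψ (g x) = 0
          by_contra h0
          exact hno g hg hgu (zmod_two_eq_one h0)
      exact zero_ne_one ((LinearMap.mem_ker.1 (hle hy)).symm.trans hy1)
    obtain ⟨k, hk, hku, hkx⟩ := hpick φ hφu hφ
    obtain ⟨k', hk', hku', hkx'⟩ := hpick φ' hφu' hφ'
    obtain ⟨g, hg, hgu, -, hgφ⟩ := hE (φ.comp (k : U →ₗ[ZMod 2] U)) (φ'.comp (k' : U →ₗ[ZMod 2] U))
      (by show φ (k u) = 0; rw [hku, hφu]) hkx (by show φ' (k' u) = 0; rw [hku', hφu']) hkx'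
    refine ⟨k' * g * k⁻¹, G.mul_mem (G.mul_mem hk' hg) (G.inv_mem hk), ?_, fun y => ?_⟩
    · show k' (g (k.symm u)) = u
      rw [k.symm_apply_eq.2 hku.symm, hgu, hku']
    · show φ' (k' (g (k.symm y))) = φ y
      exact (hgφ (k.symm y)).trans (congrArg φ (k.apply_symm_apply y))

/-- Blocks move with the group. -/
theorem Block.map {u : U} {D : Submodule (ZMod 2) U} (B : Block G u D) {g : U ≃ₗ[ZMod 2] U}
    (hg : g ∈ G) : Block G (g u) (D.map (g : U →ₗ[ZMod 2] U)) := by
  refine ⟨Submodule.mem_map_of_mem B.mem, ?_, fun k hk hku => ?_, fun φ φ' h1 h2 h1' h2' => ?_⟩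
  · obtain ⟨x, hx, hu, hx0, hne⟩ := B.exists_other
    exact ⟨g x, Submodule.mem_map_of_mem hx, fun e => hu (g.injective (e.trans (map_zero g).symm)),
      fun e => hx0 (g.injective (e.trans (map_zero g).symm)), fun e => hne (g.injective e)⟩
  · have h := B.inv (g⁻¹ * k * g) (G.mul_mem (G.mul_mem (G.inv_mem hg) hk) hg)
      (by show g.symm (k (g u)) = u; rw [hku, LinearEquiv.symm_apply_apply])
    conv_rhs => rw [← h]
    rw [← Submodule.map_comp, ← Submodule.map_comp]
    congr 1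
    exact LinearMap.ext fun y => (g.apply_symm_apply _).symm
  · obtain ⟨a, ⟨a', ha', rfl⟩, haφ⟩ := h2
    obtain ⟨b, ⟨b', hb', rfl⟩, hbφ⟩ := h2'
    obtain ⟨k, hk, hku, hkφ⟩ := B.forms (φ.comp (g : U →ₗ[ZMod 2] U)) (φ'.comp (g : U →ₗ[ZMod 2] U))
      h1 ⟨a', ha', haφ⟩ h1' ⟨b', hb', hbφ⟩
    refine ⟨g * k * g⁻¹, G.mul_mem (G.mul_mem hg hk) (G.inv_mem hg), ?_, fun y => ?_⟩
    · show g (k (g.symm (g u))) = g u
      rw [LinearEquiv.symm_apply_apply, hku]
    · show φ' (g (k (g.symm y))) = φ y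
      exact (hkφ (g.symm y)).trans (congrArg φ (g.apply_symm_apply y))

/-- A bound by representatives. -/
theorem norb_le {K : Type*} [Group K] (ρ : K →* (U ≃ₗ[ZMod 2] U)) {ι : Type*} [Finite ι] (r : ι → U)
    (h : ∀ a, ∃ i k, ρ k (r i) = a) : norb ρ ≤ Nat.card ι := by
  refine Nat.card_le_card_of_surjective (fun i => Quotient.mk (orbSetoid ρ) (r i)) fun q => ?_
  induction q using Quotient.inductionOn with
  | _ a =>
    obtain ⟨i, k, hk⟩ := h a
    exact ⟨i, Quotient.sound ⟨k, hk⟩⟩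

theorem rel_of_norb_le_three [Finite U] {K : Type*} [Group K] (ρ : K →* (U ≃ₗ[ZMod 2] U))
    (h3 : norb ρ ≤ 3) {u a b : U} (hfix : ∀ k, ρ k u = u) (ha : Indep2 u a) (hb : Indep2 u b) :
    ∃ k, ρ k a = b := by
  classical
  by_contra hno
  haveI : Finite (Quotient (orbSetoid ρ)) :=
    Finite.of_surjective (Quotient.mk (orbSetoid ρ)) Quotient.mk_surjective
  haveI : Fintype (Quotient (orbSetoid ρ)) := Fintype.ofFinite _
  let q : U → Quotient (orbSetoid ρ) := Quotient.mk (orbSetoid ρ)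
  have hne : ∀ v w : U, (∀ k, ρ k v = v) → v ≠ w → q v ≠ q w := fun v w hv hvw e => by
    obtain ⟨k, hk⟩ := Quotient.exact e
    exact hvw ((hv k).symm.trans hk)
  have h0 : ∀ k, ρ k (0 : U) = 0 := fun k => map_zero _
  have hab : q a ≠ q b := fun e => hno (Quotient.exact e)
  have hcard : ({q 0, q u, q a, q b} : Finset (Quotient (orbSetoid ρ))).card = 4 := by
    rw [Finset.card_insert_of_notMem, Finset.card_insert_of_notMem, Finset.card_pair hab]
    · simpa using ⟨hne u a hfix ha.2.2, hne u b hfix hb.2.2⟩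
    · simpa using ⟨hne 0 u h0 ha.1.symm, hne 0 a h0 ha.2.1.symm, hne 0 b h0 hb.2.1.symm⟩
  have := Finset.card_le_univ ({q 0, q u, q a, q b} : Finset (Quotient (orbSetoid ρ)))
  rw [hcard, ← Nat.card_eq_fintype_card] at this
  have h3' : Nat.card (Quotient (orbSetoid ρ)) ≤ 3 := h3
  omega

/-- The stabiliser of `u` acting on a block. -/
def blockHom {u : U} {D : Submodule (ZMod 2) U} (B : Block G u D) :
    (G ⊓ fixSub u : Subgroup (U ≃ₗ[ZMod 2] U)) →* (D ≃ₗ[ZMod 2] D) where
  toFun k := (k : U ≃ₗ[ZMod 2] U).ofSubmodules D D (B.inv _ (mem_fix k).1 (mem_fix k).2)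
  map_one' := LinearEquiv.ext fun x => Subtype.ext rfl
  map_mul' k l := LinearEquiv.ext fun x => Subtype.ext rfl

theorem blockHom_apply {u : U} {D : Submodule (ZMod 2) U} (B : Block G u D)
    (k : (G ⊓ fixSub u : Subgroup (U ≃ₗ[ZMod 2] U))) (y : D) :
    ((blockHom B k y : D) : U) = (k : U ≃ₗ[ZMod 2] U) y := rfl

/-- The stabiliser of `u` acting on the quotient by a block. -/
def coHom {u : U} {D : Submodule (ZMod 2) U} (B : Block G u D) :
    (G ⊓ fixSub u : Subgroup (U ≃ₗ[ZMod 2] U)) →* ((U ⧸ D) ≃ₗ[ZMod 2] (U ⧸ D)) where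
  toFun k := Submodule.Quotient.equiv D D (k : U ≃ₗ[ZMod 2] U) (B.inv _ (mem_fix k).1 (mem_fix k).2)
  map_one' := LinearEquiv.ext fun q => by
    obtain ⟨x, rfl⟩ := Submodule.Quotient.mk_surjective _ q
    rfl
  map_mul' k l := LinearEquiv.ext fun q => by
    obtain ⟨x, rfl⟩ := Submodule.Quotient.mk_surjective _ q
    rfl

theorem coHom_mk {u : U} {D : Submodule (ZMod 2) U} (B : Block G u D)
    (k : (G ⊓ fixSub u : Subgroup (U ≃ₗ[ZMod 2] U))) (x : U) :
    coHom B k (Submodule.Quotient.mk x) = Submodule.Quotient.mk ((k : U ≃ₗ[ZMod 2] U) x) := rfl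

/-- The stabiliser is transitive on a block away from the line. -/
theorem Block.trans_inner [Finite U] (hG : IsAntiflag G) {u : U} {D : Submodule (ZMod 2) U}
    (B : Block G u D) {w w' : U} (hw : Indep2 u w) (hw' : Indep2 u w') (hwD : w ∈ D) (hwD' : w' ∈ D) :
    ∃ g ∈ G, g u = u ∧ g w = w' := by
  obtain ⟨φ₁, hφ₁⟩ := exists_form hw.1
  obtain ⟨φ₀, hφ₀u, hφ₀w⟩ := exists_form_pair hw
  have h3 : norb (dualHom.comp (blockHom B)) ≤ 3 := by
    have h := norb_le (dualHom.comp (blockHom B))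
      (![0, φ₁.comp D.subtype, φ₀.comp D.subtype] : Fin 3 → Module.Dual (ZMod 2) D) fun a => ?_
    · simpa using h
    by_cases ha : a = 0
    · exact ⟨0, 1, by rw [ha]; simp⟩
    obtain ⟨φ, hφ⟩ := LinearMap.exists_extend a
    have hφ' : ∀ y : D, φ y = a y := fun y => LinearMap.congr_fun hφ y
    by_cases h1 : φ u = 1
    · obtain ⟨g, hg, hgu, hgφ⟩ := hG u u φ₁ φ hφ₁ h1
      refine ⟨1, ⟨g, hg, hgu⟩, LinearMap.ext fun y => ?_⟩
      obtain ⟨y', rfl⟩ := (blockHom B ⟨g, hg, hgu⟩).surjective y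
      show φ₁.comp D.subtype ((blockHom B ⟨g, hg, hgu⟩).symm (blockHom B ⟨g, hg, hgu⟩ y')) = _
      rw [LinearEquiv.symm_apply_apply, ← hφ', blockHom_apply]
      exact (hgφ y').symm
    · have hu0 : φ u = 0 := by
        by_contra h; exact h1 (zmod_two_eq_one h)
      obtain ⟨y, hy⟩ : ∃ y : D, a y = 1 := by
        by_contra h
        exact ha (LinearMap.ext fun y => by
          by_contra hy; exact h ⟨y, zmod_two_eq_one hy⟩)
      obtain ⟨g, hg, hgu, hgφ⟩ :=
        B.forms φ₀ φ hφ₀u ⟨w, hwD, hφ₀w⟩ hu0 ⟨y, y.2, (hφ' y).trans hy⟩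
      refine ⟨2, ⟨g, hg, hgu⟩, LinearMap.ext fun z => ?_⟩
      obtain ⟨z', rfl⟩ := (blockHom B ⟨g, hg, hgu⟩).surjective z
      show φ₀.comp D.subtype ((blockHom B ⟨g, hg, hgu⟩).symm (blockHom B ⟨g, hg, hgu⟩ z')) = _
      rw [LinearEquiv.symm_apply_apply, ← hφ', blockHom_apply]
      exact (hgφ z').symm
  rw [norb_dual] at h3
  obtain ⟨k, hk⟩ := rel_of_norb_le_three (blockHom B) h3 (u := ⟨u, B.mem⟩) (a := ⟨w, hwD⟩) (b := ⟨w', hwD'⟩)
    (fun k => Subtype.ext (mem_fix k).2)
    ⟨fun e => hw.1 (congrArg Subtype.val e), fun e => hw.2.1 (congrArg Subtype.val e),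
      fun e => hw.2.2 (congrArg Subtype.val e)⟩
    ⟨fun e => hw'.1 (congrArg Subtype.val e), fun e => hw'.2.1 (congrArg Subtype.val e),
      fun e => hw'.2.2 (congrArg Subtype.val e)⟩
  exact ⟨k, (mem_fix k).1, (mem_fix k).2, congrArg Subtype.val hk⟩

/-- The orbits of the stabiliser off a block are unions of cosets. -/
theorem Block.trans_coset [Finite U] (hG : IsAntiflag G) {u : U} {D : Submodule (ZMod 2) U}
    (B : Block G u D) {z x : U} (hz : z ∉ D) (hx : x ∈ D) :
    ∃ g ∈ G, g u = u ∧ g z = z + x := by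
  classical
  obtain ⟨x₀, hx₀, hind⟩ := B.exists_other
  obtain ⟨φ₁, hφ₁⟩ := exists_form hind.1
  obtain ⟨φ₀, hφ₀u, hφ₀x⟩ := exists_form_pair hind
  let ρ := (G ⊓ fixSub u : Subgroup (U ≃ₗ[ZMod 2] U)).subtype
  haveI : Finite (U ⧸ D) := Finite.of_surjective _ (Submodule.Quotient.mk_surjective D)
  haveI := finite_forms (U := U ⧸ D)
  haveI : Finite (Quotient (orbSetoid (dualHom.comp (coHom B)))) :=
    Finite.of_surjective (Quotient.mk _) Quotient.mk_surjective
  have hupper : norb ρ ≤ norb (coHom B) + 2 := by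
    have h := norb_le (dualHom.comp ρ) (ι := Quotient (orbSetoid (dualHom.comp (coHom B))) ⊕ Bool)
      (Sum.elim (fun q => q.out.comp D.mkQ) (fun b => bif b then φ₁ else φ₀)) fun φ => ?_
    · rw [norb_dual, Nat.card_sum, Nat.card_eq_fintype_card (α := Bool), Fintype.card_bool,
        ← norb, norb_dual] at h
      exact h
    by_cases h1 : φ u = 1
    · obtain ⟨g, hg, hgu, hgφ⟩ := hG u u φ₁ φ hφ₁ h1
      refine ⟨Sum.inr true, ⟨g, hg, hgu⟩, LinearMap.ext fun y => ?_⟩
      show φ₁ (g.symm y) = φ y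
      rw [← hgφ, g.apply_symm_apply]
    have hu0 : φ u = 0 := by
      by_contra h; exact h1 (zmod_two_eq_one h)
    by_cases h2 : ∃ y ∈ D, φ y = 1
    · obtain ⟨g, hg, hgu, hgφ⟩ := B.forms φ₀ φ hφ₀u ⟨x₀, hx₀, hφ₀x⟩ hu0 h2
      refine ⟨Sum.inr false, ⟨g, hg, hgu⟩, LinearMap.ext fun y => ?_⟩
      show φ₀ (g.symm y) = φ y
      rw [← hgφ, g.apply_symm_apply]
    have hker : D ≤ LinearMap.ker φ := fun y hy => LinearMap.mem_ker.2 (by
      by_contra h; exact h2 ⟨y, hy, zmod_two_eq_one h⟩)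
    obtain ⟨k, hk⟩ := (Quotient.eq (r := orbSetoid (dualHom.comp (coHom B)))).1
      (Quotient.out_eq (Quotient.mk (orbSetoid (dualHom.comp (coHom B))) (D.liftQ φ hker)))
    refine ⟨Sum.inl (Quotient.mk _ (D.liftQ φ hker)), k, LinearMap.ext fun y => ?_⟩
    have hy := LinearMap.congr_fun hk (Submodule.Quotient.mk y)
    rw [MonoidHom.comp_apply, dualHom_apply, Submodule.liftQ_apply] at hy
    have e : (coHom B k).symm (Submodule.Quotient.mk y) =
        Submodule.Quotient.mk ((k : U ≃ₗ[ZMod 2] U).symm y) := by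
      rw [LinearEquiv.symm_apply_eq, coHom_mk, LinearEquiv.apply_symm_apply]
    rw [e] at hy
    exact hy
  by_contra hno
  -- a section of the projection of orbit sets
  let q : U → Quotient (orbSetoid ρ) := Quotient.mk (orbSetoid ρ)
  let q' : U ⧸ D → Quotient (orbSetoid (coHom B)) := Quotient.mk (orbSetoid (coHom B))
  let f : Quotient (orbSetoid ρ) → Quotient (orbSetoid (coHom B)) :=
    Quotient.lift (fun a => q' (Submodule.Quotient.mk a)) fun a b ⟨k, hk⟩ =>
      Quotient.sound ⟨k, (coHom_mk B k a).trans (congrArg Submodule.Quotient.mk hk)⟩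
  have hf : Function.Surjective f := fun c => by
    induction c using Quotient.inductionOn with
    | _ v =>
      obtain ⟨a, rfl⟩ := Submodule.Quotient.mk_surjective _ v
      exact ⟨q a, rfl⟩
  have hzq : q' (Submodule.Quotient.mk z) ≠ q' 0 := fun e => by
    obtain ⟨k, hk⟩ := Quotient.exact e
    exact hz ((Submodule.Quotient.mk_eq_zero _).1 ((coHom B k).injective (hk.trans (map_zero _).symm)))
  let s : Quotient (orbSetoid (coHom B)) → Quotient (orbSetoid ρ) := fun c =>
    if c = q' 0 then q 0 else if c = q' (Submodule.Quotient.mk z) then q z else Function.surjInv hf c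
  have hs : ∀ c, f (s c) = c := fun c => by
    simp only [s]
    split_ifs with h h'
    · rw [h]; rfl
    · rw [h']; rfl
    · exact Function.surjInv_eq hf c
  haveI : Finite (Quotient (orbSetoid ρ)) := Finite.of_surjective q Quotient.mk_surjective
  haveI : Finite (Quotient (orbSetoid (coHom B))) := Finite.of_surjective q' Quotient.mk_surjective
  haveI : Fintype (Quotient (orbSetoid ρ)) := Fintype.ofFinite _
  haveI : Fintype (Quotient (orbSetoid (coHom B))) := Fintype.ofFinite _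
  have hfD : ∀ a ∈ D, f (q a) = q' 0 := fun a ha => congrArg q' ((Submodule.Quotient.mk_eq_zero D).2 ha)
  have hfz : f (q (z + x)) = q' (Submodule.Quotient.mk z) := congrArg q' (by
    rw [Submodule.Quotient.mk_add, (Submodule.Quotient.mk_eq_zero D).2 hx, add_zero])
  have hfix : ∀ k, ρ k u = u := fun k => (mem_fix k).2
  have hux : q u ≠ q x₀ := fun e => by
    obtain ⟨k, hk⟩ := Quotient.exact e
    exact hind.2.2 ((hfix k).symm.trans hk)
  have hu0q : ∀ a, a ≠ 0 → q a ≠ q 0 := fun a ha e => by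
    obtain ⟨k, hk⟩ := Quotient.exact e
    exact ha ((ρ k).injective (hk.trans (map_zero _).symm))
  have hzx : q (z + x) ≠ q z := fun e => by
    obtain ⟨k, hk⟩ := Quotient.exact e.symm
    exact hno ⟨k, (mem_fix k).1, (mem_fix k).2, hk⟩
  have hs0 : s (q' 0) = q 0 := if_pos rfl
  have hsz : s (q' (Submodule.Quotient.mk z)) = q z := (if_neg hzq).trans (if_pos rfl)
  have hnot : ∀ a, (q a ≠ s (f (q a))) → q a ∉ Finset.univ.image s := fun a ha hmem => by
    obtain ⟨c, -, hc⟩ := Finset.mem_image.1 hmem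
    exact ha (by rw [← hc, hs])
  have n1 : q u ∉ Finset.univ.image s := hnot u (by rw [hfD u B.mem, hs0]; exact hu0q u hind.1)
  have n2 : q x₀ ∉ Finset.univ.image s := hnot x₀ (by rw [hfD x₀ hx₀, hs0]; exact hu0q x₀ hind.2.1)
  have n3 : q (z + x) ∉ Finset.univ.image s := hnot _ (by rw [hfz, hsz]; exact hzx)
  have n23 : q x₀ ≠ q (z + x) := fun e => hzq (by rw [← hfz, ← e, hfD x₀ hx₀])
  have n13 : q u ≠ q (z + x) := fun e => hzq (by rw [← hfz, ← e, hfD u B.mem])
  have hcard := Finset.card_le_univ (insert (q u) (insert (q x₀) (insert (q (z + x)) (Finset.univ.image s))))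
  rw [Finset.card_insert_of_notMem (by simp [hux, n13, n1]),
    Finset.card_insert_of_notMem (by simp [n23, n2]), Finset.card_insert_of_notMem n3,
    Finset.card_image_of_injective _ (Function.LeftInverse.injective hs), Finset.card_univ,
    ← Nat.card_eq_fintype_card, ← Nat.card_eq_fintype_card, ← norb, ← norb] at hcard
  omega

/-- Transitive on nonzero linear forms. -/
theorem IsAntiflag.trans_forms [Finite U] (hG : IsAntiflag G) {φ φ' : Module.Dual (ZMod 2) U}
    (hφ : φ ≠ 0) (hφ' : φ' ≠ 0) : ∃ g ∈ G, ∀ x, φ' (g x) = φ x := by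
  have hex : ∀ ψ : Module.Dual (ZMod 2) U, ψ ≠ 0 → ∃ a, ψ a = 1 := fun ψ hψ => by
    by_contra h
    exact hψ (LinearMap.ext fun a => by by_contra ha; exact h ⟨a, zmod_two_eq_one ha⟩)
  obtain ⟨a, ha⟩ := hex φ hφ
  obtain ⟨b, hb⟩ := hex φ' hφ'
  obtain ⟨g, hg, -, h⟩ := hG a b φ φ' ha hb
  exact ⟨g, hg, h⟩

theorem IsAntiflag.dual [Finite U] (hG : IsAntiflag G) :
    IsAntiflag (G.map (dualHom (U := U))) := by
  intro φ φ' ξ ξ' h h'
  obtain ⟨a, rfl⟩ := (Module.evalEquiv (ZMod 2) U).surjective ξ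
  obtain ⟨b, rfl⟩ := (Module.evalEquiv (ZMod 2) U).surjective ξ'
  obtain ⟨g, hg, hga, hgφ⟩ := hG a b φ φ' h h'
  refine ⟨dualHom g, Subgroup.mem_map_of_mem _ hg, LinearMap.ext fun y => ?_, fun η => ?_⟩
  · rw [dualHom_apply, ← hgφ, g.apply_symm_apply]
  · show η (g.symm b) = η a
    rw [← hga, g.symm_apply_apply]

/-- The blocks are subadditive. -/
theorem block_add_le [Finite U] (hG : IsAntiflag G) (hn : 2 ≤ Module.finrank (ZMod 2) U)
    (D : U → Submodule (ZMod 2) U) (hB : ∀ u, u ≠ 0 → Block G u (D u))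
    (hmap : ∀ g ∈ G, ∀ u : U, D (g u) = (D u).map (g : U →ₗ[ZMod 2] U))
    {u w : U} (huw : Indep2 u w) : D (u + w) ≤ D u ⊔ D w := by
  classical
  haveI : Fintype U := Fintype.ofFinite U
  haveI := finite_forms (U := U)
  haveI : Fintype (Module.Dual (ZMod 2) U) := Fintype.ofFinite _
  intro y hy
  by_contra hy'
  obtain ⟨φ, hφy, hφmap⟩ := Submodule.exists_dual_map_eq_bot_of_notMem (p := D u ⊔ D w) hy' inferInstance
  have hφy1 : φ y = 1 := zmod_two_eq_one hφy
  have hφ0 : φ ≠ 0 := fun e => hφy (by rw [e]; rfl)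
  have hkill : ∀ t ∈ D u ⊔ D w, φ t = 0 := fun t ht => by
    have := Submodule.mem_map_of_mem (f := φ) ht
    rwa [hφmap, Submodule.mem_bot] at this
  obtain ⟨E, BE⟩ := exists_block (IsAntiflag.dual hG)
    (by rw [Subspace.dual_finrank_eq]; exact hn) hφ0
  obtain ⟨A, hA⟩ : ∃ A : Module.Dual (ZMod 2) U → Finset U, ∀ ψ v,
      v ∈ A ψ ↔ v ≠ 0 ∧ ψ v = 0 ∧ ∃ t ∈ D v, ψ t = 1 :=
    ⟨fun ψ => Finset.univ.filter fun v => v ≠ 0 ∧ ψ v = 0 ∧ ∃ t ∈ D v, ψ t = 1, fun ψ v => by simp⟩
  obtain ⟨Bset, hBset⟩ : ∃ S : Finset U, ∀ v, v ∈ S ↔ φ v = 0 ∧ ∃ η ∈ E, η v = 1 :=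
    ⟨Finset.univ.filter fun v => φ v = 0 ∧ ∃ η ∈ E, η v = 1, fun v => by simp⟩
  have hAimg : ∀ g ∈ G, ∀ ψ ψ' : Module.Dual (ZMod 2) U, (∀ t, ψ' (g t) = ψ t) →
      ∀ v, v ∈ A ψ → g v ∈ A ψ' := by
    intro g hg ψ ψ' he v hv
    obtain ⟨hv0, hv1, t, ht, ht1⟩ := (hA ψ v).1 hv
    refine (hA ψ' _).2 ⟨fun e => hv0 (g.injective (e.trans (map_zero g).symm)), (he v).trans hv1,
      g t, ?_, (he t).trans ht1⟩
    rw [hmap g hg v]
    exact Submodule.mem_map_of_mem ht
  have hAorb : ∀ a ∈ A φ, ∀ b ∈ A φ, ∃ g ∈ G, (∀ t, φ (g t) = φ t) ∧ g a = b := by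
    intro a ha b hb
    obtain ⟨ha0, ha1, ta, hta, hta1⟩ := (hA φ a).1 ha
    obtain ⟨hb0, hb1, tb, htb, htb1⟩ := (hA φ b).1 hb
    obtain ⟨g, hg, hgab⟩ := hG.trans ha0 hb0
    obtain ⟨k, hk, hkb, hkφ⟩ := (hB b hb0).forms (φ.comp (g.symm : U →ₗ[ZMod 2] U)) φ
      (by show φ (g.symm b) = 0; rw [← hgab, g.symm_apply_apply, ha1])
      ⟨g ta, by rw [← hgab, hmap g hg a]; exact Submodule.mem_map_of_mem hta,
        by show φ (g.symm (g ta)) = 1; rw [g.symm_apply_apply, hta1]⟩ hb1 ⟨tb, htb, htb1⟩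
    refine ⟨k * g, G.mul_mem hk hg, fun t => ?_, by rw [LinearEquiv.mul_apply, hgab, hkb]⟩
    exact (hkφ (g t)).trans (congrArg φ (g.symm_apply_apply t))
  have hBorb : ∀ a ∈ Bset, ∀ b ∈ Bset, ∃ g ∈ G, (∀ t, φ (g t) = φ t) ∧ g a = b := by
    intro a ha b hb
    obtain ⟨ha1, η, hη, hηa⟩ := (hBset a).1 ha
    obtain ⟨hb1, η', hη', hηb⟩ := (hBset b).1 hb
    obtain ⟨g', hg', hgφ, hgev⟩ := BE.forms (Module.evalEquiv (ZMod 2) U a) (Module.evalEquiv (ZMod 2) U b)
      ha1 ⟨η, hη, hηa⟩ hb1 ⟨η', hη', hηb⟩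
    obtain ⟨g, hg, rfl⟩ := hg'
    refine ⟨g, hg, fun t => ?_, ?_⟩
    · have := LinearMap.congr_fun hgφ (g t)
      rw [dualHom_apply, g.symm_apply_apply] at this
      exact this.symm
    · have h : g.symm b = a := eq_of_forall_form fun θ => hgev θ
      rw [← h, g.apply_symm_apply]
  have hBinv : ∀ g ∈ G, (∀ t, φ (g t) = φ t) → ∀ v ∈ Bset, g v ∈ Bset := by
    intro g hg he v hv
    obtain ⟨hv1, η, hη, hη1⟩ := (hBset v).1 hv
    have hfix : dualHom g φ = φ := LinearMap.ext fun t => by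
      rw [dualHom_apply, ← he, g.apply_symm_apply]
    refine (hBset _).2 ⟨(he v).trans hv1, dualHom g η, ?_, ?_⟩
    · rw [← BE.inv (dualHom g) (Subgroup.mem_map_of_mem _ hg) hfix]
      exact Submodule.mem_map_of_mem hη
    · rw [dualHom_apply, g.symm_apply_apply, hη1]
  -- sizes
  have hcardU : (Finset.univ.filter fun v : U => φ v = 0).card * 2 = Fintype.card U := by
    rw [mul_comm, ← Finset.card_univ]
    exact two_mul_card_filter _ (fun v => v + y) _ (fun v => add_add_self v y)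
      (fun v _ => Finset.mem_univ _) (fun v _ => flip_zero φ hφy1 v)
  have hBsize : Fintype.card U ≤ 4 * Bset.card := by
    obtain ⟨η, hη, hφη⟩ := BE.exists_other
    obtain ⟨ξ, hξφ, hξη⟩ := exists_form_pair hφη
    obtain ⟨a, rfl⟩ := (Module.evalEquiv (ZMod 2) U).surjective ξ
    have h2 : 2 * ((Finset.univ.filter fun v : U => φ v = 0).filter fun v => η v = 1).card =
        (Finset.univ.filter fun v : U => φ v = 0).card :=
      two_mul_card_filter _ (fun v => v + a) _ (fun v => add_add_self v a)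
        (fun v hv => Finset.mem_filter.2 ⟨Finset.mem_univ _, by
          rw [map_add, (Finset.mem_filter.1 hv).2, show φ a = 0 from hξφ, add_zero]⟩)
        (fun v _ => flip_one η hξη v)
    have hle : ((Finset.univ.filter fun v : U => φ v = 0).filter fun v => η v = 1).card ≤ Bset.card :=
      Finset.card_le_card fun v hv => by
        simp only [Finset.mem_filter, Finset.mem_univ, true_and] at hv
        exact (hBset v).2 ⟨hv.1, η, hη, hv.2⟩
    omega
  have hAsize : Fintype.card U ≤ 4 * (A φ).card := by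
    have hconst : ∀ ψ, ψ ≠ 0 → (A ψ).card = (A φ).card := by
      intro ψ hψ
      obtain ⟨g, hg, he⟩ := hG.trans_forms hψ hφ0
      refine Finset.card_bij' (fun v _ => g v) (fun v _ => g.symm v) (fun v hv => hAimg g hg ψ φ he v hv)
        (fun v hv => hAimg g⁻¹ (G.inv_mem hg) φ ψ (fun t => ?_) v hv)
        (fun v _ => g.symm_apply_apply v) (fun v _ => g.apply_symm_apply v)
      show ψ (g.symm t) = φ t
      rw [← he, g.apply_symm_apply]
    have hrow : ∀ v : U, v ≠ 0 → Fintype.card (Module.Dual (ZMod 2) U) ≤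
        4 * ((Finset.univ.erase (0 : Module.Dual (ZMod 2) U)).filter fun ψ => v ∈ A ψ).card := by
      intro v hv
      obtain ⟨t, ht, hvt⟩ := (hB v hv).exists_other
      obtain ⟨θ, hθv, hθt⟩ := exists_form_pair hvt
      obtain ⟨θ', hθ'v⟩ := exists_form hv
      have h1 : (Finset.univ.filter fun ψ : Module.Dual (ZMod 2) U => ψ v = 0).card * 2 =
          Fintype.card (Module.Dual (ZMod 2) U) := by
        rw [mul_comm, ← Finset.card_univ]
        exact two_mul_card_filter _ (fun ψ => ψ + θ') _ (fun ψ => add_add_self ψ θ')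
          (fun ψ _ => Finset.mem_univ _) (fun ψ _ => by
            rw [LinearMap.add_apply, hθ'v]; generalize ψ v = c; revert c; decide)
      have h2 : 2 * ((Finset.univ.filter fun ψ : Module.Dual (ZMod 2) U => ψ v = 0).filter
          fun ψ => ψ t = 1).card = (Finset.univ.filter fun ψ : Module.Dual (ZMod 2) U => ψ v = 0).card :=
        two_mul_card_filter _ (fun ψ => ψ + θ) _ (fun ψ => add_add_self ψ θ)
          (fun ψ hψ => Finset.mem_filter.2 ⟨Finset.mem_univ _, by
            rw [LinearMap.add_apply, (Finset.mem_filter.1 hψ).2, hθv, add_zero]⟩)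
          (fun ψ _ => by rw [LinearMap.add_apply, hθt]; generalize ψ t = c; revert c; decide)
      have hle : ((Finset.univ.filter fun ψ : Module.Dual (ZMod 2) U => ψ v = 0).filter
          fun ψ => ψ t = 1).card ≤
          ((Finset.univ.erase (0 : Module.Dual (ZMod 2) U)).filter fun ψ => v ∈ A ψ).card :=
        Finset.card_le_card fun ψ hψ => by
          simp only [Finset.mem_filter, Finset.mem_univ, true_and] at hψ
          exact Finset.mem_filter.2 ⟨Finset.mem_erase.2 ⟨fun e => one_ne_zero (hψ.2.symm.trans (by rw [e]; rfl)),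
            Finset.mem_univ _⟩, (hA ψ v).2 ⟨hv, hψ.1, t, ht, hψ.2⟩⟩
      omega
    have hsum := Finset.sum_card_bipartiteAbove_eq_sum_card_bipartiteBelow
      (fun (v : U) (ψ : Module.Dual (ZMod 2) U) => v ∈ A ψ)
      (s := Finset.univ.erase (0 : U)) (t := Finset.univ.erase (0 : Module.Dual (ZMod 2) U))
    simp only [Finset.bipartiteAbove, Finset.bipartiteBelow] at hsum
    have hcardD : Fintype.card (Module.Dual (ZMod 2) U) = Fintype.card U := by
      rw [← Nat.card_eq_fintype_card, ← Nat.card_eq_fintype_card,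
        Module.natCard_eq_pow_finrank (K := ZMod 2), Module.natCard_eq_pow_finrank (K := ZMod 2) (V := U),
        Subspace.dual_finrank_eq]
    have hbelow : ∀ ψ ∈ Finset.univ.erase (0 : Module.Dual (ZMod 2) U),
        ((Finset.univ.erase (0 : U)).filter fun v => v ∈ A ψ).card = (A φ).card := fun ψ hψ => by
      rw [← hconst ψ (Finset.mem_erase.1 hψ).1]
      congr 1
      ext v
      simp only [Finset.mem_filter, Finset.mem_erase, Finset.mem_univ, and_true]
      exact ⟨fun h => h.2, fun h => ⟨((hA ψ v).1 h).1, h⟩⟩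
    rw [Finset.sum_congr rfl hbelow, Finset.sum_const, smul_eq_mul] at hsum
    have hbig : (Finset.univ.erase (0 : U)).card * Fintype.card U ≤
        4 * ((Finset.univ.erase (0 : Module.Dual (ZMod 2) U)).card * (A φ).card) := by
      rw [← hsum, Finset.mul_sum, ← smul_eq_mul, ← Finset.sum_const]
      exact Finset.sum_le_sum fun v hv => hcardD ▸ hrow v (Finset.mem_erase.1 hv).1
    have hc : (Finset.univ.erase (0 : Module.Dual (ZMod 2) U)).card = (Finset.univ.erase (0 : U)).card := by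
      rw [Finset.card_erase_of_mem (Finset.mem_univ _), Finset.card_erase_of_mem (Finset.mem_univ _),
        Finset.card_univ, Finset.card_univ, hcardD]
    rw [hc, mul_left_comm] at hbig
    refine Nat.le_of_mul_le_mul_left hbig (Finset.card_pos.2 ⟨u, ?_⟩)
    exact Finset.mem_erase.2 ⟨huw.1, Finset.mem_univ _⟩
  obtain ⟨c, hcA, hcB⟩ : ∃ c, c ∈ A φ ∧ c ∈ Bset := by
    by_contra h
    have hdis : Disjoint (A φ) Bset := Finset.disjoint_left.2 fun c h1 h2 => h ⟨c, h1, h2⟩
    have hle : (A φ ∪ Bset).card + 1 ≤ (Finset.univ.filter fun v : U => φ v = 0).card := by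
      have h0 : (0 : U) ∉ A φ ∪ Bset := by
        rw [Finset.mem_union]
        rintro (h1 | h1)
        · exact ((hA φ 0).1 h1).1 rfl
        · obtain ⟨-, η, -, he⟩ := (hBset 0).1 h1
          rw [map_zero] at he
          exact zero_ne_one he
      rw [← Finset.card_insert_of_notMem h0]
      refine Finset.card_le_card fun v hv => Finset.mem_filter.2 ⟨Finset.mem_univ _, ?_⟩
      rcases Finset.mem_insert.1 hv with rfl | hv
      · exact map_zero φ
      rcases Finset.mem_union.1 hv with hv | hv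
      · exact ((hA φ v).1 hv).2.1
      · exact ((hBset v).1 hv).1
    rw [Finset.card_union_of_disjoint hdis] at hle
    omega
  have hiff : ∀ v, v ∈ A φ ↔ v ∈ Bset := by
    intro v
    constructor
    · intro hv
      obtain ⟨g, hg, he, rfl⟩ := hAorb c hcA v hv
      exact hBinv g hg he c hcB
    · intro hv
      obtain ⟨g, hg, he, rfl⟩ := hBorb c hcB v hv
      exact hAimg g hg φ φ he c hcA
  have hzero : ∀ v ∈ ({u, w} : Set U), ∀ η ∈ E, η v = 0 := by
    intro v hv η hη
    have hv' : v ≠ 0 ∧ D v ≤ D u ⊔ D w := by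
      rcases hv with rfl | rfl
      exacts [⟨huw.1, le_sup_left⟩, ⟨huw.2.1, le_sup_right⟩]
    by_contra h
    obtain ⟨-, -, t, ht, ht1⟩ := (hA φ v).1 ((hiff v).2 ((hBset v).2
      ⟨hkill v (hv'.2 (hB v hv'.1).mem), η, hη, zmod_two_eq_one h⟩))
    exact zero_ne_one ((hkill t (hv'.2 ht)).symm.trans ht1)
  have huw0 : u + w ≠ 0 := fun e => huw.2.2 (by rw [← add_add_self u w, e, zero_add])
  have hmemA : u + w ∈ A φ := (hA φ _).2 ⟨huw0,
    by rw [map_add, hkill u (Submodule.mem_sup_left (hB u huw.1).mem),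
      hkill w (Submodule.mem_sup_right (hB w huw.2.1).mem), add_zero], y, hy, hφy1⟩
  obtain ⟨-, η, hη, hη1⟩ := (hBset _).1 ((hiff _).1 hmemA)
  rw [map_add, hzero u (by simp) η hη, hzero w (by simp) η hη, add_zero] at hη1
  exact zero_ne_one hη1

/-- Lemma W. -/
theorem exists_dsys [Finite U] (hG : IsAntiflag G) (h : ¬ TwoTrans G) : Nonempty (DSys G) := by
  classical
  obtain ⟨a, b, hab⟩ : ∃ a b : U, Indep2 a b := by
    by_contra hno
    exact h fun a b c d hab _ => absurd ⟨a, b, hab⟩ hno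
  have hn : 2 ≤ Module.finrank (ZMod 2) U := by
    haveI : Fintype U := Fintype.ofFinite U
    have h3 : ({0, a, b} : Finset U).card = 3 := by
      rw [Finset.card_insert_of_notMem, Finset.card_pair hab.2.2]
      simpa using ⟨hab.1.symm, hab.2.1.symm⟩
    have hle := Finset.card_le_univ ({0, a, b} : Finset U)
    rw [h3, ← Nat.card_eq_fintype_card, Module.natCard_eq_pow_finrank (K := ZMod 2) (V := U), Nat.card_zmod] at hle
    by_contra hlt
    interval_cases hk : Module.finrank (ZMod 2) U <;> simp [hk] at hle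
  obtain ⟨D₀, B₀⟩ := exists_block hG hn hab.1
  have htop : D₀ ≠ ⊤ := by
    intro e
    refine h fun p q r s hpq hrs => ?_
    obtain ⟨g, hg, hgp⟩ := hG.trans hpq.1 hab.1
    obtain ⟨g', hg', hgr⟩ := hG.trans hrs.1 hab.1
    have hind : ∀ (g : U ≃ₗ[ZMod 2] U) (p q : U), Indep2 p q → g p = a → Indep2 a (g q) := fun g p q hpq hgp =>
      ⟨hab.1, fun e => hpq.2.1 (g.injective (e.trans (map_zero g).symm)),
        fun e => hpq.2.2 (g.injective (hgp.trans e))⟩
    obtain ⟨k, hk, hka, hkq⟩ := B₀.trans_inner hG (hind g p q hpq hgp) (hind g' r s hrs hgr)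
      (e ▸ Submodule.mem_top) (e ▸ Submodule.mem_top)
    refine ⟨g'⁻¹ * k * g, G.mul_mem (G.mul_mem (G.inv_mem hg') hk) hg, ?_, ?_⟩
    · show g'.symm (k (g p)) = r
      rw [hgp, hka, ← hgr, LinearEquiv.symm_apply_apply]
    · show g'.symm (k (g q)) = s
      rw [hkq, LinearEquiv.symm_apply_apply]
  let mv : ∀ u : U, u ≠ 0 → (U ≃ₗ[ZMod 2] U) := fun u hu => (hG.trans hab.1 hu).choose
  have hmv : ∀ u hu, mv u hu ∈ G ∧ mv u hu a = u := fun u hu => (hG.trans hab.1 hu).choose_spec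
  let D : U → Submodule (ZMod 2) U := fun u =>
    if hu : u ≠ 0 then D₀.map (mv u hu : U →ₗ[ZMod 2] U) else ⊥
  have hD : ∀ g ∈ G, D (g a) = D₀.map (g : U →ₗ[ZMod 2] U) := by
    intro g hg
    have hne : g a ≠ 0 := fun e => hab.1 (g.injective (e.trans (map_zero g).symm))
    simp only [D, dif_pos hne]
    obtain ⟨hm, hma⟩ := hmv (g a) hne
    have h' := B₀.inv ((mv (g a) hne)⁻¹ * g) (G.mul_mem (G.inv_mem hm) hg)
      (by show (mv (g a) hne).symm (g a) = a; rw [LinearEquiv.symm_apply_eq, hma])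
    conv_lhs => rw [← h']
    rw [← Submodule.map_comp]
    congr 1
    exact LinearMap.ext fun t => (mv (g a) hne).apply_symm_apply _
  have hB : ∀ u, u ≠ 0 → Block G u (D u) := by
    intro u hu
    obtain ⟨g, hg, rfl⟩ := hG.trans hab.1 hu
    rw [hD g hg]
    exact B₀.map hg
  have hmap : ∀ g ∈ G, ∀ u : U, D (g u) = (D u).map (g : U →ₗ[ZMod 2] U) := by
    intro g hg u
    by_cases hu : u = 0
    · subst hu
      simp [D]
    obtain ⟨k, hk, rfl⟩ := hG.trans hab.1 hu
    rw [hD k hk, ← Submodule.map_comp, show g (k a) = (g * k) a from rfl, hD _ (G.mul_mem hg hk)]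
    rfl
  have hfin : ∀ u, u ≠ 0 → Module.finrank (ZMod 2) (D u) = Module.finrank (ZMod 2) D₀ := by
    intro u hu
    obtain ⟨g, hg, rfl⟩ := hG.trans hab.1 hu
    rw [hD g hg]
    exact (g.submoduleMap D₀).finrank_eq.symm
  refine ⟨{
    D := D
    d := Module.finrank (ZMod 2) D₀
    two_le := ?_
    proper := Submodule.finrank_lt htop
    mem_self := fun u => ?_
    finrank_D := hfin
    symm := fun u w hu hw hwu => ?_
    map_D := hmap
    add_le := fun u w huw => block_add_le hG hn D hB hmap huw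
    trans := fun u w hu hw => hG.trans hu hw
    trans_inner := fun u w w' hw hw' hwD hwD' => (hB u hw.1).trans_inner hG hw hw' hwD hwD'
    trans_coset := fun u z x hu hz hx => (hB u hu).trans_coset hG hz hx }⟩
  · obtain ⟨x, hx, hax⟩ := B₀.exists_other
    by_contra hlt
    have hle : Submodule.span (ZMod 2) ({a} : Set U) ≤ D₀ :=
      Submodule.span_le.2 (Set.singleton_subset_iff.2 B₀.mem)
    have e := Submodule.eq_of_le_of_finrank_le hle (by rw [finrank_span_singleton hab.1]; omega)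
    rcases mem_span_single (e ▸ hx) with rfl | rfl
    · exact hax.2.1 rfl
    · exact hax.2.2 rfl
  · by_cases hu : u = 0
    · subst hu; exact Submodule.zero_mem _
    · exact (hB u hu).mem
  · by_cases huw : u = w
    · subst huw; exact (hB u hu).mem
    obtain ⟨g, hg, hgu, hgw⟩ := exists_swap hG u w ⟨hu, hw, huw⟩
    rw [← hgu, hmap g hg u]
    exact ⟨w, hwu, hgw⟩

end Cfsg.Agent.Grp.Antiflag
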