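import Cfsg.Agent.Lib.Grp.Antiflag.KillA
import Cfsg.Agent.Lib.Grp.Antiflag.KillC
import Cfsg.Agent.Lib.Grp.Antiflag.WLemma
import Cfsg.Agent.Lib.Grp.Antiflag.Trichotomy
import Cfsg.Agent.Lib.Grp.Antiflag.SpreadDim


/-! Theorem R: the quotient group of a two-transitive linear group over `F₂` is two-transitive. -/

set_option autoImplicit false

namespace Cfsg.Agent.Grp.Antiflag

universe u

theorem twoTrans_qGroup {V : Type u} [AddCommGroup V] [Module (ZMod 2) V] [Finite V]
    (H : Subgroup (V ≃ₗ[ZMod 2] V)) (v : V) (hH : TwoTrans H) (hn : 3 ≤ Module.finrank (ZMod 2) V)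
    (hv : v ≠ 0) : TwoTrans (qGroup H v) := by
  have hn2 : 2 ≤ Module.finrank (ZMod 2) V := by omega
  have hs : Swaps H := fun p hp q q' h => exists_swap (isAntiflag_qGroup hH hn2 hp) q q' h
  by_contra hcon
  obtain ⟨S⟩ := exists_dsys (isAntiflag_qGroup hH hn2 hv) hcon
  rcases S.cases with h | h | h
  · exact kill_caseC hH hn2 hv hs S h (S.caseC_dim h)
  · exact kill_caseA hH hn2 hv hs S h
  · exact kill_caseB hH hn2 hv hs S h

end Cfsg.Agent.Grp.Antiflag
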