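import Cfsg.Agent.Lib.Grp.Antiflag.Geo

/-! The relations of a `DSys` on a quotient, lifted. -/

set_option autoImplicit false

namespace Cfsg.Agent.Grp.Antiflag

section Abstract

variable {U : Type*} [AddCommGroup U] [Module (ZMod 2) U] {G : Subgroup (U ≃ₗ[ZMod 2] U)}

theorem DSys.ne_of_not_mem (S : DSys G) {a z : U} (h : z ∉ S.D a) : z ≠ 0 ∧ z ≠ a :=
  ⟨fun e => h (e ▸ Submodule.zero_mem _), fun e => h (e ▸ S.mem_self a)⟩

theorem DSys.mem_D_map (S : DSys G) {g : U ≃ₗ[ZMod 2] U} (hg : g ∈ G) (a b : U) :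
    g b ∈ S.D (g a) ↔ b ∈ S.D a := by
  rw [S.map_D g hg, Submodule.mem_map_equiv, LinearEquiv.symm_apply_apply]

theorem DSys.two_image (S : DSys G) {g : U ≃ₗ[ZMod 2] U} (hg : g ∈ G) {a b : U} (h : Two S.D a b) :
    Two S.D (g a) (g b) := by
  obtain ⟨h1, w, hw0, hw1, hw2⟩ := h
  refine ⟨fun e => h1 ((S.mem_D_map hg a b).1 e), g w, by simpa using hw0, ?_, ?_⟩
  exacts [(S.mem_D_map hg a w).2 hw1, (S.mem_D_map hg b w).2 hw2]

theorem DSys.two_symm (S : DSys G) {a b : U} (ha : a ≠ 0) (h : Two S.D a b) : Two S.D b a := by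
  obtain ⟨h1, w, hw0, hw1, hw2⟩ := h
  exact ⟨fun e => h1 (S.symm b a (S.ne_of_not_mem h1).1 ha e), w, hw0, hw2, hw1⟩

theorem DSys.two_shift (S : DSys G) {a b : U} (ha : a ≠ 0) (h : Two S.D a b) : Two S.D a (a + b) := by
  obtain ⟨g, hg, g1, g2⟩ := S.trans_coset a b a ha h.1 (S.mem_self a)
  have := S.two_image hg h
  rwa [g1, g2, add_comm] at this

end Abstract

variable {V : Type*} [AddCommGroup V] [Module (ZMod 2) V] [Finite V]
  {H : Subgroup (V ≃ₗ[ZMod 2] V)} {v₀ : V}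

/-- Colour one. -/
def colRel (S : DSys (qGroup H v₀)) : LineRel H v₀ where
  P a b := Indep2 a b ∧ b ∈ S.D a
  inv g hg a b h := ⟨⟨by simpa using h.1.1, by simpa using h.1.2.1, fun e => h.1.2.2 (g.injective e)⟩,
    (S.mem_D_map hg a b).2 h.2⟩
  indep a b h := h.1
  symm a b h := ⟨indep2_symm h.1, S.symm a b h.1.1 h.1.2.1 h.2⟩
  shift a b h := ⟨⟨h.1.1, fun e => h.1.2.2 (by rw [eq_add_of_add' e, zero_add]),
      fun e => h.1.2.1 (by simpa using e)⟩,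
    Submodule.add_mem _ (S.mem_self a) h.2⟩

theorem colRel_iff (S : DSys (qGroup H v₀)) (a b : Qv v₀) :
    (colRel S).P a b ↔ Indep2 a b ∧ b ∈ S.D a := Iff.rfl

/-- Distance two. -/
def twoRel (S : DSys (qGroup H v₀)) : LineRel H v₀ where
  P a b := a ≠ 0 ∧ Two S.D a b
  inv g hg a b h := ⟨by simpa using h.1, S.two_image hg h.2⟩
  indep a b h := ⟨h.1, (S.ne_of_not_mem h.2.1).1, (S.ne_of_not_mem h.2.1).2.symm⟩
  symm a b h := ⟨(S.ne_of_not_mem h.2.1).1, S.two_symm h.1 h.2⟩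
  shift a b h := ⟨h.1, S.two_shift h.1 h.2⟩

/-- The subspaces `D`. -/
def dFam (S : DSys (qGroup H v₀)) : SubFam H v₀ where
  F := S.D
  map_F := S.map_D
  mem_F := S.mem_self

end Cfsg.Agent.Grp.Antiflag
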