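import Cfsg.Agent.Lib.Grp.Antiflag.Count
import Mathlib.RingTheory.LittleWedderburn

/-!
# Closed subspaces and coordinates of a spread

In `CaseC` every sum of blocks is a union of blocks.  A block `A` has a closed complement `C`, the blocks
meeting neither are graphs `a + phi y a`, and `phi (phi y b) a = phi y (k b a)` makes `A` a field as soon
as `C` is larger than one block.
-/

set_option autoImplicit false

namespace Cfsg.Agent.Grp.Antiflag

variable {U : Type*} [AddCommGroup U] [Module (ZMod 2) U] {G : Subgroup (U ≃ₗ[ZMod 2] U)}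

namespace DSys

variable (S : DSys G)

/-- Unions of blocks. -/
def Closed (W : Submodule (ZMod 2) U) : Prop := ∀ x ∈ W, x ≠ 0 → S.D x ≤ W

theorem closed_sup {P Q : Submodule (ZMod 2) U} (hP : S.Closed P) (hQ : S.Closed Q) : S.Closed (P ⊔ Q) := by
  intro x hx hx0
  obtain ⟨p, hp, q, hq, rfl⟩ := Submodule.mem_sup.1 hx
  by_cases p0 : p = 0
  · subst p0; simpa using (hQ q hq (by simpa using hx0)).trans le_sup_right
  by_cases q0 : q = 0
  · subst q0; simpa using (hP p hp p0).trans le_sup_left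
  exact (S.add_le p q ⟨p0, q0, fun h => hx0 (by rw [h]; exact add_self q)⟩).trans
    (sup_le_sup (hP p hp p0) (hQ q hq q0))

variable {S}

theorem CaseC.closed_D (hC : S.CaseC) {u : U} (hu : u ≠ 0) : S.Closed (S.D u) :=
  fun x hx hx0 => (hC u x hu hx0 hx).le

theorem CaseC.eq_of_mem (hC : S.CaseC) {x y z : U} (hx : x ≠ 0) (hy : y ≠ 0) (hz : z ≠ 0)
    (h1 : z ∈ S.D x) (h2 : z ∈ S.D y) : S.D x = S.D y :=
  (hC x z hx hz h1).symm.trans (hC y z hy hz h2)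

theorem CaseC.inter_bot (hC : S.CaseC) {W : Submodule (ZMod 2) U} (hW : S.Closed W) {x : U} (hx : x ∉ W) :
    S.D x ⊓ W = ⊥ := by
  have hx0 : x ≠ 0 := fun h => hx (h ▸ W.zero_mem)
  rw [Submodule.eq_bot_iff]
  rintro z ⟨hz1, hz2⟩
  by_contra hz0
  exact hx (hW z hz2 hz0 ((hC x z hx0 hz0 hz1).symm ▸ S.mem_self x))

theorem CaseC.exists_complement [Finite U] (hC : S.CaseC) {u : U} (hu : u ≠ 0) :
    ∃ C : Submodule (ZMod 2) U, S.Closed C ∧ S.D u ⊓ C = ⊥ ∧ S.D u ⊔ C = ⊤ := by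
  haveI : Nonempty {C : Submodule (ZMod 2) U // S.Closed C ∧ S.D u ⊓ C = ⊥} :=
    ⟨⟨⊥, fun x hx hx0 => absurd (by simpa using hx) hx0, inf_bot_eq _⟩⟩
  obtain ⟨⟨C, hCl, hCi⟩, hmax⟩ := Finite.exists_max
    (fun C : {C : Submodule (ZMod 2) U // S.Closed C ∧ S.D u ⊓ C = ⊥} => Module.finrank (ZMod 2) C.1)
  refine ⟨C, hCl, hCi, ?_⟩
  by_contra hne
  obtain ⟨x, hx⟩ : ∃ x, x ∉ S.D u ⊔ C := by
    by_contra hno
    push Not at hno
    exact hne (eq_top_iff.2 fun x _ => hno x)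
  have hx0 : x ≠ 0 := fun h => hx (h ▸ Submodule.zero_mem _)
  have hcl := S.closed_sup hCl (hC.closed_D hx0)
  by_cases hi : S.D u ⊓ (C ⊔ S.D x) = ⊥
  · have hlt : C < C ⊔ S.D x :=
      lt_of_le_not_ge le_sup_left fun h => hx (Submodule.mem_sup_right (h (Submodule.mem_sup_right (S.mem_self x))))
    have h1 := Submodule.finrank_lt_finrank_of_lt hlt
    have h2 : Module.finrank (ZMod 2) (C ⊔ S.D x : Submodule (ZMod 2) U) ≤ Module.finrank (ZMod 2) C :=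
      hmax ⟨_, hcl, hi⟩
    omega
  · obtain ⟨z, hz, hz0⟩ := Submodule.exists_mem_ne_zero_of_ne_bot hi
    obtain ⟨c, hc, b, hb, rfl⟩ := Submodule.mem_sup.1 hz.2
    have hb0 : b ≠ 0 := fun h => hz0 (by
      have h1 : c + b ∈ S.D u ⊓ C := ⟨hz.1, by simpa [h] using hc⟩
      rw [hCi] at h1; simpa using h1)
    have hbm : b ∈ S.D u ⊔ C := by
      have : b = (c + b) - c := by abel
      rw [this]
      exact Submodule.sub_mem _ (Submodule.mem_sup_left hz.1) (Submodule.mem_sup_right hc)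
    have hle := S.closed_sup (hC.closed_D hu) hCl b hbm hb0
    rw [hC x b hx0 hb0 hb] at hle
    exact hx (hle (S.mem_self x))

end DSys

/-- A spread with a distinguished block and a closed complement. -/
structure Frame (S : DSys G) where
  u₀ : U
  C : Submodule (ZMod 2) U
  hC : S.CaseC
  ne_zero : u₀ ≠ 0
  closed : S.Closed C
  inf_eq : S.D u₀ ⊓ C = ⊥
  sup_eq : S.D u₀ ⊔ C = ⊤

namespace Frame

variable {S : DSys G} (F : Frame S)

theorem split_unique {a a' c c' : U} (ha : a ∈ S.D F.u₀) (ha' : a' ∈ S.D F.u₀) (hc : c ∈ F.C) (hc' : c' ∈ F.C)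
    (h : a + c = a' + c') : a = a' ∧ c = c' := by
  have h1 : a - a' = c' - c := by rw [sub_eq_sub_iff_add_eq_add, h, add_comm]
  have h2 : a - a' ∈ S.D F.u₀ ⊓ F.C := ⟨(S.D _).sub_mem ha ha', h1 ▸ F.C.sub_mem hc' hc⟩
  rw [F.inf_eq, Submodule.mem_bot, sub_eq_zero] at h2
  subst h2
  exact ⟨rfl, add_left_cancel h⟩

theorem add_notMem {a y : U} (ha : a ∈ S.D F.u₀) (ha0 : a ≠ 0) (hy : y ∈ F.C) : a + y ∉ F.C := fun h => ha0 (by
  have : a ∈ S.D F.u₀ ⊓ F.C := ⟨ha, by simpa using F.C.sub_mem h hy⟩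
  rwa [F.inf_eq, Submodule.mem_bot] at this)

variable [Finite U]

theorem finrank_eq : Module.finrank (ZMod 2) U = S.d + Module.finrank (ZMod 2) F.C := by
  have := Submodule.finrank_sup_add_finrank_inf_eq (S.D F.u₀) F.C
  rw [F.sup_eq, F.inf_eq, finrank_top, finrank_bot, S.finrank_D _ F.ne_zero] at this
  omega

/-- A block outside `C` is a graph over the first block. -/
theorem exists_over {x : U} (hx : x ∉ F.C) {a : U} (ha : a ∈ S.D F.u₀) : ∃! c, c ∈ F.C ∧ a + c ∈ S.D x := by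
  have hx0 : x ≠ 0 := fun h => hx (h ▸ F.C.zero_mem)
  have hi := F.hC.inter_bot F.closed hx
  have hs : S.D x ⊔ F.C = ⊤ := by
    refine Submodule.eq_top_of_finrank_eq ?_
    have := Submodule.finrank_sup_add_finrank_inf_eq (S.D x) F.C
    rw [hi, finrank_bot, S.finrank_D x hx0] at this
    rw [F.finrank_eq]; omega
  obtain ⟨b, hb, c, hc, hbc⟩ := Submodule.mem_sup.1 (show a ∈ S.D x ⊔ F.C from hs ▸ Submodule.mem_top)
  refine ⟨-c, ⟨F.C.neg_mem hc, by rw [← hbc]; simpa using hb⟩, ?_⟩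
  rintro c' ⟨hc', hm⟩
  have h : c' + c ∈ S.D x ⊓ F.C := ⟨by
    have : c' + c = (a + c') - b := by rw [← hbc]; abel
    rw [this]; exact (S.D x).sub_mem hm hb, F.C.add_mem hc' hc⟩
  rw [hi, Submodule.mem_bot] at h
  exact eq_neg_of_add_eq_zero_left h

open Classical in
/-- The graph map. -/
noncomputable def φ (y a : U) : U :=
  if h : y ∈ F.C ∧ a ∈ S.D F.u₀ then
    (F.exists_over (F.add_notMem (S.mem_self _) F.ne_zero h.1) h.2).exists.choose
  else 0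

theorem φ_spec {y a : U} (hy : y ∈ F.C) (ha : a ∈ S.D F.u₀) :
    F.φ y a ∈ F.C ∧ a + F.φ y a ∈ S.D (F.u₀ + y) := by
  rw [φ, dif_pos ⟨hy, ha⟩]
  exact (F.exists_over (F.add_notMem (S.mem_self _) F.ne_zero hy) ha).exists.choose_spec

theorem φ_eq {y a c : U} (hy : y ∈ F.C) (ha : a ∈ S.D F.u₀) (hc : c ∈ F.C)
    (h : a + c ∈ S.D (F.u₀ + y)) : F.φ y a = c :=
  (F.exists_over (F.add_notMem (S.mem_self _) F.ne_zero hy) ha).unique (F.φ_spec hy ha) ⟨hc, h⟩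

theorem φ_self {y : U} (hy : y ∈ F.C) : F.φ y F.u₀ = y :=
  F.φ_eq hy (S.mem_self _) hy (S.mem_self _)

theorem φ_zero_left {a : U} (ha : a ∈ S.D F.u₀) : F.φ 0 a = 0 :=
  F.φ_eq F.C.zero_mem ha F.C.zero_mem (by simpa using ha)

theorem φ_zero_right {y : U} (hy : y ∈ F.C) : F.φ y 0 = 0 :=
  F.φ_eq hy (Submodule.zero_mem _) F.C.zero_mem (by simp)

theorem φ_add_right {y a b : U} (hy : y ∈ F.C) (ha : a ∈ S.D F.u₀) (hb : b ∈ S.D F.u₀) :
    F.φ y (a + b) = F.φ y a + F.φ y b :=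
  F.φ_eq hy ((S.D _).add_mem ha hb) (F.C.add_mem (F.φ_spec hy ha).1 (F.φ_spec hy hb).1) (by
    have := (S.D (F.u₀ + y)).add_mem (F.φ_spec hy ha).2 (F.φ_spec hy hb).2
    convert this using 1
    abel)

theorem eq_graph {y x : U} (hy : y ∈ F.C) (hx : x ∈ S.D (F.u₀ + y)) :
    ∃ a ∈ S.D F.u₀, x = a + F.φ y a := by
  obtain ⟨a, ha, c, hc, rfl⟩ := Submodule.mem_sup.1 (show x ∈ S.D F.u₀ ⊔ F.C from F.sup_eq ▸ Submodule.mem_top)
  exact ⟨a, ha, by rw [F.φ_eq hy ha hc hx]⟩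

theorem φ_mem {y a : U} (hy : y ∈ F.C) (hy0 : y ≠ 0) (ha : a ∈ S.D F.u₀) : F.φ y a ∈ S.D y := by
  have h := S.add_le F.u₀ y ⟨F.ne_zero, hy0, fun e => F.add_notMem (S.mem_self _) F.ne_zero F.C.zero_mem
    (by rw [add_zero]; exact e ▸ hy)⟩ (F.φ_spec hy ha).2
  obtain ⟨a', ha', e, he, heq⟩ := Submodule.mem_sup.1 h
  obtain ⟨-, h2⟩ := F.split_unique ha' ha (F.closed y hy hy0 he) (F.φ_spec hy ha).1 heq
  exact h2 ▸ he

theorem φ_inj {y a : U} (hy : y ∈ F.C) (hy0 : y ≠ 0) (ha : a ∈ S.D F.u₀) (h : F.φ y a = 0) : a = 0 := by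
  by_contra ha0
  have h1 : a ∈ S.D (F.u₀ + y) := by simpa [h] using (F.φ_spec hy ha).2
  have hs : F.u₀ + y ≠ 0 := fun e => F.add_notMem (S.mem_self _) F.ne_zero hy (e ▸ F.C.zero_mem)
  have h2 := F.hC.eq_of_mem F.ne_zero hs ha0 ha h1
  have h3 : y ∈ S.D F.u₀ ⊓ F.C := ⟨by
    simpa using (S.D F.u₀).sub_mem (h2 ▸ S.mem_self (F.u₀ + y) : F.u₀ + y ∈ S.D F.u₀) (S.mem_self _), hy⟩
  rw [F.inf_eq, Submodule.mem_bot] at h3
  exact hy0 h3

theorem φ_surj {y c : U} (hy : y ∈ F.C) (hy0 : y ≠ 0) (hc : c ∈ S.D y) :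
    ∃ a ∈ S.D F.u₀, F.φ y a = c := by
  have hs : F.u₀ + y ≠ 0 := fun e => F.add_notMem (S.mem_self _) F.ne_zero hy (e ▸ F.C.zero_mem)
  have he : F.u₀ + (F.u₀ + y) = y := by rw [← add_assoc, add_self, zero_add]
  have h : S.D y ≤ S.D F.u₀ ⊔ S.D (F.u₀ + y) := by
    conv_lhs => rw [← he]
    exact S.add_le _ _ ⟨F.ne_zero, hs, fun e => hy0 (by simpa using e)⟩
  obtain ⟨a', ha', b, hb, rfl⟩ := Submodule.mem_sup.1 (h hc)
  obtain ⟨a, ha, rfl⟩ := F.eq_graph hy hb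
  refine ⟨a, ha, ?_⟩
  exact (F.split_unique (Submodule.zero_mem _) ((S.D _).add_mem ha' ha) (F.closed y hy hy0 hc) (F.φ_spec hy ha).1
    (by abel)).2.symm

theorem φ_add_left_disj {y z a : U} (hy : y ∈ F.C) (hz : z ∈ F.C) (hy0 : y ≠ 0) (hz0 : z ≠ 0)
    (hd : z ∉ S.D y) (ha : a ∈ S.D F.u₀) : F.φ (y + z) a = F.φ y a + F.φ z a := by
  have key : ∀ {y z : U}, y ∈ F.C → z ∈ F.C → z ≠ 0 → F.φ (y + z) a - F.φ y a ∈ S.D z := by
    intro y z hy hz hz0
    have hx := F.add_notMem (S.mem_self _) F.ne_zero hy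
    have h := S.add_le (F.u₀ + y) z ⟨fun e => hx (e ▸ F.C.zero_mem), hz0, fun e => hx (e ▸ hz)⟩
    rw [add_assoc] at h
    obtain ⟨b, hb, e, he, hbe⟩ := Submodule.mem_sup.1 (h (F.φ_spec (F.C.add_mem hy hz) ha).2)
    obtain ⟨a', ha', rfl⟩ := F.eq_graph hy hb
    obtain ⟨h1, h2⟩ := F.split_unique ha' ha (F.C.add_mem (F.φ_spec hy ha').1 (F.closed z hz hz0 he))
      (F.φ_spec (F.C.add_mem hy hz) ha).1 (by rw [← hbe]; abel)
    subst h1
    rw [← h2]; simpa using he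
  have h1 : F.φ (y + z) a - F.φ y a - F.φ z a ∈ S.D z := (S.D z).sub_mem (key hy hz hz0) (F.φ_mem hz hz0 ha)
  have h2 : F.φ (y + z) a - F.φ y a - F.φ z a ∈ S.D y := by
    have := key hz hy hy0
    rw [add_comm z y] at this
    rw [sub_right_comm]
    exact (S.D y).sub_mem this (F.φ_mem hy hy0 ha)
  by_contra hne
  have hne' : F.φ (y + z) a - F.φ y a - F.φ z a ≠ 0 := fun e => hne (by
    rw [sub_sub, sub_eq_zero] at e; exact e)
  exact hd (F.hC.eq_of_mem hy0 hz0 hne' h2 h1 ▸ S.mem_self z)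

variable (hbig : S.d < Module.finrank (ZMod 2) F.C)
include hbig

theorem exists_other {y : U} (hy : y ≠ 0) : ∃ w ∈ F.C, w ∉ S.D y := by
  by_contra hno
  push Not at hno
  have := Submodule.finrank_mono (show F.C ≤ S.D y from hno)
  rw [S.finrank_D y hy] at this
  omega

theorem φ_add_left {y z a : U} (hy : y ∈ F.C) (hz : z ∈ F.C) (ha : a ∈ S.D F.u₀) :
    F.φ (y + z) a = F.φ y a + F.φ z a := by
  by_cases hy0 : y = 0
  · rw [hy0, zero_add, F.φ_zero_left ha, zero_add]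
  by_cases hz0 : z = 0
  · rw [hz0, add_zero, F.φ_zero_left ha, add_zero]
  by_cases hd : z ∈ S.D y
  · obtain ⟨w, hw, hwy⟩ := F.exists_other hbig hy0
    have hw0 : w ≠ 0 := fun e => hwy (e ▸ Submodule.zero_mem _)
    have hzw : z + w ≠ 0 := fun e => hwy (by
      rw [(eq_neg_of_add_eq_zero_right e : w = -z)]; exact (S.D y).neg_mem hd)
    have h2 : F.φ (y + (z + w)) a = F.φ y a + F.φ (z + w) a :=
      F.φ_add_left_disj hy (F.C.add_mem hz hw) hy0 hzw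
        (fun h => hwy (by simpa using (S.D y).sub_mem h hd)) ha
    have hzy : S.D z = S.D y := F.hC y z hy0 hz0 hd
    rw [F.φ_add_left_disj hz hw hz0 hw0 (hzy ▸ hwy) ha, ← add_assoc y z w] at h2
    by_cases hyz : y + z = 0
    · have hyz' : y = z := (eq_neg_of_add_eq_zero_left hyz).trans (neg_eq_of_add_eq_zero_right (add_self z))
      subst hyz'
      rw [add_self, add_self, F.φ_zero_left ha]
    · have hd' : w ∉ S.D (y + z) := by
        rw [F.hC y (y + z) hy0 hyz ((S.D y).add_mem (S.mem_self y) hd)]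
        exact hwy
      rw [F.φ_add_left_disj (F.C.add_mem hy hz) hw hyz hw0 hd' ha, ← add_assoc] at h2
      exact add_right_cancel h2
  · exact F.φ_add_left_disj hy hz hy0 hz0 hd ha

end Frame

end Cfsg.Agent.Grp.Antiflag
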