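import Cfsg.Agent.Lib.Grp.Antiflag.Quot

/-! From two-transitivity of the quotient groups to the structure of the group, by induction on the
dimension: everything, or dimension four and order 2520. -/

set_option autoImplicit false

namespace Cfsg.Agent.Grp.Antiflag

universe u

/-- What the reducible case provides. -/
def QuotStep : Prop :=
  ∀ {V : Type u} [AddCommGroup V] [Module (ZMod 2) V] [Finite V] (H : Subgroup (V ≃ₗ[ZMod 2] V)) (v : V),
    TwoTrans H → 3 ≤ Module.finrank (ZMod 2) V → v ≠ 0 → TwoTrans (qGroup H v)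

/-- What the cocycle lemma provides. -/
def CocycleStep : Prop :=
  ∀ {U : Type u} [AddCommGroup U] [Module (ZMod 2) U] [Finite U], 4 ≤ Module.finrank (ZMod 2) U →
    ∀ c : (U ≃ₗ[ZMod 2] U) → Module.Dual (ZMod 2) U,
      (∀ g h, c (g * h) = c g + dualHom g (c h)) → ∃ φ0, ∀ g, c g = φ0 + dualHom g φ0

variable {V : Type u} [AddCommGroup V] [Module (ZMod 2) V] [Finite V]

theorem finite_aut : Finite (V ≃ₗ[ZMod 2] V) :=
  Finite.of_injective (fun g => (g : V → V)) DFunLike.coe_injective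

theorem eq_top_of_dim_two {G : Subgroup (V ≃ₗ[ZMod 2] V)} (hG : TwoTrans G)
    (h2 : Module.finrank (ZMod 2) V = 2) : G = ⊤ := by
  refine eq_top_iff.2 fun g _ => ?_
  let e := Module.finBasisOfFinrankEq (ZMod 2) V h2
  have hi : Indep2 (e 0) (e 1) := ⟨e.ne_zero 0, e.ne_zero 1, fun h => absurd (e.injective h) (by decide)⟩
  have hi' : Indep2 (g (e 0)) (g (e 1)) :=
    ⟨by simpa using hi.1, by simpa using hi.2.1, fun h => hi.2.2 (g.injective h)⟩
  obtain ⟨k, hk, h0, h1⟩ := hG _ _ _ _ hi hi'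
  have : k = g := LinearEquiv.toLinearMap_injective (e.ext fun i => by
    fin_cases i
    exacts [h0, h1])
  exact this ▸ hk

theorem card_aut {m : ℕ} (hm : Module.finrank (ZMod 2) V = m) :
    Nat.card (V ≃ₗ[ZMod 2] V) = ∏ i : Fin m, (2 ^ m - 2 ^ (i : ℕ)) := by
  let e : V ≃ₗ[ZMod 2] (Fin m → ZMod 2) :=
    (Module.finBasisOfFinrankEq (ZMod 2) V hm).equivFun
  let t : (V ≃ₗ[ZMod 2] V) ≃ ((Fin m → ZMod 2) ≃ₗ[ZMod 2] (Fin m → ZMod 2)) :=
    { toFun := fun g => (e.symm.trans g).trans e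
      invFun := fun g => (e.trans g).trans e.symm
      left_inv := fun g => LinearEquiv.ext fun x => by simp
      right_inv := fun g => LinearEquiv.ext fun x => by simp }
  rw [Nat.card_congr t, ← Nat.card_congr (LinearMap.GeneralLinearGroup.generalLinearEquiv _ _).toEquiv,
    ← Nat.card_congr (Matrix.GeneralLinearGroup.toLin (n := Fin m) (R := ZMod 2)).toEquiv,
    Matrix.card_GL_field]
  simp [ZMod.card]

variable {H : Subgroup (V ≃ₗ[ZMod 2] V)} {v : V}

/-- The forms `ψ` on the quotient such that the transvection `x ↦ x + ψ(x̄) v` is in `H`. -/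
def IsTv (H : Subgroup (V ≃ₗ[ZMod 2] V)) (v : V) (ψ : Module.Dual (ZMod 2) (Qv v)) : Prop :=
  ∃ h ∈ H, ∀ x, h x = x + ψ (Submodule.Quotient.mk x) • v

theorem forms_trans {G : Subgroup (V ≃ₗ[ZMod 2] V)} (hG : IsAntiflag G)
    {ψ ψ' : Module.Dual (ZMod 2) V} (h : ψ ≠ 0) (h' : ψ' ≠ 0) : ∃ g ∈ G, ∀ x, ψ' (g x) = ψ x := by
  obtain ⟨u, hu⟩ : ∃ u, ψ u ≠ 0 := by by_contra hc; push Not at hc; exact h (LinearMap.ext hc)
  obtain ⟨u', hu'⟩ : ∃ u, ψ' u ≠ 0 := by by_contra hc; push Not at hc; exact h' (LinearMap.ext hc)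
  obtain ⟨g, hg, -, hg'⟩ := hG u u' ψ ψ' ((zmod_two_cases _).resolve_left hu) ((zmod_two_cases _).resolve_left hu')
  exact ⟨g, hg, hg'⟩

theorem all_tv (hG : IsAntiflag (qGroup H v)) {h : V ≃ₗ[ZMod 2] V} (hh : h ∈ H) (h1 : h ≠ 1) (hv : h v = v)
    (hq : ∀ x, h x = x ∨ h x = x + v) : ∀ ψ, IsTv H v ψ := by
  classical
  have hv0 : v ≠ 0 := by
    rintro rfl
    exact h1 (LinearEquiv.ext fun x => (hq x).elim id fun e => e.trans (add_zero x))
  let f : V → ZMod 2 := fun x => if h x = x then 0 else 1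
  have hf : ∀ x, h x = x + f x • v := fun x => by
    by_cases e : h x = x
    · simp [f, e]
    · simp [f, e, (hq x).resolve_left e]
  have hfu : ∀ x (c : ZMod 2), h x = x + c • v → f x = c := fun x c e => by
    rw [hf x] at e
    exact smul_left_injective (ZMod 2) hv0 (add_left_cancel e)
  let F : V →+ ZMod 2 := AddMonoidHom.mk' f fun x y => hfu _ _ (by
    rw [map_add, hf x, hf y, add_smul]; abel)
  let ψ0 : Module.Dual (ZMod 2) (Qv v) := (line v).liftQ (F.toZModLinearMap 2) (fun z hz => by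
    rw [LinearMap.mem_ker]
    rcases mem_line.1 hz with rfl | rfl
    · exact map_zero F
    · exact hfu _ 0 (by simp [hv]))
  have hψ0 : IsTv H v ψ0 := ⟨h, hh, hf⟩
  have hne : ψ0 ≠ 0 := fun e => h1 (LinearEquiv.ext fun x => by
    have : f x = 0 := LinearMap.congr_fun e (Submodule.Quotient.mk x)
    rw [hf x, this, zero_smul, add_zero]; rfl)
  intro ψ
  by_cases hψ : ψ = 0
  · exact ⟨1, H.one_mem, fun x => by simp [hψ]⟩
  obtain ⟨g, hg, hgψ⟩ := forms_trans hG hne hψ
  obtain ⟨k, hk, hkv, hkq⟩ := of_mem_qGroup hg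
  refine ⟨k * h * k⁻¹, H.mul_mem (H.mul_mem hk hh) (H.inv_mem hk), fun x => ?_⟩
  show k (h (k.symm x)) = _
  rw [hf, map_add, LinearEquiv.apply_symm_apply, map_smul, hkv]
  congr 2
  show ψ0 (Submodule.Quotient.mk (k.symm x)) = _
  rw [← hgψ, hkq, LinearEquiv.apply_symm_apply]

theorem top_of_all_tv (hH : TwoTrans H) (hn : 2 ≤ Module.finrank (ZMod 2) V) (hv : v ≠ 0)
    (htv : ∀ ψ, IsTv H v ψ) (hG : qGroup H v = ⊤) : H = ⊤ := by
  classical
  refine eq_top_iff.2 fun g _ => ?_
  obtain ⟨h0, hh0, h0v⟩ := exists_map hH hn hv (c := g v) (by simpa using hv)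
  let g' := h0⁻¹ * g
  have hg' : g' v = v := (LinearEquiv.symm_apply_eq h0).2 h0v.symm
  have : quotHom v ⟨g', hg'⟩ ∈ qGroup H v := hG ▸ Subgroup.mem_top _
  obtain ⟨h1, hh1, h1v, h1q⟩ := of_mem_qGroup this
  have hd : ∀ x, g' x = h1 x ∨ g' x = h1 x + v := fun x => by
    have := h1q x
    rw [quotHom_mk] at this
    exact (mk_eq_iff.1 this.symm)
  let f : V → ZMod 2 := fun x => if g' x = h1 x then 0 else 1
  have hf : ∀ x, g' x = h1 x + f x • v := fun x => by
    by_cases e : g' x = h1 x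
    · simp [f, e]
    · simp [f, e, (hd x).resolve_left e]
  have hfu : ∀ x (c : ZMod 2), g' x = h1 x + c • v → f x = c := fun x c e => by
    rw [hf x] at e
    exact smul_left_injective (ZMod 2) hv (add_left_cancel e)
  let F : V →+ ZMod 2 := AddMonoidHom.mk' f fun x y => hfu _ _ (by
    rw [map_add, map_add, hf x, hf y, add_smul]; abel)
  let ψ0 : Module.Dual (ZMod 2) (Qv v) := (line v).liftQ (F.toZModLinearMap 2) (fun z hz => by
    rw [LinearMap.mem_ker]
    rcases mem_line.1 hz with rfl | rfl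
    · exact map_zero F
    · exact hfu _ 0 (by simp [hg', h1v]))
  obtain ⟨t, ht, htx⟩ := htv ψ0
  have : g' = h1 * t := LinearEquiv.ext fun x => by
    show g' x = h1 (t x)
    rw [htx, map_add, map_smul, h1v, hf x]
    rfl
  have hgH : g' ∈ H := this ▸ H.mul_mem hh1 ht
  have : g = h0 * g' := by simp [g']
  exact this ▸ H.mul_mem hh0 hgH

theorem card_qGroup (hinj : ∀ h ∈ H, h v = v → (∀ x, h x = x ∨ h x = x + v) → h = 1) :
    Nat.card (qGroup H v) = Nat.card (H.subgroupOf (fixSub v)) := by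
  haveI := finite_aut (V := V)
  refine (Nat.card_congr (Equiv.ofBijective (fun k : H.subgroupOf (fixSub v) =>
    (⟨quotHom v k.1, Subgroup.mem_map_of_mem _ k.2⟩ : qGroup H v)) ⟨?_, ?_⟩)).symm
  · intro a b hab
    have h1 : quotHom v (a.1⁻¹ * b.1) = 1 := by
      rw [map_mul, map_inv, inv_mul_eq_one]; exact congrArg Subtype.val hab
    have h2 : (a.1⁻¹ * b.1).1 = 1 := hinj _ (H.mul_mem (H.inv_mem a.2) b.2) (a.1⁻¹ * b.1).2 fun x => by
      have := LinearEquiv.congr_fun h1 (Submodule.Quotient.mk x)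
      rw [quotHom_mk] at this
      exact mk_eq_iff.1 (this.symm : (Submodule.Quotient.mk x : Qv v) = _)
    exact Subtype.ext (inv_mul_eq_one.1 (Subtype.ext h2))
  · rintro ⟨g, k, hk, rfl⟩
    exact ⟨⟨k, hk⟩, rfl⟩

theorem pow_dvd_card_stab (hH : TwoTrans H) (hn : 2 ≤ Module.finrank (ZMod 2) V) (hv : v ≠ 0) :
    2 ^ Module.finrank (ZMod 2) (Qv v) ∣ Nat.card (H.subgroupOf (fixSub v)) := by
  classical
  haveI := finite_aut (V := V)
  let K := H.subgroupOf (fixSub v)
  letI aY : MulAction K (Module.Dual (ZMod 2) V) :=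
    { smul := fun k ψ => dualHom k.1.1 ψ
      one_smul := fun ψ => LinearMap.ext fun x => rfl
      mul_smul := fun _ _ ψ => LinearMap.ext fun x => rfl }
  obtain ⟨f, hf, -⟩ := Submodule.exists_dual_map_eq_bot_of_notMem
    (show v ∉ (⊥ : Submodule (ZMod 2) V) by simpa using hv) inferInstance
  have hf1 : f v = 1 := (zmod_two_cases _).resolve_left hf
  have hY : MulAction.orbit K f = {ψ : Module.Dual (ZMod 2) V | ψ v = 1} := by
    ext ψ
    constructor
    · rintro ⟨k, rfl⟩
      show f (k.1.1.symm v) = 1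
      rw [show k.1.1.symm v = v from (LinearEquiv.symm_apply_eq _).2 (k.1.2 : k.1.1 v = v).symm, hf1]
    · intro hψ
      obtain ⟨h, hh, h1, h2⟩ := exists_fix_dual hH hn hv hf1 hψ
      refine ⟨⟨⟨h, h1⟩, hh⟩, LinearMap.ext fun x => ?_⟩
      show f (h.symm x) = ψ x
      rw [← h2 (h.symm x), LinearEquiv.apply_symm_apply]
  rw [← card_dual_one hv, ← hY, ← MulAction.index_stabilizer]
  exact Subgroup.index_dvd_card _

theorem card_of_stab (hH : TwoTrans H) (hn : 2 ≤ Module.finrank (ZMod 2) V) (hv : v ≠ 0) :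
    Nat.card H = (2 ^ Module.finrank (ZMod 2) V - 1) * Nat.card (H.subgroupOf (fixSub v)) := by
  classical
  haveI := finite_aut (V := V)
  letI aV : MulAction H V :=
    { smul := fun k x => (k : V ≃ₗ[ZMod 2] V) x, one_smul := fun _ => rfl, mul_smul := fun _ _ _ => rfl }
  have horb : MulAction.orbit H v = {0}ᶜ := by
    ext x
    rw [Set.mem_compl_singleton_iff]
    constructor
    · rintro ⟨k, rfl⟩
      show (k : V ≃ₗ[ZMod 2] V) v ≠ 0
      simpa using hv
    · intro hx
      obtain ⟨h, hh, he⟩ := exists_map hH hn hv hx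
      exact ⟨⟨h, hh⟩, he⟩
  have h1 := Subgroup.index_mul_card (MulAction.stabilizer H v)
  rw [MulAction.index_stabilizer, horb, Set.ncard_compl, Set.ncard_singleton,
    Module.natCard_eq_pow_finrank (K := ZMod 2), Nat.card_zmod] at h1
  rw [← h1]
  congr 1
  exact Nat.card_congr
    { toFun := fun k => ⟨⟨k.1.1, k.2⟩, k.1.2⟩
      invFun := fun k => ⟨⟨k.1.1, k.2⟩, k.1.2⟩
      left_inv := fun _ => rfl
      right_inv := fun _ => rfl }

/-- No complement to the translations is transitive on them when the quotient group is everything. -/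
theorem exists_kernel (hC : CocycleStep.{u}) (hH : TwoTrans H) (hn : 2 ≤ Module.finrank (ZMod 2) V)
    (hv : v ≠ 0) (hk : 4 ≤ Module.finrank (ZMod 2) (Qv v)) (hG : qGroup H v = ⊤) :
    ¬ ∀ h ∈ H, h v = v → (∀ x, h x = x ∨ h x = x + v) → h = 1 := by
  classical
  intro hinj
  have hs : ∀ g : Qv v ≃ₗ[ZMod 2] Qv v, ∃ h, (h ∈ H ∧ h v = v) ∧
      ∀ x, g (Submodule.Quotient.mk x) = Submodule.Quotient.mk (h x) := fun g => by
    obtain ⟨h, a, b, c⟩ := of_mem_qGroup (show g ∈ qGroup H v from hG ▸ Subgroup.mem_top g)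
    exact ⟨h, ⟨a, b⟩, c⟩
  choose s hsH hsq using hs
  obtain ⟨f, hf, -⟩ := Submodule.exists_dual_map_eq_bot_of_notMem
    (show v ∉ (⊥ : Submodule (ZMod 2) V) by simpa using hv) inferInstance
  have hf1 : f v = 1 := (zmod_two_cases _).resolve_left hf
  have hsv : ∀ g, (s g).symm v = v := fun g => (LinearEquiv.symm_apply_eq _).2 (hsH g).2.symm
  have huniq : ∀ g (h : V ≃ₗ[ZMod 2] V), h ∈ H → h v = v →
      (∀ x, g (Submodule.Quotient.mk x) = Submodule.Quotient.mk (h x)) → h = s g := by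
    intro g h hh hhv hhq
    have h0 : (s g)⁻¹ * h = 1 := hinj _ (H.mul_mem (H.inv_mem (hsH g).1) hh)
      (by show (s g).symm (h v) = v; rw [hhv, hsv]) fun x => by
        have e : (Submodule.Quotient.mk (h x) : Qv v) = Submodule.Quotient.mk (s g x) := by rw [← hhq, hsq]
        show (s g).symm (h x) = x ∨ (s g).symm (h x) = x + v
        rcases mk_eq_iff.1 e.symm with e' | e' <;> rw [e']
        · exact Or.inl (LinearEquiv.symm_apply_apply _ _)
        · exact Or.inr (by rw [map_add, LinearEquiv.symm_apply_apply, hsv])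
    exact (inv_mul_eq_one.1 h0).symm
  have hmul : ∀ g g', s (g * g') = s g * s g' := fun g g' =>
    (huniq _ _ (H.mul_mem (hsH g).1 (hsH g').1)
      (show s g (s g' v) = v by rw [(hsH g').2, (hsH g).2])
      fun x => by
        show g (g' _) = Submodule.Quotient.mk (s g (s g' x))
        rw [hsq, hsq]).symm
  let c : (Qv v ≃ₗ[ZMod 2] Qv v) → Module.Dual (ZMod 2) (Qv v) := fun g =>
    (line v).liftQ (dualHom (s g) f + f) (fun z hz => by
      rw [LinearMap.mem_ker]
      rcases mem_line.1 hz with rfl | rfl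
      · exact map_zero _
      · show f ((s g).symm z) + f z = 0
        rw [hsv, add_self'])
  have hc : ∀ g x, c g (Submodule.Quotient.mk x) = f ((s g).symm x) + f x := fun g x => rfl
  have hsymm : ∀ (g : Qv v ≃ₗ[ZMod 2] Qv v) x,
      g.symm (Submodule.Quotient.mk x) = Submodule.Quotient.mk ((s g).symm x) := fun g x => by
    rw [LinearEquiv.symm_apply_eq, hsq, LinearEquiv.apply_symm_apply]
  obtain ⟨φ0, hφ0⟩ := hC hk c fun g g' => LinearMap.ext fun q => by
    obtain ⟨x, rfl⟩ := Submodule.Quotient.mk_surjective _ q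
    rw [LinearMap.add_apply, dualHom_apply, hsymm, hc, hc, hc, hmul]
    show f ((s g').symm ((s g).symm x)) + f x = _
    generalize f ((s g').symm ((s g).symm x)) = a
    generalize f ((s g).symm x) = b
    generalize f x = d
    revert a b d; decide
  let φ1 : Module.Dual (ZMod 2) V := f + φ0.comp (line v).mkQ
  have hφ1v : φ1 v = 1 := by
    show f v + φ0 (Submodule.Quotient.mk v) = 1
    rw [mk_eq_zero.2 (Or.inr rfl), map_zero, add_zero, hf1]
  have hfix : ∀ h ∈ H, h v = v → ∀ x, φ1 (h x) = φ1 x := by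
    intro h hh hhv y
    have e1 : h = s (quotHom v ⟨h, hhv⟩) := huniq _ _ hh hhv fun x => rfl
    have := LinearMap.congr_fun (hφ0 (quotHom v ⟨h, hhv⟩)) (Submodule.Quotient.mk (h y))
    rw [LinearMap.add_apply, dualHom_apply, hsymm, hc, ← e1, LinearEquiv.symm_apply_apply] at this
    show f (h y) + φ0 (Submodule.Quotient.mk (h y)) = f y + φ0 (Submodule.Quotient.mk y)
    generalize f (h y) = a at this ⊢
    generalize f y = b at this ⊢
    generalize φ0 (Submodule.Quotient.mk (h y)) = a' at this ⊢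
    generalize φ0 (Submodule.Quotient.mk y) = b' at this ⊢
    revert a b a' b'; decide
  obtain ⟨u, hu⟩ : ∃ u : Qv v, u ≠ 0 := by
    by_contra hc'
    push Not at hc'
    haveI : Subsingleton (Qv v) := ⟨fun a b => (hc' a).trans (hc' b).symm⟩
    rw [Module.finrank_zero_of_subsingleton] at hk
    omega
  obtain ⟨ψ, hψ, -⟩ := Submodule.exists_dual_map_eq_bot_of_notMem
    (show u ∉ (⊥ : Submodule (ZMod 2) (Qv v)) by simpa using hu) inferInstance
  obtain ⟨x, rfl⟩ := Submodule.Quotient.mk_surjective _ u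
  obtain ⟨h, hh, hhv, h2⟩ := exists_fix_dual hH hn hv hφ1v (φ' := φ1 + ψ.comp (line v).mkQ) (by
    show φ1 v + ψ (Submodule.Quotient.mk v) = 1
    rw [mk_eq_zero.2 (Or.inr rfl), map_zero, add_zero, hφ1v])
  have h3 := h2 (h.symm x)
  rw [LinearEquiv.apply_symm_apply, ← hfix h hh hhv (h.symm x), LinearEquiv.apply_symm_apply] at h3
  exact hψ (add_eq_left.1 h3)

/-- A two-transitive linear group over `F₂` in dimension at least three is everything, or the exception
in dimension four. -/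
theorem top_or_four (hR : QuotStep.{u}) (hC : CocycleStep.{u}) :
    ∀ (m : ℕ) {V : Type u} [AddCommGroup V] [Module (ZMod 2) V] [Finite V] (H : Subgroup (V ≃ₗ[ZMod 2] V)),
      Module.finrank (ZMod 2) V = m → 3 ≤ m → TwoTrans H → H = ⊤ ∨ (m = 4 ∧ Nat.card H = 2520) := by
  intro m
  induction m using Nat.strong_induction_on with
  | _ m ih =>
  intro V _ _ _ H hm h3 hH
  classical
  haveI := finite_aut (V := V)
  obtain ⟨v, hv0, -⟩ := exists_ne_pair (show 2 ≤ Module.finrank (ZMod 2) V by omega) (0 : V)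
  have hk := finrank_qv hv0
  haveI := finite_aut (V := Qv v)
  have hG := hR H v hH (by omega) hv0
  have hn : 2 ≤ Module.finrank (ZMod 2) V := by omega
  have hGcases : qGroup H v = ⊤ ∨ (Module.finrank (ZMod 2) (Qv v) = 4 ∧ Nat.card (qGroup H v) = 2520) := by
    by_cases h2 : Module.finrank (ZMod 2) (Qv v) = 2
    · exact Or.inl (eq_top_of_dim_two hG h2)
    · exact ih _ (by omega) (qGroup H v) rfl (by omega) hG
  by_cases hker : ∀ h ∈ H, h v = v → (∀ x, h x = x ∨ h x = x + v) → h = 1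
  · -- trivial kernel
    have hdvd := pow_dvd_card_stab hH hn hv0
    have hcard := card_of_stab hH hn hv0
    rw [← card_qGroup hker] at hdvd hcard
    rcases hGcases with htop | ⟨h4, h2520⟩
    swap
    · rw [h4, h2520] at hdvd; norm_num at hdvd
    rw [htop, Subgroup.card_top, card_aut rfl] at hdvd hcard
    rcases (show Module.finrank (ZMod 2) (Qv v) = 2 ∨ Module.finrank (ZMod 2) (Qv v) = 3 ∨
        4 ≤ Module.finrank (ZMod 2) (Qv v) by omega) with h | h | h
    · rw [h] at hdvd; norm_num [Fin.prod_univ_two] at hdvd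
    · refine Or.inr ⟨by omega, ?_⟩
      rw [hcard, h, show Module.finrank (ZMod 2) V = 4 by omega]
      norm_num [Fin.prod_univ_three]
    · exact absurd hker (exists_kernel hC hH hn hv0 h htop)
  push Not at hker
  obtain ⟨h, hh, hhv, hq, h1⟩ := hker
  have hanti := isAntiflag_qGroup hH hn hv0
  have htv := all_tv hanti hh h1 hhv hq
  rcases hGcases with htop | ⟨h4, h2520⟩
  · exact Or.inl (top_of_all_tv hH hn hv0 htv htop)
  -- the quotient group would contain a transvection
  exfalso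
  obtain ⟨w, hw0, hwv⟩ := exists_ne_pair hn v
  obtain ⟨k, hk', hkv⟩ := exists_map hH hn hv0 hw0
  let G := qGroup H v
  let q : Qv v := Submodule.Quotient.mk w
  have hq0 : q ≠ 0 := by rw [Ne, mk_eq_zero]; tauto
  obtain ⟨φ, hφ, hφl⟩ := Submodule.exists_dual_map_eq_bot_of_notMem
    (show ((Submodule.Quotient.mk v : Qv w) ) ∉ (⊥ : Submodule (ZMod 2) (Qv w)) by
      simp only [Submodule.mem_bot, mk_eq_zero]; exact fun e => e.elim hv0 hwv.symm) inferInstance
  -- a form on `V` vanishing at `v` and `w`, nonzero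
  obtain ⟨z, hz⟩ : ∃ z, z ∉ Submodule.span (ZMod 2) ({v, w} : Set V) := by
    by_contra hc
    push Not at hc
    have h1' := Submodule.finrank_mono (show (⊤ : Submodule (ZMod 2) V) ≤ _ from fun x _ => hc x)
    have h2' := finrank_span_finset_le_card (R := ZMod 2) ({v, w} : Finset V)
    rw [Set.finrank, Finset.coe_insert, Finset.coe_singleton] at h2'
    rw [finrank_top] at h1'
    have := Finset.card_le_two (a := v) (b := w)
    omega
  obtain ⟨χ, hχz, hχl⟩ := Submodule.exists_dual_map_eq_bot_of_notMem hz inferInstance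
  have hχ0 : ∀ y ∈ Submodule.span (ZMod 2) ({v, w} : Set V), χ y = 0 := fun y hy => by
    have : χ y ∈ (Submodule.span (ZMod 2) ({v, w} : Set V)).map χ := Submodule.mem_map_of_mem hy
    rwa [hχl, Submodule.mem_bot] at this
  have hχv : χ v = 0 := hχ0 v (Submodule.subset_span (by simp))
  have hχw : χ w = 0 := hχ0 w (Submodule.subset_span (by simp))
  let ψ : Module.Dual (ZMod 2) (Qv v) := (line v).liftQ (χ.comp (k : V →ₗ[ZMod 2] V)) (fun y hy => by
    rw [LinearMap.mem_ker]
    rcases mem_line.1 hy with rfl | rfl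
    · exact map_zero _
    · show χ (k y) = 0; rw [hkv, hχw])
  obtain ⟨t, ht, htx⟩ := htv ψ
  let t' := k * t * k⁻¹
  have ht' : t' ∈ H := H.mul_mem (H.mul_mem hk' ht) (H.inv_mem hk')
  have ht'x : ∀ x, t' x = x + χ x • w := fun x => by
    show k (t (k.symm x)) = _
    rw [htx, map_add, map_smul, LinearEquiv.apply_symm_apply, hkv]
    show x + χ (k (k.symm x)) • w = _
    rw [LinearEquiv.apply_symm_apply]
  have ht'v : t' v = v := by rw [ht'x, hχv, zero_smul, add_zero]
  let g := quotHom v ⟨t', ht'v⟩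
  have hg : g ∈ G := mem_qGroup ht' ht'v
  have hgq : ∀ p, g p = p ∨ g p = p + q := fun p => by
    obtain ⟨x, rfl⟩ := Submodule.Quotient.mk_surjective _ p
    rw [show g (Submodule.Quotient.mk x) = Submodule.Quotient.mk (t' x) from rfl, ht'x]
    rcases zmod_two_cases (χ x) with e | e <;> rw [e]
    · left; rw [zero_smul, add_zero]
    · right; rw [one_smul, Submodule.Quotient.mk_add]
  have hg1 : g ≠ 1 := fun e => by
    have := LinearEquiv.congr_fun e (Submodule.Quotient.mk z)
    rw [show g (Submodule.Quotient.mk z) = Submodule.Quotient.mk (t' z) from rfl, ht'x,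
      (zmod_two_cases _).resolve_left hχz, one_smul, Submodule.Quotient.mk_add] at this
    exact hq0 (add_eq_left.1 this)
  have hgfix : g q = q := by
    show (Submodule.Quotient.mk (t' w) : Qv v) = _
    rw [ht'x, hχw, zero_smul, add_zero]
  have h4' : 2 ≤ Module.finrank (ZMod 2) (Qv v) := by omega
  have htvG := all_tv (isAntiflag_qGroup hG h4' hq0) hg hg1 hgfix hgq
  have hk2 := finrank_qv hq0
  have hG2 : TwoTrans (qGroup G q) := hR G q hG (by omega) hq0
  have htopq : qGroup G q = ⊤ := by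
    rcases ih _ (by omega : Module.finrank (ZMod 2) (Qv q) < m) (qGroup G q) rfl (by omega) hG2 with h | ⟨h, -⟩
    · exact h
    · omega
  have hGtop := top_of_all_tv hG h4' hq0 htvG htopq
  rw [hGtop, Subgroup.card_top, card_aut rfl, h4] at h2520
  norm_num [Fin.prod_univ_four] at h2520

end Cfsg.Agent.Grp.Antiflag
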