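import Cfsg.Agent.Lib.Grp.Antiflag.Adjugate
import Mathlib

/-! No alternating trilinear form over `F2` in dimension at least four has all residual radicals of
dimension one (basis-free form of `no_alternating_trilinear`). -/

set_option autoImplicit false

namespace Cfsg.Agent.Grp.Antiflag

theorem no_corank_one {W : Type*} [AddCommGroup W] [Module (ZMod 2) W] [Finite W]
    (hN : 4 ≤ Module.finrank (ZMod 2) W)
    (f : W →ₗ[ZMod 2] W →ₗ[ZMod 2] W →ₗ[ZMod 2] ZMod 2)
    (halt : ∀ a c, f a a c = 0) (h12 : ∀ a b c, f a b c = f b a c) (h23 : ∀ a b c, f a b c = f a c b)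
    (hrad : ∀ a, a ≠ 0 → ∀ b, (∀ c, f a b c = 0) → b = 0 ∨ b = a) : False := by
  let β := Module.finBasis (ZMod 2) W
  refine no_alternating_trilinear (fun k i j => f (β k) (β i) (β j)) (by simpa using hN)
    (fun k i j => h23 _ _ _) (fun k i j => ?_) (fun k i => (h23 _ _ _).trans (halt _ _)) fun v y hv h => ?_
  · exact ((h23 _ _ _).trans (h12 _ _ _)).trans (h23 _ _ _)
  have hv' : β.equivFun.symm v ≠ 0 := fun e => hv (β.equivFun.symm.injective (e.trans (map_zero _).symm))
  have h0 : (f (β.equivFun.symm v)).flip (β.equivFun.symm y) = 0 := by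
    refine β.ext fun i => ?_
    rw [LinearMap.flip_apply, LinearMap.zero_apply, ← h i, β.equivFun_symm_apply, β.equivFun_symm_apply]
    simp only [map_sum, map_smul, LinearMap.sum_apply, LinearMap.smul_apply, smul_eq_mul,
      Finset.mul_sum]
    refine Finset.sum_congr rfl fun j _ => Finset.sum_congr rfl fun k _ => ?_
    ring
  have hb : ∀ c, f (β.equivFun.symm v) (β.equivFun.symm y) c = 0 := fun c => by
    rw [h23]
    exact LinearMap.congr_fun h0 c
  rcases hrad _ hv' _ hb with e | e
  · exact Or.inl (β.equivFun.symm.injective (e.trans (map_zero _).symm))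
  · exact Or.inr (β.equivFun.symm.injective e)

end Cfsg.Agent.Grp.Antiflag
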